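import Mathlib
import Cfsg.Agent.H10.FO.Defs

/-!
helper62: piece FO-NONINNER of helper10's project S2079.  The diagram automorphism of `Fi22` is not
inner, because no point of the 14080-point action is fixed by all of `a, b, c, d, e, f, h, i`.
-/

set_option autoImplicit false
set_option linter.style.haveILetI false
set_option linter.unusedVariables false
set_option linter.unusedSimpArgs false

namespace Cfsg.Agent.H62.FO

open Cfsg.Spor Cfsg.Agent.H35 Cfsg.Agent.H10.FO

theorem nonInner : Cfsg.Agent.H10.FO.StNonInner := by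
  intro θ hθ hnofix g hθg
  have hN : 0 < t1685_pd.N := by decide
  obtain ⟨ρ, hw, hst, htr⟩ := Cfsg.Agent.H35.tc_core Cfsg.Agent.H10.Fi22T.top_hyp hN
  obtain ⟨p, hp⟩ : ∃ p, p = ρ g ⟨0, hN⟩ := ⟨_, rfl⟩
  have hfix0 : ∀ s : Fi22.Gen, s ≠ .a → ρ (fi22_gen s) ⟨0, hN⟩ = ⟨0, hN⟩ := by
    intro s hs
    have hmem : fi22_gen s ∈ Cfsg.Agent.H10.Fi22T.Hs := by
      have hsw : [s] ∈ t1685_sw := by
        cases s <;> first | exact absurd rfl hs | decide
      have := Cfsg.Agent.H10.mem_swGrp fi22_gen t1685_sw [s] hsw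
      rwa [uw_singleton] at this
    rw [hst] at hmem
    exact hmem
  have hfixp : ∀ s : Fi22.Gen, s ≠ .a → ρ (fi22_gen (sig s)) p = p := by
    intro s hs
    have h1 : fi22_gen (sig s) = g * fi22_gen s * g⁻¹ := by
      rw [← hθ s, hθg]; rfl
    rw [h1, hp, map_mul, map_mul, map_inv]
    simp only [Equiv.Perm.mul_apply]
    rw [perm_inv_apply_self, hfix0 s hs]
  obtain ⟨t, ht, hne⟩ := hnofix p.val p.isLt
  apply hne
  rw [hw [t] p, uw_singleton]
  have h2 : ρ (fi22_gen t) p = p := by
    simp only [List.mem_cons, List.not_mem_nil, or_false] at ht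
    rcases ht with rfl | rfl | rfl | rfl | rfl | rfl | rfl | rfl
    · exact hfixp .g (by decide)
    · exact hfixp .f (by decide)
    · exact hfixp .e (by decide)
    · exact hfixp .d (by decide)
    · exact hfixp .c (by decide)
    · exact hfixp .b (by decide)
    · exact hfixp .h (by decide)
    · exact hfixp .i (by decide)
  have h3 : (ρ (fi22_gen t))⁻¹ p = p := by
    rw [Equiv.Perm.inv_eq_iff_eq]; exact h2.symm
  rw [h3]

end Cfsg.Agent.H62.FO
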