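import Mathlib
import Cfsg.Agent.H10.FO.Defs

/-!
helper62: piece FO-THETA of helper10's project S2079.  The diagram automorphism of the presented
`Fi22` exists as soon as the images of the three extra relators hold.
-/

set_option autoImplicit false
set_option linter.style.haveILetI false
set_option linter.unusedVariables false
set_option linter.unusedSimpArgs false

namespace Cfsg.Agent.H62.FO

open Cfsg.Spor Cfsg.Agent.H35 Cfsg.Agent.H10.FO

theorem sig_sig (x : Fi22.Gen) : sig (sig x) = x := by cases x <;> rfl

theorem coxLabel_sig (x y : Fi22.Gen) :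
    coxLabel Fi22.edges (sig x) (sig y) = coxLabel Fi22.edges x y := by
  cases x <;> cases y <;> decide

theorem theta : Cfsg.Agent.H10.FO.StTheta := by
  intro p0 p1 p2
  have hsat : CoxSat Fi22.edges Fi22.extra (fun x => fi22_gen (sig x)) := by
    constructor
    · intro x y
      have := fi22_sat.1 (sig x) (sig y)
      rw [coxLabel_sig] at this
      exact this
    · intro r hr
      delta Fi22.extra at hr
      simp only [List.mem_cons, List.not_mem_nil, or_false] at hr
      simp only [uw_eq, List.map, List.prod_cons, List.prod_nil, mul_one] at p0 p1 p2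
      rcases hr with rfl | rfl | rfl
      · simpa only [map_mul, map_pow, FreeGroup.lift_apply_of, mul_assoc, sig] using p0
      · simpa only [map_mul, map_pow, FreeGroup.lift_apply_of, mul_assoc, sig] using p1
      · simpa only [map_mul, map_pow, FreeGroup.lift_apply_of, mul_assoc, sig] using p2
  obtain ⟨φ, hφ⟩ := cox_UP Fi22.edges Fi22.extra (fun x => fi22_gen (sig x)) hsat
  have hφ' : ∀ x, φ (fi22_gen x) = fi22_gen (sig x) := hφ
  have hcomp : φ.comp φ = MonoidHom.id Fi22 := by
    apply PresentedGroup.ext
    intro x
    have h1 : φ (φ (fi22_gen x)) = fi22_gen x := by rw [hφ', hφ', sig_sig]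
    exact h1
  exact ⟨MonoidHom.toMulEquiv φ φ hcomp hcomp, fun x => hφ' x⟩

end Cfsg.Agent.H62.FO
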