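import Mathlib

set_option autoImplicit false

namespace Cfsg.Agent.H62

open MulAction

/-- Burnside's lemma for a transitive action. -/
theorem burnside_transitive {G : Type*} [Group G] [Fintype G] {Ω : Type*} [Fintype Ω]
    [MulAction G Ω] [IsPretransitive G Ω] [Nonempty Ω] [∀ g : G, Fintype (fixedBy Ω g)] :
    ∑ g : G, Fintype.card (fixedBy Ω g) = Fintype.card G := by
  classical
  have hB := MulAction.sum_card_fixedBy_eq_card_orbits_mul_card_group G Ω
  have hsub : Subsingleton (orbitRel.Quotient G Ω) :=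
    (MulAction.pretransitive_iff_subsingleton_quotient G Ω).1 inferInstance
  have hne : Nonempty (orbitRel.Quotient G Ω) := by
    obtain ⟨ω⟩ := ‹Nonempty Ω›
    exact ⟨Quotient.mk'' ω⟩
  have horb : Fintype.card (Quotient (orbitRel G Ω)) = 1 := by
    rw [Fintype.card_eq_one_iff]
    obtain ⟨q⟩ := hne
    exact ⟨q, fun y => Subsingleton.elim _ _⟩
  rw [horb, one_mul] at hB
  exact hB

/-- **Jordan's theorem**: a finite transitive group on at least two points has a derangement. -/
theorem exists_derangement {G : Type*} [Group G] [Finite G] {Ω : Type*} [Finite Ω]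
    [MulAction G Ω] [IsPretransitive G Ω] (h2 : 2 ≤ Nat.card Ω) : ∃ g : G, ∀ ω : Ω, g • ω ≠ ω := by
  classical
  have := Fintype.ofFinite G
  have := Fintype.ofFinite Ω
  have hne : Nonempty Ω := by
    have h0 : 0 < Nat.card Ω := by omega
    exact (Nat.card_pos_iff.1 h0).1
  by_contra hcon
  push Not at hcon
  have hB := burnside_transitive (G := G) (Ω := Ω)
  have h1 : ∀ g : G, 1 + (if g = 1 then 1 else 0) ≤ Fintype.card (fixedBy Ω g) := by
    intro g
    split_ifs with hg
    · subst hg
      have h3 : Fintype.card (fixedBy Ω (1 : G)) = Fintype.card Ω := by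
        apply Fintype.card_of_bijective (f := fun x : fixedBy Ω (1 : G) => (x : Ω))
        exact ⟨Subtype.val_injective, fun ω => ⟨⟨ω, one_smul _ ω⟩, rfl⟩⟩
      rw [h3, ← Nat.card_eq_fintype_card]
      omega
    · obtain ⟨ω, hω⟩ := hcon g
      exact Fintype.card_pos_iff.2 ⟨⟨ω, hω⟩⟩
  have h4 : ∑ g : G, (1 + (if g = 1 then 1 else 0)) ≤ ∑ g : G, Fintype.card (fixedBy Ω g) :=
    Finset.sum_le_sum (fun g _ => h1 g)
  have h5 : ∑ g : G, (1 + (if g = 1 then 1 else 0)) = Fintype.card G + 1 := by
    rw [Finset.sum_add_distrib]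
    simp
  omega

/-- Jordan's theorem, subgroup form: the conjugates of a proper subgroup of a finite group do not
cover the group. -/
theorem exists_not_conj_mem {N : Type*} [Group N] [Finite N] (M : Subgroup N) (hM : M ≠ ⊤) :
    ∃ n : N, ∀ x : N, x⁻¹ * n * x ∉ M := by
  have h2 : 2 ≤ Nat.card (N ⧸ M) := by
    have h1 : M.index ≠ 1 := fun h => hM (Subgroup.index_eq_one.1 h)
    have h0 : M.index ≠ 0 := Subgroup.index_ne_zero_of_finite
    have : Nat.card (N ⧸ M) = M.index := rfl
    omega
  obtain ⟨n, hn⟩ := exists_derangement (G := N) (Ω := N ⧸ M) h2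
  refine ⟨n, fun x hx => hn (x : N ⧸ M) ?_⟩
  rw [MulAction.Quotient.smul_coe, QuotientGroup.eq]
  have : (n • x)⁻¹ * x = (x⁻¹ * n * x)⁻¹ := by
    rw [smul_eq_mul]; group
  rw [this]
  exact inv_mem hx

end Cfsg.Agent.H62
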