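import Mathlib
import Cfsg.Prelude.Def_LocalStructure

/-!
S3875-EXF (helper62, for helper23's S3875 project): the Frobenius example `F ⋊ ⟨a⟩` of order
`p * m` with non-normal Sylow `p`-subgroups.
-/

set_option autoImplicit false
set_option linter.unusedVariables false
set_option linter.style.haveILetI false

namespace Cfsg.Agent.H62.PC

/-- the action of a group of units of a ring on its additive group, written multiplicatively. -/
noncomputable def frobAct (F : Type) [Ring F] (A : Subgroup Fˣ) :
    ↥A →* MulAut (Multiplicative F) :=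
  (MulAutMultiplicative F).symm.toMonoidHom.comp (AddAut.mulLeft.comp A.subtype)

theorem frobAct_apply (F : Type) [Ring F] (A : Subgroup Fˣ) (b : ↥A) (y : Multiplicative F) :
    frobAct F A b y = Multiplicative.ofAdd (((b : Fˣ) : F) * Multiplicative.toAdd y) := by
  rfl

/-- the group `F ⋊ ⟨a⟩`. -/
abbrev FrobGrp (F : Type) [Ring F] (a : Fˣ) : Type :=
  Multiplicative F ⋊[frobAct F (Subgroup.zpowers a)] ↥(Subgroup.zpowers a)

theorem frobGrp_card (F : Type) [Ring F] (a : Fˣ) :
    Nat.card (FrobGrp F a) = orderOf a * Nat.card F := by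
  rw [SemidirectProduct.card, Nat.card_zpowers,
    Nat.card_eq_of_bijective _ Multiplicative.toAdd.bijective, mul_comm]

theorem frobGrp_not_closed (F : Type) [Field F] [Finite F] (p : ℕ) [Fact p.Prime] (a : Fˣ)
    (ha : orderOf a = p) (hm1 : Nat.card F % p = 1) [Finite (FrobGrp F a)] :
    ¬ Cfsg.IsPClosed p (FrobGrp F a) := by
  have hp : p.Prime := Fact.out
  have hcardH : Nat.card (FrobGrp F a) = p * Nat.card F := by rw [frobGrp_card, ha]
  intro hcl
  -- the complement `K`
  obtain ⟨K, hK⟩ : ∃ K : Subgroup (FrobGrp F a), K = (SemidirectProduct.inr).range := ⟨_, rfl⟩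
  have hcardK : Nat.card K = p := by
    rw [hK, Nat.card_congr (MonoidHom.ofInjective SemidirectProduct.inr_injective).toEquiv.symm,
      Nat.card_zpowers, ha]
  have hKp : IsPGroup p K := IsPGroup.of_card (n := 1) (by rw [hcardK, pow_one])
  obtain ⟨P, hKP⟩ := hKp.exists_le_sylow
  have hPn : (P : Subgroup (FrobGrp F a)).Normal := hcl P
  obtain ⟨n, hn⟩ := (IsPGroup.iff_card.mp P.isPGroup')
  have hn1 : n = 1 := by
    have h1 : Nat.card K ∣ Nat.card (P : Subgroup (FrobGrp F a)) := Subgroup.card_dvd_of_le hKP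
    rw [hcardK] at h1
    have h2 : Nat.card (P : Subgroup (FrobGrp F a)) ∣ p * Nat.card F := by
      rw [← hcardH]; exact Subgroup.card_subgroup_dvd_card _
    rw [hn] at h1 h2
    have hn0 : n ≠ 0 := by
      rintro rfl
      rw [pow_zero] at h1
      exact hp.one_lt.ne' (Nat.dvd_one.mp h1)
    by_contra hne
    have h2n : 2 ≤ n := by omega
    have h3 : p ^ 2 ∣ p * Nat.card F := (pow_dvd_pow p h2n).trans h2
    rw [pow_two] at h3
    have h4 : p ∣ Nat.card F := Nat.dvd_of_mul_dvd_mul_left hp.pos h3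
    rw [Nat.mod_eq_zero_of_dvd h4] at hm1
    exact absurd hm1 (by norm_num)
  have hPK : (P : Subgroup (FrobGrp F a)) = K := by
    symm
    apply Subgroup.eq_of_le_of_card_ge hKP
    rw [hn, hn1, pow_one, hcardK]
  -- a conjugate of a generator
  have hamem : a ∈ Subgroup.zpowers a := Subgroup.mem_zpowers a
  have hg : (SemidirectProduct.inl (Multiplicative.ofAdd (1 : F)) : FrobGrp F a) *
      SemidirectProduct.inr ⟨a, hamem⟩ *
      (SemidirectProduct.inl (Multiplicative.ofAdd (1 : F)))⁻¹ ∈ K := by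
    rw [← hPK]
    apply hPn.conj_mem
    apply hKP
    rw [hK]
    exact ⟨_, rfl⟩
  rw [hK] at hg
  obtain ⟨b, hb⟩ := hg
  have hleft := congrArg SemidirectProduct.left hb
  have e1 : ((SemidirectProduct.inl (Multiplicative.ofAdd (1 : F)) : FrobGrp F a) *
      SemidirectProduct.inr (⟨a, hamem⟩ : ↥(Subgroup.zpowers a)) *
      (SemidirectProduct.inl (Multiplicative.ofAdd (1 : F)))⁻¹).left =
      Multiplicative.ofAdd (1 : F) * frobAct F (Subgroup.zpowers a) ⟨a, hamem⟩
        (Multiplicative.ofAdd (1 : F))⁻¹ := by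
    rw [← map_inv, SemidirectProduct.mul_left, SemidirectProduct.mul_left,
      SemidirectProduct.left_inl, SemidirectProduct.right_inl, SemidirectProduct.left_inr,
      SemidirectProduct.mul_right, SemidirectProduct.right_inl, SemidirectProduct.right_inr,
      SemidirectProduct.left_inl]
    simp only [map_one, mul_one, one_mul]
  rw [e1, SemidirectProduct.left_inr, frobAct_apply] at hleft
  have h5 : (1 : F) + (a : F) * (-1) = 0 := by
    have := congrArg Multiplicative.toAdd hleft
    simpa using this.symm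
  have h6 : ((a : Fˣ) : F) = 1 := by
    linear_combination -h5
  have h7 : a = 1 := Units.ext h6
  rw [h7, orderOf_one] at ha
  exact hp.one_lt.ne' ha.symm

theorem exists_frob (p : ℕ) [Fact p.Prime] (m : ℕ) (hm : IsPrimePow m) (hm1 : m % p = 1) :
    ∃ (H : Type) (_ : Group H) (_ : Finite H), Nat.card H = p * m ∧ ¬ Cfsg.IsPClosed p H := by
  have hp : p.Prime := Fact.out
  obtain ⟨r, k, hr, hk, rfl⟩ := hm
  have hr' : r.Prime := Nat.prime_iff.mpr hr
  haveI : Fact r.Prime := ⟨hr'⟩
  have hcardF : Nat.card (GaloisField r k) = r ^ k := GaloisField.card r k hk.ne'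
  have hunits : Nat.card (GaloisField r k)ˣ = r ^ k - 1 := by
    rw [Nat.card_units, hcardF]
  have hdvd : p ∣ Nat.card (GaloisField r k)ˣ := by
    rw [hunits]
    apply Nat.dvd_of_mod_eq_zero
    apply Nat.sub_mod_eq_zero_of_mod_eq
    rw [hm1, Nat.mod_eq_of_lt hp.one_lt]
  obtain ⟨a, ha⟩ := exists_prime_orderOf_dvd_card' p hdvd
  have hcardH : Nat.card (FrobGrp (GaloisField r k) a) = p * r ^ k := by
    rw [frobGrp_card, ha, hcardF]
  have hpos : 0 < p * r ^ k := Nat.mul_pos hp.pos (pow_pos hr'.pos k)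
  haveI hfin : Finite (FrobGrp (GaloisField r k) a) :=
    Nat.finite_of_card_ne_zero (by rw [hcardH]; exact hpos.ne')
  exact ⟨FrobGrp (GaloisField r k) a, inferInstance, hfin, hcardH,
    frobGrp_not_closed (GaloisField r k) p a ha (by rw [hcardF]; exact hm1)⟩

end Cfsg.Agent.H62.PC
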