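import Mathlib
import Cfsg.Agent.H97.SpRDefs

/-!
S2281-REG (helper62, for helper97's S2281 project): `u₁ = d(J) U(E_ll)` is a regular unipotent
element: `u₁ - 1` is nilpotent and `(u₁ - 1) ^ (2n - 1) ≠ 0`.
-/

set_option autoImplicit false
set_option linter.unusedVariables false
set_option linter.unusedSimpArgs false

namespace Cfsg.Agent.H62.SpR

open Matrix Cfsg.Agent.H97.SpR

variable {F : Type*} [Field F]

theorem shiftN_apply' (n : ℕ) (i j : Fin n) :
    shiftN F n i j = if (i : ℕ) + 1 = (j : ℕ) then 1 else 0 := rfl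

theorem shiftN_pow_apply (n k : ℕ) (i j : Fin n) :
    (shiftN F n ^ k) i j = if (i : ℕ) + k = (j : ℕ) then 1 else 0 := by
  induction k generalizing i j with
  | zero => simp [Matrix.one_apply, Fin.ext_iff]
  | succ k ih =>
    rw [pow_succ, Matrix.mul_apply]
    simp only [ih, shiftN_apply']
    by_cases h : (i : ℕ) + (k + 1) = (j : ℕ)
    · rw [if_pos h]
      have ha : (i : ℕ) + k < n := by
        have := j.2
        omega
      rw [Finset.sum_eq_single (⟨(i : ℕ) + k, ha⟩ : Fin n)]
      · have h1 : (i : ℕ) + k + 1 = (j : ℕ) := by omega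
        simp [h1]
      · intro b _ hb
        have h1 : ¬ ((i : ℕ) + k = (b : ℕ)) := fun h' => hb (Fin.ext h'.symm)
        simp [h1]
      · intro h'
        exact absurd (Finset.mem_univ _) h'
    · rw [if_neg h]
      apply Finset.sum_eq_zero
      intro a _
      by_cases h1 : (i : ℕ) + k = (a : ℕ)
      · have h2 : ¬ ((a : ℕ) + 1 = (j : ℕ)) := by omega
        simp [h2]
      · simp [h1]

theorem shiftN_pow_self (n : ℕ) : shiftN F n ^ n = 0 := by
  ext i j
  rw [shiftN_pow_apply, if_neg (by have := j.2; omega)]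
  rfl

theorem fromBlocks_pow_upper {n : ℕ} (A B D : Matrix (Fin n) (Fin n) F) (k : ℕ) :
    ∃ Bk : Matrix (Fin n) (Fin n) F,
      (Matrix.fromBlocks A B 0 D) ^ k = Matrix.fromBlocks (A ^ k) Bk 0 (D ^ k) := by
  induction k with
  | zero => exact ⟨0, by rw [pow_zero, pow_zero, pow_zero, Matrix.fromBlocks_one]⟩
  | succ k ih =>
    obtain ⟨Bk, hBk⟩ := ih
    refine ⟨A ^ k * B + Bk * D, ?_⟩
    rw [pow_succ, hBk, Matrix.fromBlocks_multiply]
    simp [pow_succ]

theorem u1M_regular (m : ℕ) :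
    IsNilpotent (u1M F m - 1) ∧ (u1M F m - 1) ^ (2 * (m + 3) - 1) ≠ 0 := by
  obtain ⟨N, hN⟩ : ∃ N, N = shiftN F (m + 3) := ⟨_, rfl⟩
  obtain ⟨J, hJ⟩ : ∃ J, J = uniM (m + 3) (1 : F) := ⟨_, rfl⟩
  obtain ⟨Ji, hJi⟩ : ∃ Ji : Matrix (Fin (m + 3)) (Fin (m + 3)) F,
      Ji = ((uniSL (m + 3) (1 : F))⁻¹ : Matrix.SpecialLinearGroup (Fin (m + 3)) F) := ⟨_, rfl⟩
  obtain ⟨B, hB⟩ : ∃ B, B = J * Matrix.single (Fin.last (m + 2)) (Fin.last (m + 2)) (1 : F) :=
    ⟨_, rfl⟩
  have hJN : J = 1 + N := by rw [hJ, hN, uniM, one_smul]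
  have hJJi : J * Ji = 1 := by
    rw [hJ, hJi, ← uniSL_coe, ← Matrix.SpecialLinearGroup.coe_mul, mul_inv_cancel,
      Matrix.SpecialLinearGroup.coe_one]
  have hJiJ : Ji * J = 1 := by
    rw [hJ, hJi, ← uniSL_coe, ← Matrix.SpecialLinearGroup.coe_mul, inv_mul_cancel,
      Matrix.SpecialLinearGroup.coe_one]
  have hE : u1M F m - 1 = Matrix.fromBlocks N B 0 (Jiᵀ - 1) := by
    unfold u1M dU
    rw [uniSL_coe, ← hJ, ← hJi, ← hB]
    ext (i | i) (j | j)
    · by_cases hij : i = j <;> simp [hJN, Matrix.one_apply, hij]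
    · simp
    · simp
    · by_cases hij : i = j <;> simp [Matrix.one_apply, hij]
  have hNn : N ^ (m + 3) = 0 := by
    rw [hN]
    exact shiftN_pow_self _
  have hD : Jiᵀ - 1 = (-(Ji * N))ᵀ := by
    have h0 : Ji - 1 = -(Ji * N) := by
      have h1 : Ji * (1 + N) = 1 := by
        rw [← hJN]
        exact hJiJ
      rw [mul_add, mul_one] at h1
      calc Ji - 1 = Ji - (Ji + Ji * N) := by rw [h1]
        _ = -(Ji * N) := by abel
    rw [← h0, Matrix.transpose_sub, Matrix.transpose_one]
  have hcomm : Commute Ji N := by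
    have h1 : Commute J N := by
      rw [hJN]
      exact (Commute.one_left N).add_left (Commute.refl N)
    show Ji * N = N * Ji
    calc Ji * N = Ji * N * (J * Ji) := by rw [hJJi, mul_one]
      _ = Ji * (N * J) * Ji := by simp only [mul_assoc]
      _ = Ji * (J * N) * Ji := by rw [h1.eq]
      _ = (Ji * J) * N * Ji := by simp only [mul_assoc]
      _ = N * Ji := by rw [hJiJ, one_mul]
  have hDpow : ∀ k, (Jiᵀ - 1) ^ k = ((-1) ^ k * (Ji ^ k * N ^ k))ᵀ := by
    intro k
    rw [hD, ← Matrix.transpose_pow, neg_pow, hcomm.mul_pow]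
  have hDn : (Jiᵀ - 1) ^ (m + 3) = 0 := by
    rw [hDpow, hNn, mul_zero, mul_zero, Matrix.transpose_zero]
  constructor
  · rw [hE]
    obtain ⟨Bk, hBk⟩ := fromBlocks_pow_upper N B (Jiᵀ - 1) (m + 3)
    refine ⟨(m + 3) + (m + 3), ?_⟩
    rw [pow_add, hBk, hNn, hDn, Matrix.fromBlocks_multiply]
    simp
  · rw [hE]
    have h2 : 2 * (m + 3) - 1 = (m + 2) + 1 + (m + 2) := by omega
    obtain ⟨Bl, hBl⟩ := fromBlocks_pow_upper N B (Jiᵀ - 1) (m + 2)
    rw [h2, pow_add, pow_add, pow_one, hBl, Matrix.fromBlocks_multiply,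
      Matrix.fromBlocks_multiply]
    have key : (N ^ (m + 2) * N + Bl * 0) * Bl + (N ^ (m + 2) * B + Bl * (Jiᵀ - 1)) *
        (Jiᵀ - 1) ^ (m + 2) = N ^ (m + 2) * B * (Jiᵀ - 1) ^ (m + 2) := by
      rw [mul_zero, add_zero, ← pow_succ, hNn, zero_mul, zero_add, add_mul, mul_assoc Bl,
        ← pow_succ', hDn, mul_zero, add_zero]
    rw [key]
    intro h0
    have h3 := congrFun (congrFun h0 (Sum.inl 0)) (Sum.inr 0)
    rw [Matrix.fromBlocks_apply₁₂] at h3
    -- row 0 of N ^ l * B
    have hrow : ∀ b : Fin (m + 3), (N ^ (m + 2) * B) 0 b =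
        if b = Fin.last (m + 2) then 1 else 0 := by
      intro b
      rw [Matrix.mul_apply, Finset.sum_eq_single (Fin.last (m + 2))]
      · rw [hN, shiftN_pow_apply, if_pos (by simp), one_mul, hB]
        by_cases hb : b = Fin.last (m + 2)
        · rw [hb, Matrix.mul_single_apply_same, if_pos rfl, hJ, uniM_apply]
          simp
        · rw [Matrix.mul_single_apply_of_ne _ _ _ _ _ hb, if_neg hb]
      · intro a _ ha
        rw [hN, shiftN_pow_apply, if_neg, zero_mul]
        intro h4
        apply ha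
        apply Fin.ext
        simp at h4 ⊢
        omega
      · intro h'
        exact absurd (Finset.mem_univ _) h'
    -- column 0 of powers of Ji
    have hJcol : ∀ i : Fin (m + 3), J i 0 = if i = 0 then 1 else 0 := by
      intro i
      rw [hJ, uniM_apply]
      simp
    have hJicol : ∀ i : Fin (m + 3), Ji i 0 = if i = 0 then 1 else 0 := by
      intro i
      have h4 : (Ji * J) i 0 = Ji i 0 := by
        rw [Matrix.mul_apply, Finset.sum_eq_single (0 : Fin (m + 3))]
        · rw [hJcol, if_pos rfl, mul_one]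
        · intro a _ ha
          rw [hJcol, if_neg ha, mul_zero]
        · intro h'
          exact absurd (Finset.mem_univ _) h'
      rw [← h4, hJiJ, Matrix.one_apply]
    have hJipow : ∀ (k : ℕ) (i : Fin (m + 3)), (Ji ^ k) i 0 = if i = 0 then 1 else 0 := by
      intro k
      induction k with
      | zero =>
        intro i
        rw [pow_zero, Matrix.one_apply]
      | succ k ih =>
        intro i
        rw [pow_succ, Matrix.mul_apply, Finset.sum_eq_single (0 : Fin (m + 3))]
        · rw [hJicol, if_pos rfl, mul_one, ih]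
        · intro a _ ha
          rw [hJicol, if_neg ha, mul_zero]
        · intro h'
          exact absurd (Finset.mem_univ _) h'
    have hentry : (Ji ^ (m + 2) * N ^ (m + 2)) 0 (Fin.last (m + 2)) = 1 := by
      rw [Matrix.mul_apply, Finset.sum_eq_single (0 : Fin (m + 3))]
      · rw [hJipow, if_pos rfl, one_mul, hN, shiftN_pow_apply, if_pos (by simp)]
      · intro a _ ha
        rw [hN, shiftN_pow_apply, if_neg, mul_zero]
        intro h4
        apply ha
        apply Fin.ext
        simp at h4 ⊢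
        omega
      · intro h'
        exact absurd (Finset.mem_univ _) h'
    have hDl : ((Jiᵀ - 1) ^ (m + 2)) (Fin.last (m + 2)) 0 ≠ 0 := by
      rw [hDpow, Matrix.transpose_apply]
      rcases neg_one_pow_eq_or (Matrix (Fin (m + 3)) (Fin (m + 3)) F) (m + 2) with h4 | h4
      · rw [h4, one_mul, hentry]
        exact one_ne_zero
      · rw [h4, neg_one_mul, Matrix.neg_apply, hentry]
        exact neg_ne_zero.mpr one_ne_zero
    apply hDl
    rw [Matrix.mul_apply, Finset.sum_eq_single (Fin.last (m + 2))] at h3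
    · rw [hrow, if_pos rfl, one_mul] at h3
      exact h3
    · intro b _ hb
      rw [hrow, if_neg hb, zero_mul]
    · intro h'
      exact absurd (Finset.mem_univ _) h'

end Cfsg.Agent.H62.SpR
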