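import Mathlib
import Cfsg.Agent.H62.PSU3a
import Cfsg.Agent.H62.PSU3b

set_option autoImplicit false
set_option linter.unusedSectionVars false
set_option linter.style.haveILetI false
set_option linter.unusedSimpArgs false
set_option linter.unusedVariables false

namespace Cfsg.Agent.H62

open Matrix Polynomial

section Arith3

theorem gcd3m_pos (q : ℕ) : 0 < Nat.gcd 3 (q - 1) := Nat.gcd_pos_of_pos_left _ (by norm_num)

theorem sq_add_add_one_eq (q : ℕ) (hq : 1 ≤ q) : q ^ 2 + q + 1 = (q - 1) * (q + 2) + 3 := by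
  obtain ⟨s, rfl⟩ : ∃ s, q = s + 1 := ⟨q - 1, by omega⟩
  rw [Nat.add_sub_cancel]
  ring

theorem gcd3m_dvd_sq_sub_one (q : ℕ) (hq : 1 ≤ q) : Nat.gcd 3 (q - 1) ∣ q ^ 2 - 1 := by
  rw [sq_sub_one_eq q hq]
  exact Dvd.dvd.mul_right (Nat.gcd_dvd_right _ _) _

theorem gcd3m_dvd_sq_add_add_one (q : ℕ) (hq : 1 ≤ q) : Nat.gcd 3 (q - 1) ∣ q ^ 2 + q + 1 := by
  rw [sq_add_add_one_eq q hq]
  exact Nat.dvd_add (Dvd.dvd.mul_right (Nat.gcd_dvd_right _ _) _) (Nat.gcd_dvd_left _ _)

end Arith3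

section Core3

variable {E : Type*} [Field E]

theorem core_pows3 (x y z : E) (q n N : ℕ) (hq1 : 1 ≤ q) (hn : x ^ n = 1) (hy : y = x ^ q)
    (hxyz : x * y * z = 1) (h1 : n ∣ (q - 1) * N) (h2 : n ∣ 3 * N) :
    y ^ N = x ^ N ∧ z ^ N = x ^ N := by
  have e1 : x ^ ((q - 1) * N) = 1 := by
    obtain ⟨k, hk⟩ := h1
    rw [hk, pow_mul, hn, one_pow]
  have e2 : x ^ (3 * N) = 1 := by
    obtain ⟨k, hk⟩ := h2
    rw [hk, pow_mul, hn, one_pow]
  have e3 : y ^ N = x ^ N := by
    rw [hy, ← pow_mul]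
    have : q * N = (q - 1) * N + N := by
      obtain ⟨s, rfl⟩ : ∃ s, q = s + 1 := ⟨q - 1, by omega⟩
      rw [Nat.add_sub_cancel]
      ring
    rw [this, pow_add, e1, one_mul]
  refine ⟨e3, ?_⟩
  have e4 : x ^ N * x ^ N * z ^ N = 1 := by
    rw [← e3]
    nth_rewrite 1 [e3]
    rw [← mul_pow, ← mul_pow, hxyz, one_pow]
  have e5 : x ^ N * x ^ N * x ^ N = 1 := by
    rw [← pow_add, ← pow_add, ← e2]
    congr 1
    ring
  calc z ^ N = (x ^ N * x ^ N * x ^ N) * z ^ N := by rw [e5, one_mul]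
    _ = (x ^ N * x ^ N * z ^ N) * x ^ N := by ring
    _ = x ^ N := by rw [e4, one_mul]

/-- the case of a moved root, with image named. -/
theorem sl3_core_D (q : ℕ) (hq2 : 2 ≤ q) (hinj : ∀ a b : E, a ^ q = b ^ q → a = b)
    (x y z : E) (hxyz : x * y * z = 1) (hy : y = x ^ q) (hxy : x ≠ y)
    (hcl : y ^ q = x ∨ y ^ q = y ∨ y ^ q = z) :
    ∃ (N : ℕ) (c : E), (N = (q ^ 2 + q + 1) / Nat.gcd 3 (q - 1)
        ∨ N = (q ^ 2 - 1) / Nat.gcd 3 (q - 1)) ∧
      (X - C x) * (X - C y) * (X - C z) ∣ (X ^ N - C c : E[X]) := by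
  have hx0 : x ≠ 0 := by rintro rfl; simp at hxyz
  have hy0 : y ≠ 0 := by rintro rfl; simp at hxyz
  have hz0 : z ≠ 0 := by rintro rfl; simp at hxyz
  have hτy : y ^ q = x ^ (q ^ 2) := by rw [hy, ← pow_mul, sq]
  have hd := gcd3m_pos q
  have hne : x ^ (q ^ 2) ≠ y := by
    intro h
    rw [← hτy] at h
    have h2 : y ^ q = x ^ q := by rw [h, hy]
    exact hxy (hinj _ _ h2).symm
  rw [hτy] at hcl
  have hq1 : 1 ≤ q ^ 2 := Nat.one_le_pow _ _ (by omega)
  by_cases hx : x ^ (q ^ 2) = x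
  · have hn : x ^ (q ^ 2 - 1) = 1 := by
      have : x ^ (q ^ 2 - 1) * x = 1 * x := by
        rw [← pow_succ, Nat.sub_add_cancel hq1, hx, one_mul]
      exact mul_right_cancel₀ hx0 this
    have hzq : z ^ q = z := by
      have e1 : z ^ q * (x * y) = 1 := by
        have e := congrArg (fun t => t ^ q) hxyz
        simp only [mul_pow, one_pow] at e
        rw [← hy, hτy, hx] at e
        linear_combination e
      have e2 : z * (x * y) = 1 := by linear_combination hxyz
      exact mul_right_cancel₀ (mul_ne_zero hx0 hy0) (e1.trans e2.symm)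
    have hzx' : z ≠ x := by
      intro h
      rw [h] at hzq
      exact hxy (by rw [hy, hzq])
    have hzy : z ≠ y := by
      intro h
      rw [h, hτy, hx] at hzq
      exact hxy hzq
    have hpows := core_pows3 x y z q (q ^ 2 - 1) ((q ^ 2 - 1) / Nat.gcd 3 (q - 1)) (by omega)
      hn hy hxyz
      (dvd_mul_div_of_dvd _ (q - 1) (q ^ 2 - 1) hd (Nat.gcd_dvd_right _ _)
        (gcd3m_dvd_sq_sub_one q (by omega)))
      (dvd_mul_div_of_dvd _ 3 (q ^ 2 - 1) hd (Nat.gcd_dvd_left _ _)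
        (gcd3m_dvd_sq_sub_one q (by omega)))
    exact ⟨_, x ^ ((q ^ 2 - 1) / Nat.gcd 3 (q - 1)), Or.inr rfl,
      dvd_of_three_roots x y z hxy (Ne.symm hzx') (Ne.symm hzy) _ _ rfl hpows.1 hpows.2⟩
  · have hz : x ^ (q ^ 2) = z := by
      rcases hcl with h | h | h
      · exact absurd h hx
      · exact absurd h hne
      · exact h
    have hn : x ^ (q ^ 2 + q + 1) = 1 := by
      rw [pow_succ, pow_add, hz, ← hy]
      linear_combination hxyz
    have hzx' : z ≠ x := by
      rw [← hz]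
      exact hx
    have hzy : z ≠ y := by
      rw [← hz]
      exact hne
    have hpows := core_pows3 x y z q (q ^ 2 + q + 1) ((q ^ 2 + q + 1) / Nat.gcd 3 (q - 1))
      (by omega) hn hy hxyz
      (dvd_mul_div_of_dvd _ (q - 1) (q ^ 2 + q + 1) hd (Nat.gcd_dvd_right _ _)
        (gcd3m_dvd_sq_add_add_one q (by omega)))
      (dvd_mul_div_of_dvd _ 3 (q ^ 2 + q + 1) hd (Nat.gcd_dvd_left _ _)
        (gcd3m_dvd_sq_add_add_one q (by omega)))
    exact ⟨_, x ^ ((q ^ 2 + q + 1) / Nat.gcd 3 (q - 1)), Or.inl rfl,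
      dvd_of_three_roots x y z hxy (Ne.symm hzx') (Ne.symm hzy) _ _ rfl hpows.1 hpows.2⟩

/-- the case of a repeated root in the base field. -/
theorem sl3_core_C (p : ℕ) [Fact p.Prime] [CharP E p] (q : ℕ) (x y : E)
    (hx : x ^ (q - 1) = 1) (hxy : x * x * y = 1) :
    ∃ (N : ℕ) (c : E), (N = p * (q - 1) / Nat.gcd 3 (q - 1) ∨ (p = 2 ∧ N = 4)) ∧
      (X - C x) * (X - C x) * (X - C y) ∣ (X ^ N - C c : E[X]) := by
  have hpp : p.Prime := Fact.out
  have hd := gcd3m_pos q
  have hdvd : Nat.gcd 3 (q - 1) ∣ q - 1 := Nat.gcd_dvd_right _ _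
  rw [Nat.mul_div_assoc _ hdvd]
  have h3N : x ^ (3 * ((q - 1) / Nat.gcd 3 (q - 1))) = 1 := by
    have : (q - 1) ∣ 3 * ((q - 1) / Nat.gcd 3 (q - 1)) :=
      dvd_mul_div_of_dvd _ 3 (q - 1) hd (Nat.gcd_dvd_left _ _) hdvd
    obtain ⟨k, hk⟩ := this
    rw [hk, pow_mul, hx, one_pow]
  generalize (q - 1) / Nat.gcd 3 (q - 1) = N at h3N ⊢
  have hy : y ^ N = x ^ N := by
    have e1 : x ^ N * x ^ N * y ^ N = 1 := by rw [← mul_pow, ← mul_pow, hxy, one_pow]
    have e2 : x ^ N * x ^ N * x ^ N = 1 := by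
      rw [← pow_add, ← pow_add, ← h3N]
      congr 1
      ring
    calc y ^ N = (x ^ N * x ^ N * x ^ N) * y ^ N := by rw [e2, one_mul]
      _ = (x ^ N * x ^ N * y ^ N) * x ^ N := by ring
      _ = x ^ N := by rw [e1, one_mul]
  by_cases hxy' : x = y
  · subst hxy'
    by_cases hp2 : p = 2
    · refine ⟨4, x ^ 4, Or.inr ⟨hp2, rfl⟩, ?_⟩
      subst hp2
      have e : (X ^ 4 - C (x ^ 4) : E[X]) = (X - C x) ^ 4 := by
        have := sub_pow_char_pow (X : E[X]) (C x) 2 (p := 2)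
        rw [C_pow]
        exact this.symm
      rw [e]
      exact ⟨X - C x, by ring⟩
    · have hp3 : 3 ≤ p := by
        have := hpp.two_le
        omega
      exact ⟨_, (x ^ N) ^ p, Or.inl rfl, dvd_of_double_root p hp3 x x N (x ^ N) rfl rfl⟩
  · refine ⟨_, (x ^ N) ^ p, Or.inl rfl, ?_⟩
    have d1 : (X - C x) ∣ (X ^ N - C (x ^ N) : E[X]) := by
      rw [dvd_iff_isRoot]; simp
    have d2 : (X - C y) ∣ (X ^ N - C (x ^ N) : E[X]) := by
      rw [dvd_iff_isRoot]; simp [hy]
    have c12 : IsCoprime (X - C x : E[X]) (X - C y) :=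
      isCoprime_X_sub_C_of_isUnit_sub (sub_ne_zero.2 hxy').isUnit
    have d3 : (X - C x) * (X - C y) ∣ (X ^ N - C (x ^ N) : E[X]) := IsCoprime.mul_dvd c12 d1 d2
    have e : (X ^ (p * N) - C ((x ^ N) ^ p) : E[X]) = (X ^ N - C (x ^ N)) ^ p := by
      rw [sub_pow_char, pow_mul' X p N, C_pow]
    rw [e]
    have e2 : (X ^ N - C (x ^ N) : E[X]) ^ p
        = (X ^ N - C (x ^ N)) * (X ^ N - C (x ^ N)) * (X ^ N - C (x ^ N)) ^ (p - 2) := by
      conv_lhs => rw [show p = 2 + (p - 2) by have := hpp.two_le; omega, pow_add]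
      ring
    rw [e2]
    have e3 : (X - C x) * (X - C x) * (X - C y) = (X - C x) * ((X - C x) * (X - C y)) := by ring
    rw [e3]
    exact Dvd.dvd.mul_right (mul_dvd_mul d1 d3) _

/-- the case of a moved root. -/
theorem sl3_core_E (q : ℕ) (hq2 : 2 ≤ q) (hinj : ∀ a b : E, a ^ q = b ^ q → a = b)
    (x y z : E) (hxyz : x * y * z = 1)
    (hcl : ∀ t : E, (t - x) * (t - y) * (t - z) = 0 →
      (t ^ q - x) * (t ^ q - y) * (t ^ q - z) = 0)
    (hx : x ^ q ≠ x) :
    ∃ (N : ℕ) (c : E), (N = (q ^ 2 + q + 1) / Nat.gcd 3 (q - 1)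
        ∨ N = (q ^ 2 - 1) / Nat.gcd 3 (q - 1)) ∧
      (X - C x) * (X - C y) * (X - C z) ∣ (X ^ N - C c : E[X]) := by
  have hmem : ∀ t : E, (t - x) * (t - y) * (t - z) = 0 → (t = x ∨ t = y ∨ t = z) := by
    intro t ht
    rcases mul_eq_zero.1 ht with h | h
    · rcases mul_eq_zero.1 h with h | h
      · left; exact sub_eq_zero.1 h
      · right; left; exact sub_eq_zero.1 h
    · right; right; exact sub_eq_zero.1 h
  have h1 := hmem _ (hcl x (by simp))
  rcases h1 with h1 | h1 | h1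
  · exact absurd h1 hx
  · have h2 := hmem _ (hcl y (by simp))
    exact sl3_core_D q hq2 hinj x y z hxyz h1.symm (by rw [← h1]; exact Ne.symm hx) h2
  · have h2 := hmem _ (hcl z (by simp))
    have h2' : z ^ q = x ∨ z ^ q = z ∨ z ^ q = y := by tauto
    obtain ⟨N, c, hN, hdvd⟩ := sl3_core_D q hq2 hinj x z y (by rw [← hxyz]; ring) h1.symm
      (by rw [← h1]; exact Ne.symm hx) h2'
    refine ⟨N, c, hN, ?_⟩
    have : (X - C x) * (X - C y) * (X - C z) = (X - C x) * (X - C z) * (X - C y) := by ring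
    rw [this]
    exact hdvd

/-- the main polynomial statement for `SL₃`. -/
theorem sl3_core (p : ℕ) [Fact p.Prime] [CharP E p] (n : ℕ) (q : ℕ)
    (hq : q = p ^ n) (hq2 : 2 ≤ q) (a b : E) (ha : a ^ q = a) (hb : b ^ q = b) (l₁ l₂ l₃ : E)
    (hf : (X ^ 3 - C a * X ^ 2 + C b * X - 1 : E[X])
      = (X - C l₁) * (X - C l₂) * (X - C l₃)) :
    ∃ (N : ℕ) (c : E), (N = (q ^ 2 + q + 1) / Nat.gcd 3 (q - 1)
        ∨ N = (q ^ 2 - 1) / Nat.gcd 3 (q - 1) ∨ N = q - 1
        ∨ N = p * (q - 1) / Nat.gcd 3 (q - 1) ∨ (p = 2 ∧ N = 4)) ∧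
      (X - C l₁) * (X - C l₂) * (X - C l₃) ∣ (X ^ N - C c : E[X]) := by
  have hinj : ∀ a b : E, a ^ q = b ^ q → a = b := by
    intro a b hab
    apply (iterateFrobenius E p n).injective
    rw [iterateFrobenius_def, iterateFrobenius_def, ← hq]
    exact hab
  have hprod : l₁ * l₂ * l₃ = 1 := by
    have e := congrArg (eval 0) hf
    simp at e
    linear_combination -e
  have hl1 : l₁ ≠ 0 := by rintro rfl; simp at hprod
  have hl2 : l₂ ≠ 0 := by rintro rfl; simp at hprod
  have hl3 : l₃ ≠ 0 := by rintro rfl; simp at hprod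
  have hroot : ∀ t : E, t ^ 3 - a * t ^ 2 + b * t - 1 = (t - l₁) * (t - l₂) * (t - l₃) := by
    intro t
    have e := congrArg (eval t) hf
    simpa using e
  have hcl : ∀ t : E, (t - l₁) * (t - l₂) * (t - l₃) = 0 →
      (t ^ q - l₁) * (t ^ q - l₂) * (t ^ q - l₃) = 0 := by
    intro t ht
    rw [← hroot] at ht ⊢
    have hT := congrArg (iterateFrobenius E p n) ht
    simp only [map_sub, map_add, map_mul, map_pow, map_one, map_zero, iterateFrobenius_def,
      ← hq] at hT
    rw [ha, hb] at hT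
    exact hT
  have hfix : ∀ t : E, t ≠ 0 → t ^ q = t → t ^ (q - 1) = 1 := by
    intro t ht0 ht
    have : t ^ (q - 1) * t = 1 * t := by
      rw [← pow_succ, Nat.sub_add_cancel (by omega), ht, one_mul]
    exact mul_right_cancel₀ ht0 this
  by_cases hall : l₁ ^ q = l₁ ∧ l₂ ^ q = l₂ ∧ l₃ ^ q = l₃
  · obtain ⟨f1, f2, f3⟩ := hall
    have g1 := hfix l₁ hl1 f1
    have g2 := hfix l₂ hl2 f2
    have g3 := hfix l₃ hl3 f3
    by_cases h12 : l₁ = l₂
    · subst h12
      obtain ⟨N, c, hN, hc⟩ := sl3_core_C p q l₁ l₃ g1 hprod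
      exact ⟨N, c, Or.inr (Or.inr (Or.inr hN)), hc⟩
    · by_cases h13 : l₁ = l₃
      · subst h13
        obtain ⟨N, c, hN, hc⟩ := sl3_core_C p q l₁ l₂ g1 (by linear_combination hprod)
        refine ⟨N, c, Or.inr (Or.inr (Or.inr hN)), ?_⟩
        have : (X - C l₁) * (X - C l₂) * (X - C l₁) = (X - C l₁) * (X - C l₁) * (X - C l₂) := by
          ring
        rw [this]
        exact hc
      · by_cases h23 : l₂ = l₃
        · subst h23
          obtain ⟨N, c, hN, hc⟩ := sl3_core_C p q l₂ l₁ g2 (by linear_combination hprod)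
          refine ⟨N, c, Or.inr (Or.inr (Or.inr hN)), ?_⟩
          have : (X - C l₁) * (X - C l₂) * (X - C l₂)
              = (X - C l₂) * (X - C l₂) * (X - C l₁) := by
            ring
          rw [this]
          exact hc
        · exact ⟨q - 1, 1, Or.inr (Or.inr (Or.inl rfl)),
            dvd_of_three_roots l₁ l₂ l₃ h12 h13 h23 _ _ g1 g2 g3⟩
  · by_cases h1 : l₁ ^ q = l₁
    · by_cases h2 : l₂ ^ q = l₂
      · have h3 : l₃ ^ q ≠ l₃ := fun h3 => hall ⟨h1, h2, h3⟩
        have hclp : ∀ t : E, (t - l₃) * (t - l₁) * (t - l₂) = 0 →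
            (t ^ q - l₃) * (t ^ q - l₁) * (t ^ q - l₂) = 0 := by
          intro t ht
          have := hcl t (by linear_combination ht)
          linear_combination this
        obtain ⟨N, c, hN, hdvd⟩ := sl3_core_E q hq2 hinj l₃ l₁ l₂
          (by linear_combination hprod) hclp h3
        refine ⟨N, c, hN.elim (fun h => Or.inl h) (fun h => Or.inr (Or.inl h)), ?_⟩
        have : (X - C l₁) * (X - C l₂) * (X - C l₃) = (X - C l₃) * (X - C l₁) * (X - C l₂) := by
          ring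
        rw [this]
        exact hdvd
      · have hclp : ∀ t : E, (t - l₂) * (t - l₁) * (t - l₃) = 0 →
            (t ^ q - l₂) * (t ^ q - l₁) * (t ^ q - l₃) = 0 := by
          intro t ht
          have := hcl t (by linear_combination ht)
          linear_combination this
        obtain ⟨N, c, hN, hdvd⟩ := sl3_core_E q hq2 hinj l₂ l₁ l₃
          (by linear_combination hprod) hclp h2
        refine ⟨N, c, hN.elim (fun h => Or.inl h) (fun h => Or.inr (Or.inl h)), ?_⟩
        have : (X - C l₁) * (X - C l₂) * (X - C l₃) = (X - C l₂) * (X - C l₁) * (X - C l₃) := by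
          ring
        rw [this]
        exact hdvd
    · obtain ⟨N, c, hN, hdvd⟩ := sl3_core_E q hq2 hinj l₁ l₂ l₃ hprod hcl h1
      exact ⟨N, c, hN.elim (fun h => Or.inl h) (fun h => Or.inr (Or.inl h)), hdvd⟩

end Core3

section Transfer3

variable {F : Type*} [Field F] [Fintype F]

/-- some power (with one of five exponents) of a matrix of determinant one is scalar. -/
theorem sl3_pow_scalar (p : ℕ) [Fact p.Prime] [CharP F p]
    (M : Matrix (Fin 3) (Fin 3) F) (hdet : M.det = 1) :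
    ∃ (N : ℕ) (c : F), (N = (Fintype.card F ^ 2 + Fintype.card F + 1) / Nat.gcd 3 (Fintype.card F - 1)
        ∨ N = (Fintype.card F ^ 2 - 1) / Nat.gcd 3 (Fintype.card F - 1) ∨ N = Fintype.card F - 1
        ∨ N = p * (Fintype.card F - 1) / Nat.gcd 3 (Fintype.card F - 1) ∨ (p = 2 ∧ N = 4)) ∧
      M ^ N = c • (1 : Matrix (Fin 3) (Fin 3) F) := by
  obtain ⟨n, -, hn⟩ := FiniteField.card F p
  have hq2 : 2 ≤ Fintype.card F := Fintype.one_lt_card
  have hchar : CharP (AlgebraicClosure F) p :=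
    charP_of_injective_algebraMap (algebraMap F (AlgebraicClosure F)).injective p
  have hχ := charpoly_fin_three' M
  rw [hdet, map_one] at hχ
  generalize M 0 0 + M 1 1 + M 2 2 = a at hχ
  generalize M.adjugate 0 0 + M.adjugate 1 1 + M.adjugate 2 2 = b at hχ
  have hχ' : (M.map (algebraMap F (AlgebraicClosure F))).charpoly
      = X ^ 3 - C (algebraMap F (AlgebraicClosure F) a) * X ^ 2
        + C (algebraMap F (AlgebraicClosure F) b) * X - 1 := by
    rw [Matrix.charpoly_map, hχ]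
    simp [Polynomial.map_sub, Polynomial.map_add, Polynomial.map_mul, Polynomial.map_pow]
  have hmonic : (M.map (algebraMap F (AlgebraicClosure F))).charpoly.Monic :=
    Matrix.charpoly_monic _
  have hsplit : (M.map (algebraMap F (AlgebraicClosure F))).charpoly.Splits :=
    IsAlgClosed.splits _
  have hcard : (M.map (algebraMap F (AlgebraicClosure F))).charpoly.roots.card = 3 := by
    rw [← hsplit.natDegree_eq_card_roots, Matrix.charpoly_natDegree_eq_dim]
    rfl
  obtain ⟨l₁, l₂, l₃, hroots⟩ := Multiset.card_eq_three.1 hcard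
  have hfac : (M.map (algebraMap F (AlgebraicClosure F))).charpoly
      = (X - C l₁) * (X - C l₂) * (X - C l₃) := by
    conv_lhs => rw [hsplit.eq_prod_roots_of_monic hmonic, hroots]
    simp [mul_assoc]
  have ha : (algebraMap F (AlgebraicClosure F) a) ^ Fintype.card F
      = algebraMap F (AlgebraicClosure F) a := by
    rw [← map_pow, FiniteField.pow_card]
  have hb : (algebraMap F (AlgebraicClosure F) b) ^ Fintype.card F
      = algebraMap F (AlgebraicClosure F) b := by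
    rw [← map_pow, FiniteField.pow_card]
  obtain ⟨N, c', hN, hdvd⟩ := sl3_core p (n : ℕ) (Fintype.card F) hn hq2 _ _ ha hb l₁ l₂ l₃
    (hχ'.symm.trans hfac)
  rw [← hfac] at hdvd
  have hCH := Matrix.aeval_self_charpoly (M.map (algebraMap F (AlgebraicClosure F)))
  have h0 : aeval (M.map (algebraMap F (AlgebraicClosure F)))
      (X ^ N - C c' : (AlgebraicClosure F)[X]) = 0 := by
    obtain ⟨g, hg⟩ := hdvd
    rw [hg, map_mul, hCH, zero_mul]
  have h1 : (M.map (algebraMap F (AlgebraicClosure F))) ^ N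
      = c' • (1 : Matrix (Fin 3) (Fin 3) (AlgebraicClosure F)) := by
    rw [map_sub, map_pow, aeval_X, aeval_C, Algebra.algebraMap_eq_smul_one] at h0
    exact sub_eq_zero.1 h0
  have h2 : (M ^ N).map (algebraMap F (AlgebraicClosure F))
      = c' • (1 : Matrix (Fin 3) (Fin 3) (AlgebraicClosure F)) := by
    rw [← h1]
    exact map_pow (RingHom.mapMatrix (algebraMap F (AlgebraicClosure F))) M N
  have hent : ∀ i j, algebraMap F (AlgebraicClosure F) ((M ^ N) i j)
      = (c' • (1 : Matrix (Fin 3) (Fin 3) (AlgebraicClosure F))) i j := by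
    intro i j
    rw [← h2]
    rfl
  refine ⟨N, (M ^ N) 0 0, hN, ?_⟩
  ext i j
  apply (algebraMap F (AlgebraicClosure F)).injective
  rw [hent i j]
  have h00 := hent 0 0
  simp only [Matrix.smul_apply, Matrix.one_apply_eq, smul_eq_mul, mul_one] at h00
  by_cases hij : i = j
  · subst hij
    simp [h00]
  · simp [hij]

end Transfer3

end Cfsg.Agent.H62
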