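import Mathlib
import Cfsg.Agent.H62.PSU3a
import Cfsg.Agent.H62.PSU3b
import Cfsg.Agent.H62.PSU3d

set_option autoImplicit false
set_option linter.unusedSectionVars false
set_option linter.style.haveILetI false
set_option linter.unusedSimpArgs false
set_option linter.unusedVariables false

namespace Cfsg.Agent.H62

open Matrix Polynomial

section Arith4

theorem gcd_add_two_sq_sub_one (q : ℕ) (hq : 2 ≤ q) :
    Nat.gcd (q + 2) (q ^ 2 - 1) = Nat.gcd 3 (q - 1) := by
  obtain ⟨s, rfl⟩ : ∃ s, q = s + 2 := ⟨q - 2, by omega⟩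
  have e1 : (s + 2) ^ 2 - 1 = 3 + s * (s + 2 + 2) := by
    apply Nat.sub_eq_of_eq_add
    ring
  have e2 : s + 2 - 1 = s + 1 := by omega
  have e3 : s + 2 + 2 = (s + 1) + 3 := by ring
  rw [e1, Nat.gcd_add_mul_right_right, e2, Nat.gcd_comm, e3, Nat.gcd_add_self_right]

theorem gcd_sub_one_sq_add_add_one (q : ℕ) (hq : 1 ≤ q) :
    Nat.gcd (q - 1) (q ^ 2 + q + 1) = Nat.gcd 3 (q - 1) := by
  obtain ⟨s, rfl⟩ : ∃ s, q = s + 1 := ⟨q - 1, by omega⟩
  rw [Nat.add_sub_cancel]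
  have e1 : (s + 1) ^ 2 + (s + 1) + 1 = 3 + (s + 3) * s := by ring
  rw [e1, Nat.gcd_add_mul_right_right, Nat.gcd_comm]

end Arith4

section PSL3b

variable {F : Type*} [Field F]

theorem blk_det (A B C D ν : F) : (blk A B C D ν).det = (A * D - B * C) * ν := by
  rw [blk, Matrix.det_fin_three]
  simp
  ring

theorem blk_map {E : Type*} [Field E] (φ : F →+* E) (A B C D ν : F) :
    (blk A B C D ν).map φ = blk (φ A) (φ B) (φ C) (φ D) (φ ν) := by
  ext i j
  fin_cases i <;> fin_cases j <;> simp [blk]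

theorem pow_scalar_map {E : Type*} [Field E] (φ : F →+* E) (M : Matrix (Fin 3) (Fin 3) F)
    (k : ℕ) (c : F) (hk : M ^ k = c • (1 : Matrix (Fin 3) (Fin 3) F)) :
    (M.map φ) ^ k = (φ c) • (1 : Matrix (Fin 3) (Fin 3) E) := by
  have e1 : (M.map φ) ^ k = (M ^ k).map φ := (map_pow (RingHom.mapMatrix φ) M k).symm
  rw [e1, hk]
  ext i j
  by_cases hij : i = j <;> simp [hij, Matrix.one_apply]

theorem eigen_of_pow_scalar_ext {E : Type*} [Field E] (φ : F →+* E)
    (M : Matrix (Fin 3) (Fin 3) F) (v : Fin 3 → E) (l : E) (h : M.map φ *ᵥ v = l • v)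
    (i : Fin 3) (hi : v i ≠ 0) (k : ℕ) (c : F)
    (hk : M ^ k = c • (1 : Matrix (Fin 3) (Fin 3) F)) : l ^ k = φ c :=
  eigen_of_pow_scalar (M.map φ) v l h i hi k (φ c) (pow_scalar_map φ M k c hk)

/-- a scalar power gives the identity in `PSL`. -/
theorem psl3_pow_eq_one_of_scalar (g : Matrix.SpecialLinearGroup (Fin 3) F) (N : ℕ) (c : F)
    (h : (g.1 : Matrix (Fin 3) (Fin 3) F) ^ N = c • (1 : Matrix (Fin 3) (Fin 3) F)) :
    (QuotientGroup.mk g : Matrix.ProjectiveSpecialLinearGroup (Fin 3) F) ^ N = 1 := by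
  rw [← QuotientGroup.mk_pow, QuotientGroup.eq_one_iff, Subgroup.mem_center_iff]
  intro x
  apply Subtype.ext
  show (x.1 : Matrix (Fin 3) (Fin 3) F) * ((g ^ N).1 : Matrix (Fin 3) (Fin 3) F)
    = ((g ^ N).1 : Matrix (Fin 3) (Fin 3) F) * (x.1 : Matrix (Fin 3) (Fin 3) F)
  rw [Matrix.SpecialLinearGroup.coe_pow, h]
  simp

theorem psl3_scalar_of_pow_eq_one (g : Matrix.SpecialLinearGroup (Fin 3) F) (k : ℕ)
    (h : (QuotientGroup.mk g : Matrix.ProjectiveSpecialLinearGroup (Fin 3) F) ^ k = 1) :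
    ∃ c : F, (g.1 : Matrix (Fin 3) (Fin 3) F) ^ k = c • (1 : Matrix (Fin 3) (Fin 3) F) := by
  rw [← QuotientGroup.mk_pow, QuotientGroup.eq_one_iff,
    Matrix.SpecialLinearGroup.mem_center_iff] at h
  obtain ⟨r, -, hr⟩ := h
  refine ⟨r, ?_⟩
  rw [← Matrix.SpecialLinearGroup.coe_pow, ← hr]
  ext i j
  by_cases hij : i = j <;> simp [hij, Matrix.one_apply]

/-- a lower bound on orders in `PSL` from scalar powers. -/
theorem psl3_dvd_orderOf (g : Matrix.SpecialLinearGroup (Fin 3) F) (N : ℕ)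
    (h : ∀ (k : ℕ) (c : F), (g.1 : Matrix (Fin 3) (Fin 3) F) ^ k
      = c • (1 : Matrix (Fin 3) (Fin 3) F) → N ∣ k) :
    N ∣ orderOf (QuotientGroup.mk g : Matrix.ProjectiveSpecialLinearGroup (Fin 3) F) := by
  obtain ⟨c, hc⟩ := psl3_scalar_of_pow_eq_one g _ (pow_orderOf_eq_one _)
  exact h _ c hc

end PSL3b

section Elts3

variable {F : Type*} [Field F] [Fintype F]

/-- an element of order divisible by `q - 1`. -/
theorem psl3_exists_1 :
    ∃ x : Matrix.ProjectiveSpecialLinearGroup (Fin 3) F, (Fintype.card F - 1) ∣ orderOf x := by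
  obtain ⟨g, hg0, hg, -⟩ := ff_generator (F := F) (Fintype.card F) rfl
  have hdet : (blk g 0 0 g⁻¹ 1).det = 1 := by
    rw [blk_det]
    field_simp
    ring
  refine ⟨QuotientGroup.mk ⟨_, hdet⟩, psl3_dvd_orderOf _ _ ?_⟩
  intro k c hk
  have hk' : (blk g 0 0 g⁻¹ 1) ^ k = c • (1 : Matrix (Fin 3) (Fin 3) F) := hk
  have h1 := eigen_of_pow_scalar _ ![1, 0, 0] g
    (by rw [blk_mulVec]; ext i; fin_cases i <;> simp) 0 (by simp) k c hk'
  have h2 := eigen_of_pow_scalar _ ![0, 0, 1] 1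
    (by rw [blk_mulVec]; ext i; fin_cases i <;> simp) 2 (by simp) k c hk'
  rw [one_pow] at h2
  rw [← hg, h1, h2]

/-- an element of order divisible by `p (q - 1) / d`. -/
theorem psl3_exists_2 (p : ℕ) [Fact p.Prime] [CharP F p] :
    ∃ x : Matrix.ProjectiveSpecialLinearGroup (Fin 3) F,
      p * (Fintype.card F - 1) / Nat.gcd 3 (Fintype.card F - 1) ∣ orderOf x := by
  obtain ⟨g, hg0, hg, -⟩ := ff_generator (F := F) (Fintype.card F) rfl
  obtain ⟨n, hpp, hn⟩ := FiniteField.card F p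
  have hq2 : 2 ≤ Fintype.card F := Fintype.one_lt_card
  have hdet : (blk g g 0 g (g * g)⁻¹).det = 1 := by
    rw [blk_det]
    field_simp
    ring
  refine ⟨QuotientGroup.mk ⟨_, hdet⟩, ?_⟩
  rw [Nat.mul_div_assoc _ (Nat.gcd_dvd_right 3 (Fintype.card F - 1))]
  apply psl3_dvd_orderOf
  intro k c hk
  have hk' : (blk g g 0 g (g * g)⁻¹) ^ k = c • (1 : Matrix (Fin 3) (Fin 3) F) := hk
  have hw : blk g g 0 g (g * g)⁻¹ *ᵥ ![1, 0, 0] = g • ![1, 0, 0] := by
    rw [blk_mulVec]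
    ext i
    fin_cases i <;> simp
  have hu : blk g g 0 g (g * g)⁻¹ *ᵥ ![0, 1, 0] = g • (![0, 1, 0] + ![1, 0, 0]) := by
    rw [blk_mulVec]
    ext i
    fin_cases i <;> simp
  have h1 := eigen_of_pow_scalar _ ![1, 0, 0] g hw 0 (by simp) k c hk'
  have h2 := eigen_of_pow_scalar _ ![0, 0, 1] (g * g)⁻¹
    (by rw [blk_mulVec]; ext i; fin_cases i <;> simp) 2 (by simp) k c hk'
  have h3 := pow_mulVec_jordan _ ![0, 1, 0] ![1, 0, 0] g hw hu k
  rw [hk', Matrix.smul_mulVec, Matrix.one_mulVec] at h3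
  have h4 := congrFun h3 0
  simp only [Pi.smul_apply, Pi.add_apply, smul_eq_mul, Matrix.cons_val_zero, mul_zero, zero_add,
    mul_one] at h4
  have hk0 : (k : F) = 0 := by
    have h5 : g ^ k * (k : F) = 0 := h4.symm
    rcases mul_eq_zero.1 h5 with h6 | h6
    · exact absurd h6 (pow_ne_zero _ hg0)
    · exact h6
  have hpk : p ∣ k := (CharP.cast_eq_zero_iff F p k).1 hk0
  have h3k : g ^ (3 * k) = 1 := by
    have e1 : (g * g)⁻¹ * (g * g) = 1 := inv_mul_cancel₀ (mul_ne_zero hg0 hg0)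
    have e2 : ((g * g)⁻¹) ^ k * (g ^ k * g ^ k) = 1 := by
      rw [← mul_pow, ← mul_pow, e1, one_pow]
    rw [h2, ← h1] at e2
    rw [← e2, ← pow_add, ← pow_add]
    congr 1
    ring
  rw [hg] at h3k
  have hdk := div_gcd_dvd_of_dvd_mul (Fintype.card F - 1) 3 k (by omega) h3k
  have hpq : p ∣ Fintype.card F := by
    rw [hn]
    exact dvd_pow_self p n.ne_zero
  have hcop : Nat.Coprime p (Fintype.card F - 1) := by
    rw [Nat.Prime.coprime_iff_not_dvd hpp]
    intro h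
    have h1 : p ∣ 1 := by
      have e : Fintype.card F = (Fintype.card F - 1) + 1 := by omega
      rw [e] at hpq
      exact (Nat.dvd_add_right h).1 hpq
    exact hpp.one_lt.ne' (Nat.dvd_one.1 h1)
  exact Nat.Coprime.mul_dvd_of_dvd_of_dvd
    (Nat.Coprime.coprime_dvd_right (Nat.div_dvd_of_dvd (Nat.gcd_dvd_right 3 _)) hcop)
    hpk hdk

/-- an element of order divisible by `(q² - 1) / d`. -/
theorem psl3_exists_3 (p : ℕ) [Fact p.Prime] [CharP F p] :
    ∃ x : Matrix.ProjectiveSpecialLinearGroup (Fin 3) F,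
      (Fintype.card F ^ 2 - 1) / Nat.gcd 3 (Fintype.card F - 1) ∣ orderOf x := by
  obtain ⟨n, hpp, hn⟩ := FiniteField.card F p
  have hq2 : 2 ≤ Fintype.card F := Fintype.one_lt_card
  have hchar : CharP (AlgebraicClosure F) p :=
    charP_of_injective_algebraMap (algebraMap F (AlgebraicClosure F)).injective p
  have hq1 : 1 ≤ Fintype.card F ^ 2 := Nat.one_le_pow _ _ (by omega)
  haveI : NeZero ((Fintype.card F ^ 2 - 1 : ℕ) : F) := ⟨by
    rw [Nat.cast_sub hq1, Nat.cast_pow, FiniteField.cast_card_eq_zero, zero_pow (by norm_num),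
      zero_sub, Nat.cast_one]
    exact neg_ne_zero.2 one_ne_zero⟩
  obtain ⟨l, hl⟩ := HasEnoughRootsOfUnity.exists_primitiveRoot (AlgebraicClosure F)
    (Fintype.card F ^ 2 - 1)
  have hln : l ^ (Fintype.card F ^ 2 - 1) = 1 := hl.pow_eq_one
  have hq4 : 4 ≤ Fintype.card F ^ 2 := by nlinarith
  have hl0 : l ≠ 0 := hl.ne_zero (by omega)
  have haddE : ∀ x y : AlgebraicClosure F,
      (x + y) ^ Fintype.card F = x ^ Fintype.card F + y ^ Fintype.card F := fun x y => by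
    rw [hn]
    exact add_pow_char_pow x y p n
  have hlqq : (l ^ Fintype.card F) ^ Fintype.card F = l := by
    rw [← pow_mul, ← sq]
    calc l ^ (Fintype.card F ^ 2) = l ^ (Fintype.card F ^ 2 - 1) * l := by
          rw [← pow_succ, Nat.sub_add_cancel hq1]
      _ = l := by rw [hln, one_mul]
  obtain ⟨t, ht⟩ := mem_range_of_pow_card (F := F) (l + l ^ Fintype.card F)
    (by rw [haddE, hlqq]; ring)
  obtain ⟨n₀, hn₀⟩ := mem_range_of_pow_card (F := F) (l * l ^ Fintype.card F)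
    (by rw [mul_pow, hlqq]; ring)
  have hn₀0 : n₀ ≠ 0 := by
    rintro rfl
    rw [map_zero] at hn₀
    exact mul_ne_zero hl0 (pow_ne_zero _ hl0) hn₀.symm
  have hdet : (blk 0 (-n₀) 1 t n₀⁻¹).det = 1 := by
    rw [blk_det]
    field_simp
    ring
  refine ⟨QuotientGroup.mk ⟨_, hdet⟩, psl3_dvd_orderOf _ _ ?_⟩
  intro k c hk
  have hk' : (blk 0 (-n₀) 1 t n₀⁻¹) ^ k = c • (1 : Matrix (Fin 3) (Fin 3) F) := hk
  have hv : (blk 0 (-n₀) 1 t n₀⁻¹).map (algebraMap F (AlgebraicClosure F))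
      *ᵥ ![-l ^ Fintype.card F, 1, 0] = l • ![-l ^ Fintype.card F, 1, 0] := by
    rw [blk_map, blk_mulVec, map_neg, hn₀, ht]
    ext i
    fin_cases i <;> simp
  have h1 := eigen_of_pow_scalar_ext (algebraMap F (AlgebraicClosure F)) _ _ l hv 1 (by simp)
    k c hk'
  have h2 := eigen_of_pow_scalar_ext (algebraMap F (AlgebraicClosure F)) _ ![0, 0, 1]
    (algebraMap F (AlgebraicClosure F) n₀⁻¹)
    (by rw [blk_map, blk_mulVec]; ext i; fin_cases i <;> simp) 2 (by simp) k c hk'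
  have e1 : algebraMap F (AlgebraicClosure F) n₀⁻¹ * (l * l ^ Fintype.card F) = 1 := by
    rw [← hn₀, ← map_mul, inv_mul_cancel₀ hn₀0, map_one]
  have h3 : l ^ ((Fintype.card F + 2) * k) = 1 := by
    have e2 : (algebraMap F (AlgebraicClosure F) n₀⁻¹) ^ k * (l * l ^ Fintype.card F) ^ k = 1 := by
      rw [← mul_pow, e1, one_pow]
    rw [h2, ← h1] at e2
    rw [← e2, mul_pow, ← pow_mul, ← pow_add, ← pow_add]
    congr 1
    ring
  rw [hl.pow_eq_one_iff_dvd] at h3
  have h4 := div_gcd_dvd_of_dvd_mul (Fintype.card F ^ 2 - 1) (Fintype.card F + 2) k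
    (by have : 4 ≤ Fintype.card F ^ 2 := by nlinarith
        omega) h3
  rw [gcd_add_two_sq_sub_one _ hq2] at h4
  exact h4

/-- an element of order divisible by `(q² + q + 1) / d`. -/
theorem psl3_exists_4 (p : ℕ) [Fact p.Prime] [CharP F p] :
    ∃ x : Matrix.ProjectiveSpecialLinearGroup (Fin 3) F,
      (Fintype.card F ^ 2 + Fintype.card F + 1) / Nat.gcd 3 (Fintype.card F - 1) ∣ orderOf x := by
  obtain ⟨n, hpp, hn⟩ := FiniteField.card F p
  have hq2 : 2 ≤ Fintype.card F := Fintype.one_lt_card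
  have hchar : CharP (AlgebraicClosure F) p :=
    charP_of_injective_algebraMap (algebraMap F (AlgebraicClosure F)).injective p
  haveI : NeZero ((Fintype.card F ^ 2 + Fintype.card F + 1 : ℕ) : F) := ⟨by
    rw [Nat.cast_add, Nat.cast_add, Nat.cast_pow, FiniteField.cast_card_eq_zero,
      zero_pow (by norm_num), zero_add, zero_add, Nat.cast_one]
    exact one_ne_zero⟩
  obtain ⟨l, hl⟩ := HasEnoughRootsOfUnity.exists_primitiveRoot (AlgebraicClosure F)
    (Fintype.card F ^ 2 + Fintype.card F + 1)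
  have hln : l ^ (Fintype.card F ^ 2 + Fintype.card F + 1) = 1 := hl.pow_eq_one
  have hl0 : l ≠ 0 := hl.ne_zero (by omega)
  have haddE : ∀ x y : AlgebraicClosure F,
      (x + y) ^ Fintype.card F = x ^ Fintype.card F + y ^ Fintype.card F := fun x y => by
    rw [hn]
    exact add_pow_char_pow x y p n
  obtain ⟨μ, hμdef⟩ : ∃ μ : AlgebraicClosure F, μ = l ^ Fintype.card F := ⟨_, rfl⟩
  obtain ⟨ν, hνdef⟩ : ∃ ν : AlgebraicClosure F, ν = μ ^ Fintype.card F := ⟨_, rfl⟩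
  have hlmn : l * μ * ν = 1 := by
    rw [hνdef, hμdef, ← pow_mul, ← sq]
    rw [pow_succ, pow_add] at hln
    linear_combination hln
  have hμ0 : μ ≠ 0 := by rw [hμdef]; exact pow_ne_zero _ hl0
  have hν0 : ν ≠ 0 := by rw [hνdef]; exact pow_ne_zero _ hμ0
  have hνq : ν ^ Fintype.card F = l := by
    have e := congrArg (fun t => t ^ Fintype.card F) hlmn
    simp only [mul_pow, one_pow] at e
    rw [← hμdef, ← hνdef] at e
    have e2 : ν ^ Fintype.card F * (μ * ν) = l * (μ * ν) := by linear_combination e - hlmn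
    exact mul_right_cancel₀ (mul_ne_zero hμ0 hν0) e2
  obtain ⟨a, ha⟩ := mem_range_of_pow_card (F := F) (l + μ + ν)
    (by rw [haddE, haddE, ← hμdef, ← hνdef, hνq]; ring)
  obtain ⟨b, hb⟩ := mem_range_of_pow_card (F := F) (l * μ + l * ν + μ * ν)
    (by rw [haddE, haddE, mul_pow, mul_pow, mul_pow, ← hμdef, ← hνdef, hνq]; ring)
  have hdet : (!![0, 0, 1; 1, 0, -b; 0, 1, a] : Matrix (Fin 3) (Fin 3) F).det = 1 := by
    rw [Matrix.det_fin_three]
    simp
  refine ⟨QuotientGroup.mk ⟨_, hdet⟩, psl3_dvd_orderOf _ _ ?_⟩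
  intro k c hk
  have hk' : (!![0, 0, 1; 1, 0, -b; 0, 1, a] : Matrix (Fin 3) (Fin 3) F) ^ k
      = c • (1 : Matrix (Fin 3) (Fin 3) F) := hk
  have hv : (!![0, 0, 1; 1, 0, -b; 0, 1, a] : Matrix (Fin 3) (Fin 3) F).map
      (algebraMap F (AlgebraicClosure F)) *ᵥ ![1, (l - (l + μ + ν)) * l, l]
      = l • ![1, (l - (l + μ + ν)) * l, l] := by
    ext i
    fin_cases i
    · simp [Matrix.mulVec, dotProduct, Fin.sum_univ_three]
    · simp [Matrix.mulVec, dotProduct, Fin.sum_univ_three, hb]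
      linear_combination (-1 : AlgebraicClosure F) * hlmn
    · simp [Matrix.mulVec, dotProduct, Fin.sum_univ_three, ha]
      ring
  have h1 := eigen_of_pow_scalar_ext (algebraMap F (AlgebraicClosure F)) _ _ l hv 0 (by simp)
    k c hk'
  have h2 : (l ^ k) ^ Fintype.card F = l ^ k := by
    rw [h1, ← map_pow, FiniteField.pow_card]
  have h3 : l ^ ((Fintype.card F - 1) * k) = 1 := by
    have e : l ^ ((Fintype.card F - 1) * k) * l ^ k = 1 * l ^ k := by
      rw [← pow_add, one_mul]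
      have : (Fintype.card F - 1) * k + k = k * Fintype.card F := by
        obtain ⟨s, hs⟩ : ∃ s, Fintype.card F = s + 1 := ⟨Fintype.card F - 1, by omega⟩
        rw [hs, Nat.add_sub_cancel]
        ring
      rw [this, pow_mul]
      exact h2
    exact mul_right_cancel₀ (pow_ne_zero _ hl0) e
  rw [hl.pow_eq_one_iff_dvd] at h3
  have h4 := div_gcd_dvd_of_dvd_mul (Fintype.card F ^ 2 + Fintype.card F + 1)
    (Fintype.card F - 1) k (by omega) h3
  rw [gcd_sub_one_sq_add_add_one _ (by omega)] at h4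
  exact h4

/-- in characteristic two, an element of order four. -/
theorem psl3_exists_5 (p : ℕ) [Fact p.Prime] [CharP F p] (hp : p = 2) :
    ∃ x : Matrix.ProjectiveSpecialLinearGroup (Fin 3) F, orderOf x = 4 := by
  subst hp
  have h20 : (2 : F) = 0 := by
    have := CharP.cast_eq_zero F 2
    exact_mod_cast this
  have hdet : (!![1, 1, 0; 0, 1, 1; 0, 0, 1] : Matrix (Fin 3) (Fin 3) F).det = 1 := by
    rw [Matrix.det_fin_three]
    simp
  have hsq : (!![1, 1, 0; 0, 1, 1; 0, 0, 1] : Matrix (Fin 3) (Fin 3) F) ^ 2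
      = !![1, 0, 1; 0, 1, 0; 0, 0, 1] := by
    rw [sq]
    ext i j
    fin_cases i <;> fin_cases j <;> simp [Matrix.mul_apply, Fin.sum_univ_three]
    all_goals linear_combination h20
  have h4 : (!![1, 1, 0; 0, 1, 1; 0, 0, 1] : Matrix (Fin 3) (Fin 3) F) ^ 4 = 1 := by
    rw [show 4 = 2 * 2 by norm_num, pow_mul, hsq, sq]
    ext i j
    fin_cases i <;> fin_cases j <;> simp [Matrix.mul_apply, Fin.sum_univ_three]
    all_goals linear_combination h20
  refine ⟨QuotientGroup.mk ⟨_, hdet⟩, ?_⟩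
  have e : (4 : ℕ) = 2 ^ (1 + 1) := by norm_num
  rw [e]
  apply orderOf_eq_prime_pow
  · intro h
    rw [pow_one] at h
    obtain ⟨c, hc⟩ := psl3_scalar_of_pow_eq_one _ _ h
    have hc' : (!![1, 1, 0; 0, 1, 1; 0, 0, 1] : Matrix (Fin 3) (Fin 3) F) ^ 2
        = c • (1 : Matrix (Fin 3) (Fin 3) F) := hc
    rw [hsq] at hc'
    have e2 := congrFun (congrFun hc' 0) 2
    simp at e2
  · apply psl3_pow_eq_one_of_scalar _ _ 1
    show (!![1, 1, 0; 0, 1, 1; 0, 0, 1] : Matrix (Fin 3) (Fin 3) F) ^ (2 ^ (1 + 1))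
      = (1 : F) • (1 : Matrix (Fin 3) (Fin 3) F)
    rw [one_smul]
    exact h4

end Elts3

end Cfsg.Agent.H62
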