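import Mathlib
import Cfsg.Agent.H45.R2Abs

/-!
R2 G2a (helper62, for helper45's S1152/S1157 project): a self-centralising subgroup `V` of
order 4 with `|N(V)| = 12`: some element of `N(V)` acts on `V` without non-trivial fixed points
and its cube lies in `V`.
-/

set_option autoImplicit false
set_option linter.unusedVariables false
set_option linter.style.haveILetI false

universe u v

namespace Cfsg.Agent.H62.R2

theorem kleinAct : Cfsg.Agent.H45.R2.KleinActStmt.{u} := by
  intro L _ _ V hV hCV hN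
  classical
  obtain ⟨N, hNdef⟩ : ∃ N : Subgroup L, N = Subgroup.normalizer (V : Set L) := ⟨_, rfl⟩
  rw [← hNdef] at hN ⊢
  have hVN : V ≤ N := by
    rw [hNdef]
    exact Subgroup.le_normalizer
  obtain ⟨c, hcN, hcV⟩ : ∃ c ∈ N, c ∉ V := by
    by_contra hcon
    push Not at hcon
    have h1 : N ≤ V := fun x hx => hcon x hx
    have h2 := Subgroup.card_le_of_le h1
    omega
  have hVab : ∀ x ∈ V, ∀ y ∈ V, x * y = y * x := by
    intro x hx y hy
    have h1 : y ∈ Subgroup.centralizer (V : Set L) := by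
      rw [hCV]
      exact hy
    exact Subgroup.mem_centralizer_iff.mp h1 x hx
  have hc3 : c * c * c ∈ V := by
    haveI : (V.subgroupOf N).Normal := by
      rw [hNdef]
      exact Subgroup.normal_in_normalizer
    have hidx : (V.subgroupOf N).index = 3 := by
      have h1 := Subgroup.card_mul_index (V.subgroupOf N)
      rw [Nat.card_congr (Subgroup.subgroupOfEquivOfLe hVN).toEquiv, hV, hN] at h1
      omega
    have h2 : ((⟨c, hcN⟩ : N) : N ⧸ V.subgroupOf N) ^ 3 = 1 := by
      have h3 : Nat.card (N ⧸ V.subgroupOf N) = 3 := hidx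
      rw [← h3]
      exact pow_card_eq_one'
    rw [← QuotientGroup.mk_pow, QuotientGroup.eq_one_iff, Subgroup.mem_subgroupOf] at h2
    have h4 : (((⟨c, hcN⟩ : N) ^ 3 : N) : L) = c * c * c := by
      rw [Subgroup.coe_pow]
      show c ^ 3 = c * c * c
      rw [pow_succ, pow_two]
    rw [h4] at h2
    exact h2
  refine ⟨c, hcN, ?_, hc3⟩
  intro v hv hfix
  by_contra hv1
  apply hcV
  have hconjV : ∀ x ∈ V, c * x * c⁻¹ ∈ V := fun x hx =>
    (Subgroup.mem_normalizer_iff.mp (hNdef ▸ hcN) x).mp hx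
  obtain ⟨f, hf⟩ : ∃ f : Function.End V, ∀ x : V, ((f x : V) : L) = c * (x : L) * c⁻¹ :=
    ⟨fun x => ⟨c * x.1 * c⁻¹, hconjV x.1 x.2⟩, fun x => rfl⟩
  have hf3 : f ^ 3 ^ 1 = 1 := by
    funext x
    have h1 : (f ^ 3 ^ 1) x = f (f (f x)) := by
      rw [pow_one, pow_succ, pow_two]
      rfl
    rw [h1]
    apply Subtype.ext
    rw [hf, hf, hf]
    show c * (c * (c * (x : L) * c⁻¹) * c⁻¹) * c⁻¹ = (x : L)
    have h2 := hVab (c * c * c) hc3 (x : L) x.2
    calc c * (c * (c * (x : L) * c⁻¹) * c⁻¹) * c⁻¹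
        = (c * c * c * (x : L)) * (c * c * c)⁻¹ := by group
      _ = ((x : L) * (c * c * c)) * (c * c * c)⁻¹ := by rw [h2]
      _ = (x : L) := by group
  letI : Fintype V := Fintype.ofFinite V
  have hmod := Equiv.Perm.card_fixedPoints_modEq (p := 3) (n := 1) hf3
  rw [Fintype.card_eq_nat_card, Fintype.card_eq_nat_card, hV, Nat.card_coe_set_eq] at hmod
  have hone : (1 : V) ∈ Function.fixedPoints f := by
    show f 1 = 1
    apply Subtype.ext
    rw [hf]
    simp
  have hvfix : (⟨v, hv⟩ : V) ∈ Function.fixedPoints f := by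
    show f ⟨v, hv⟩ = ⟨v, hv⟩
    apply Subtype.ext
    rw [hf]
    exact hfix
  have hgt : 1 < (Function.fixedPoints f).ncard := by
    rw [Set.one_lt_ncard]
    refine ⟨1, hone, ⟨v, hv⟩, hvfix, ?_⟩
    intro h1
    apply hv1
    exact (congrArg Subtype.val h1).symm
  have hle4 : (Function.fixedPoints f).ncard ≤ 4 := by
    have h1 := Set.ncard_le_card (Function.fixedPoints f)
    rw [hV] at h1
    exact h1
  have h4 : (Function.fixedPoints f).ncard = 4 := by
    obtain ⟨n, hn⟩ : ∃ n, n = (Function.fixedPoints f).ncard := ⟨_, rfl⟩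
    rw [← hn] at hmod hgt hle4 ⊢
    unfold Nat.ModEq at hmod
    interval_cases n <;> first | rfl | omega
  have huniv : Function.fixedPoints f = Set.univ := by
    rw [Set.eq_univ_iff_ncard, h4, hV]
  rw [← hCV, Subgroup.mem_centralizer_iff]
  intro x hx
  have h1 : (⟨x, hx⟩ : V) ∈ Function.fixedPoints f := by
    rw [huniv]
    exact Set.mem_univ _
  have h2 : f ⟨x, hx⟩ = ⟨x, hx⟩ := h1
  have h3 := congrArg Subtype.val h2
  rw [hf] at h3
  have h5 : c * x * c⁻¹ = x := h3
  calc x * c = (c * x * c⁻¹) * c := by rw [h5]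
    _ = c * x := by group

end Cfsg.Agent.H62.R2
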