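import Mathlib
import Cfsg.Agent.H45.R2Abs

/-!
R2 G2b (helper62, for helper45's S1152/S1157 project): a subgroup of order 8 of `Z₂ × L`,
`8 ∤ |L|`, is `Z₂ × V` with `|V| = 4`.
-/

set_option autoImplicit false
set_option linter.unusedVariables false

universe u v

namespace Cfsg.Agent.H62.R2

theorem prodShape : Cfsg.Agent.H45.R2.ProdShapeStmt.{u} := by
  intro L _ _ h8 T hT
  obtain ⟨V, hV⟩ : ∃ V : Subgroup L, V = T.map (MonoidHom.snd (Multiplicative (ZMod 2)) L) :=
    ⟨_, rfl⟩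
  have hle : T ≤ (⊤ : Subgroup (Multiplicative (ZMod 2))).prod V := by
    intro x hx
    rw [Subgroup.mem_prod]
    refine ⟨Subgroup.mem_top _, ?_⟩
    rw [hV]
    exact Subgroup.mem_map_of_mem _ hx
  have hcardprod : Nat.card ((⊤ : Subgroup (Multiplicative (ZMod 2))).prod V) = 2 * Nat.card V := by
    rw [Nat.card_congr (Subgroup.prodEquiv _ _).toEquiv, Nat.card_prod, Subgroup.card_top]
    congr 1
    show Nat.card (ZMod 2) = 2
    exact Nat.card_zmod 2
  have hd8 : Nat.card V ∣ 8 := by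
    rw [hV, ← hT]
    exact Subgroup.card_map_dvd _ _
  have hdL : Nat.card V ∣ Nat.card L := Subgroup.card_subgroup_dvd_card V
  have hge : 8 ≤ 2 * Nat.card V := by
    rw [← hT, ← hcardprod]
    exact Nat.card_le_card_of_injective _ (Subgroup.inclusion_injective hle)
  have hle8 : Nat.card V ≤ 8 := Nat.le_of_dvd (by norm_num) hd8
  have h4 : Nat.card V = 4 := by
    obtain ⟨n, hn⟩ : ∃ n, n = Nat.card V := ⟨_, rfl⟩
    rw [← hn] at hd8 hdL hge hle8 ⊢
    interval_cases n <;> first | rfl | omega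
  refine ⟨V, h4, ?_⟩
  apply Subgroup.eq_of_le_of_card_ge hle
  rw [hcardprod, h4, hT]

end Cfsg.Agent.H62.R2
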