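import Mathlib
import Cfsg.Agent.H45.R2Abs

/-!
R2 G1 (helper62, for helper45's S1152/S1157 project): in a perfect finite group an involution of
an abelian Sylow 2-subgroup `S` is not central in `N(S)` (Burnside transfer).
-/

set_option autoImplicit false
set_option linter.unusedVariables false
set_option linter.style.haveILetI false

universe u v

namespace Cfsg.Agent.H62.R2

open scoped IsMulCommutative in
theorem transfer : Cfsg.Agent.H45.R2.TransferStmt.{u} := by
  intro G _ _ S a hab haS ha1 ha2 hperf
  by_contra hcon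
  push Not at hcon
  haveI : IsMulCommutative S := ⟨⟨fun x y => Subtype.ext (hab x x.2 y y.2)⟩⟩
  have hpow : ∀ k : ℕ, a ^ k = 1 ∨ a ^ k = a := by
    intro k
    induction k with
    | zero => left; exact pow_zero a
    | succ k ih =>
      rcases ih with h | h
      · right
        rw [pow_succ, h, one_mul]
      · left
        rw [pow_succ, h, ha2]
  have key : ∀ (k : ℕ) (g₀ : G), g₀⁻¹ * a ^ k * g₀ ∈ S → g₀⁻¹ * a ^ k * g₀ = a ^ k := by
    intro k g₀ hk
    rcases hpow k with h | h
    · rw [h]
      group
    · rw [h] at hk ⊢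
      obtain ⟨n, hn, hn2⟩ := S.conj_eq_normalizer_conj_of_mem a g₀ haS hk
      rw [hn2]
      have h3 := hcon n⁻¹ (Subgroup.inv_mem _ hn)
      rw [inv_inv] at h3
      exact h3
  have h1 := MonoidHom.transfer_eq_pow (MonoidHom.id S) a key
  have h2 : a ∈ (MonoidHom.transfer (MonoidHom.id S)).ker := by
    apply Abelianization.commutator_subset_ker
    rw [hperf]
    exact Subgroup.mem_top a
  rw [MonoidHom.mem_ker, h1] at h2
  have h3 : a ^ (S : Subgroup G).index = 1 := congrArg Subtype.val h2
  have hodd : ¬ 2 ∣ (S : Subgroup G).index := S.not_dvd_index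
  have h4 : a ^ (S : Subgroup G).index = a := by
    obtain ⟨j, hj⟩ : Odd (S : Subgroup G).index := Nat.not_even_iff_odd.mp
      (fun h => hodd (even_iff_two_dvd.mp h))
    rw [hj, pow_succ, pow_mul, pow_two, ha2, one_pow, one_mul]
  exact ha1 (h4.symm.trans h3)

end Cfsg.Agent.H62.R2
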