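import Mathlib

/-!
S0999-C2B (helper62, for helper21's S0999 project): only the identity fixes three Sylow
2-subgroups.
-/

set_option autoImplicit false
set_option linter.unusedVariables false
set_option linter.style.haveILetI false

namespace Cfsg.Agent.H62.BR

theorem fix_three_sylow {G : Type*} [Group G] [Finite G] (p : ℕ) (hp5 : 5 ≤ p)
    (hn2 : Nat.card (Sylow 2 G) = p)
    (hS : ∀ S : Sylow 2 G, Nat.card (S : Subgroup G) = p - 1 ∧
      ∀ s ∈ (S : Subgroup G), s ≠ 1 → Subgroup.centralizer ({s} : Set G) = (S : Subgroup G))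
    (g : G) (S₁ S₂ S₃ : Sylow 2 G) (h12 : S₁ ≠ S₂) (h13 : S₁ ≠ S₃) (h23 : S₂ ≠ S₃)
    (h1 : g • S₁ = S₁) (h2 : g • S₂ = S₂) (h3 : g • S₃ = S₃) : g = 1 := by
  classical
  -- semiregularity
  have hsr : ∀ S S' : Sylow 2 G, S ≠ S' → ∀ s ∈ (S : Subgroup G), s • S' = S' → s = 1 := by
    intro S S' hne s hs hfix
    by_contra hs1
    have hn : s ∈ Subgroup.normalizer (S' : Set G) :=
      Sylow.smul_eq_iff_mem_normalizer.mp hfix
    have hmem : s ∈ (S : Subgroup G) ⊓ Subgroup.normalizer (S' : Set G) := ⟨hs, hn⟩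
    rw [IsPGroup.inf_normalizer_sylow S.isPGroup' S'] at hmem
    have e1 := (hS S).2 s hs hs1
    have e2 := (hS S').2 s hmem.2 hs1
    exact hne (Sylow.ext (e1.symm.trans e2))
  have hstab : ∀ (S : Sylow 2 G), ∀ s ∈ (S : Subgroup G), s • S = S := by
    intro S s hs
    exact Sylow.smul_eq_iff_mem_normalizer.mpr (Subgroup.le_normalizer hs)
  -- the orbit map of S₁ at S₂
  have hmap : ∀ s : ↥(S₁ : Subgroup G), (s : G) • S₂ ≠ S₁ := by
    intro s h
    apply h12
    have h4 : (s : G)⁻¹ • ((s : G) • S₂) = (s : G)⁻¹ • S₁ := by rw [h]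
    rw [inv_smul_smul, hstab S₁ _ (Subgroup.inv_mem _ s.2)] at h4
    exact h4.symm
  let f : ↥(S₁ : Subgroup G) → {S' : Sylow 2 G // S' ≠ S₁} := fun s => ⟨(s : G) • S₂, hmap s⟩
  have hinj : Function.Injective f := by
    intro s s' hss
    have h4 : (s : G) • S₂ = (s' : G) • S₂ := congrArg Subtype.val hss
    have h5 : ((s' : G)⁻¹ * (s : G)) • S₂ = S₂ := by
      rw [mul_smul, h4, inv_smul_smul]
    have h6 := hsr S₁ S₂ h12 _ (Subgroup.mul_mem _ (Subgroup.inv_mem _ s'.2) s.2) h5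
    apply Subtype.ext
    exact (inv_mul_eq_one.mp h6).symm
  have hcard : Nat.card {S' : Sylow 2 G // S' ≠ S₁} ≤ Nat.card (S₁ : Subgroup G) := by
    have hfin : Finite (Sylow 2 G) := inferInstance
    letI : Fintype (Sylow 2 G) := Fintype.ofFinite _
    have h4 : Nat.card {S' : Sylow 2 G // S' ≠ S₁} = Nat.card (Sylow 2 G) - 1 := by
      rw [Nat.card_eq_fintype_card, Nat.card_eq_fintype_card]
      exact Set.card_ne_eq S₁
    rw [h4, hn2, (hS S₁).1]
  have hbij := hinj.bijective_of_nat_card_le hcard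
  obtain ⟨s, hs⟩ := hbij.2 ⟨S₃, Ne.symm h13⟩
  have hs3 : (s : G) • S₂ = S₃ := congrArg Subtype.val hs
  have hs1 : (s : G) ≠ 1 := by
    intro h
    rw [h, one_smul] at hs3
    exact h23 hs3
  -- the commutator
  have hg1 : g ∈ Subgroup.normalizer (S₁ : Set G) :=
    Sylow.smul_eq_iff_mem_normalizer.mp h1
  have hgs : g * (s : G) * g⁻¹ ∈ (S₁ : Subgroup G) :=
    (Subgroup.mem_normalizer_iff.mp hg1 (s : G)).mp s.2
  have hc1 : (s : G)⁻¹ * (g * (s : G) * g⁻¹) ∈ (S₁ : Subgroup G) :=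
    Subgroup.mul_mem _ (Subgroup.inv_mem _ s.2) hgs
  have hginv : g⁻¹ • S₂ = S₂ := by
    have h4 : g⁻¹ • (g • S₂) = g⁻¹ • S₂ := by rw [h2]
    rw [inv_smul_smul] at h4
    exact h4.symm
  have hc2 : ((s : G)⁻¹ * (g * (s : G) * g⁻¹)) • S₂ = S₂ := by
    rw [mul_smul, mul_smul, mul_smul, hginv, hs3, h3, ← hs3, inv_smul_smul]
  have hc3 := hsr S₁ S₂ h12 _ hc1 hc2
  have hcomm : g * (s : G) = (s : G) * g := by
    have h4 : g * (s : G) * g⁻¹ = (s : G) := by
      have := inv_mul_eq_one.mp hc3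
      exact this.symm
    calc g * (s : G) = g * (s : G) * g⁻¹ * g := by group
      _ = (s : G) * g := by rw [h4]
  have hgS1 : g ∈ (S₁ : Subgroup G) := by
    rw [← (hS S₁).2 (s : G) s.2 hs1, Subgroup.mem_centralizer_iff]
    intro x hx
    rw [Set.mem_singleton_iff] at hx
    rw [hx]
    exact hcomm.symm
  exact hsr S₁ S₂ h12 g hgS1 h2

end Cfsg.Agent.H62.BR
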