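import Mathlib

/-!
S0999-C2D (helper62, for helper21's S0999 project): `SL₂(F) ≃* PSL₂(F)` for a finite field of
characteristic 2.
-/

set_option autoImplicit false
set_option linter.unusedVariables false

namespace Cfsg.Agent.H62.BR

theorem sl2_equiv_psl2 (F : Type) [Field F] [Fintype F] (m : ℕ) (hF : Fintype.card F = 2 ^ m) :
    Nonempty (Matrix.SpecialLinearGroup (Fin 2) F ≃*
      Matrix.ProjectiveSpecialLinearGroup (Fin 2) F) := by
  have h2 : (2 : F) = 0 := by
    have h1 : ((Fintype.card F : ℕ) : F) = 0 := Nat.cast_card_eq_zero F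
    rw [hF, Nat.cast_pow] at h1
    have h3 : ((2 : ℕ) : F) = 0 := eq_zero_of_pow_eq_zero h1
    exact_mod_cast h3
  have hc : Subgroup.center (Matrix.SpecialLinearGroup (Fin 2) F) = ⊥ := by
    rw [eq_bot_iff]
    intro A hA
    rw [Matrix.SpecialLinearGroup.mem_center_iff] at hA
    obtain ⟨r, hr, hrA⟩ := hA
    rw [Fintype.card_fin] at hr
    have h4 : (r - 1) ^ 2 = 0 := by linear_combination hr - (r - 1) * h2
    have h5 : r = 1 := sub_eq_zero.mp (eq_zero_of_pow_eq_zero h4)
    rw [Subgroup.mem_bot]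
    apply Subtype.ext
    rw [← hrA, h5]
    simp
  exact ⟨(QuotientGroup.quotientBot.symm).trans (QuotientGroup.quotientMulEquivOfEq hc.symm)⟩

end Cfsg.Agent.H62.BR
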