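import Cfsg.Agent.H21.BRDefs
import Cfsg.Agent.H21.BRSplit
import Cfsg.Agent.H4.IrrCount
import Cfsg.Agent.H81.Reg
import Cfsg.Agent.H16.BRCol

/-!
S0999-TBC1 (helper62, for helper21's S0999 project): the values of the irreducible characters at
an involution inverting `P` (type B).
-/

set_option autoImplicit false
set_option linter.unusedVariables false
set_option linter.style.haveILetI false

namespace Cfsg.Agent.H62.BR

open Cfsg Cfsg.Agent.H21.BR Cfsg.Agent.H16.BR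
open scoped ComplexConjugate

theorem tau_vals {G : Type*} [Group G] [Finite G] (p : ℕ) [Fact p.Prime] (hp2 : p ≠ 2)
    (P : Sylow p G) (hP : Nat.card (P : Subgroup G) = p)
    (hC : Subgroup.centralizer ((P : Subgroup G) : Set G) = (P : Subgroup G))
    (e t : ℕ) (X Y : Finset (IrrCharacter G)) (δ : IrrCharacter G → ℤ) (ε : ℤ)
    (h : B0Data p (P : Subgroup G) e X Y δ ε) (hB : TypeB p e t X Y δ ε)
    (Z : Finset (IrrCharacter G)) (hZ : ∀ ψ, ψ ∈ Z ↔ ψ ∉ X ∧ ψ ∉ Y)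
    (hsq : ∑ ψ ∈ Z, charDegree (ψ : G → ℂ) ^ 2 = p ^ 2 * (t - 1))
    (τ : G) (hτ : orderOf τ = 2) (hinv : ∀ x ∈ (P : Subgroup G), τ * x * τ⁻¹ = x⁻¹)
    (hcolY : ∀ x ∈ (P : Subgroup G), x ≠ 1 → ∑ θ ∈ Y, (θ : G → ℂ) x = -(ε : ℂ))
    (hdih : ∀ ψ : G → ℂ, IsCharacter G ψ → ∃ (w : ℕ) (s : ℤ), ψ τ = (s : ℂ) ∧
      ∑ᶠ x : ↥(P : Subgroup G), ψ (x : G) = (p : ℂ) * (w : ℂ) ∧ |s| ≤ (w : ℤ)) :
    ∃ s : ℤ, TauVals p t X Y δ τ s := by
  classical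
  haveI : Fintype G := Fintype.ofFinite G
  have hp : p.Prime := Fact.out
  have hp0 : 0 < p := hp.pos
  have hpC : (p : ℂ) ≠ 0 := Nat.cast_ne_zero.mpr hp.ne_zero
  have het := hB.het
  have he2 := hB.he2
  have ht2 := hB.ht2
  have hε := hB.hε
  have hep : e < p := by
    have h1 : e * 1 ≤ e * t := Nat.mul_le_mul_left e (by omega)
    omega
  have hetC : (e : ℂ) * (t : ℂ) = (p : ℂ) - 1 := by
    have h1 := congrArg (Nat.cast : ℕ → ℂ) het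
    rw [Nat.cast_mul, Nat.cast_sub hp.one_le, Nat.cast_one] at h1
    exact h1
  choose w s hs1 hs2 hs3 using fun ψ : IrrCharacter G =>
    hdih (ψ : G → ℂ) (Cfsg.Agent.H4.isCharacter_of_isIrrCharacter ψ.2)
  have hordτ : ¬ p ∣ orderOf τ := by
    rw [hτ]
    intro hdvd
    exact hp2 ((Nat.prime_dvd_prime_iff_eq hp Nat.prime_two).mp hdvd)
  have hcardY : Y.card = t := card_Y h t het (by omega)
  have hYne : Y.Nonempty := by
    rw [← Finset.card_pos, hcardY]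
    omega
  obtain ⟨θ0, hθ0⟩ := hYne
  have hvalY : ∀ θ ∈ Y, (θ : G → ℂ) τ = (s θ0 : ℂ) := by
    intro θ hθ
    rw [h.agree_Y θ hθ θ0 hθ0 τ hordτ, hs1]
  have hsY : ∀ θ ∈ Y, s θ = s θ0 := by
    intro θ hθ
    have h1 := hvalY θ hθ
    rw [hs1] at h1
    exact_mod_cast h1
  have hsumwY : ∑ θ ∈ Y, w θ = t := by
    have h1 := psum_finset_const (P : Subgroup G) p hp0 hP Y (fun θ => (θ : G → ℂ)) (-(ε : ℂ))
      hcolY
    have h2 : ∑ θ ∈ Y, ∑ᶠ x : ↥(P : Subgroup G), (θ : G → ℂ) (x : G) =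
        (p : ℂ) * ((∑ θ ∈ Y, w θ : ℕ) : ℂ) := by
      rw [Nat.cast_sum, Finset.mul_sum]
      exact Finset.sum_congr rfl (fun θ _ => hs2 θ)
    have h3 : ∑ θ ∈ Y, (θ : G → ℂ) 1 = (t : ℂ) * ((p : ℂ) - e) := by
      rw [Finset.sum_congr rfl (fun θ hθ => by rw [irr_one_cast, hB.deg_Y θ hθ]),
        Finset.sum_const, hcardY, nsmul_eq_mul, Nat.cast_sub hep.le]
    rw [h2, h3, hε] at h1
    have h5 : (p : ℂ) * ((∑ θ ∈ Y, w θ : ℕ) : ℂ) = (p : ℂ) * (t : ℂ) := by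
      rw [h1]
      push_cast
      linear_combination -hetC
    have h6 := mul_left_cancel₀ hpC h5
    exact_mod_cast h6
  have hex : ∃ θ1 ∈ Y, w θ1 ≤ 1 := by
    by_contra hcon
    push Not at hcon
    have h1 : ∑ θ ∈ Y, 2 ≤ ∑ θ ∈ Y, w θ := Finset.sum_le_sum (fun θ hθ => hcon θ hθ)
    rw [Finset.sum_const, hcardY, hsumwY, smul_eq_mul] at h1
    omega
  obtain ⟨θ1, hθ1, hw1⟩ := hex
  have hs_le : |s θ0| ≤ 1 := by
    rw [← hsY θ1 hθ1]
    have h1 : (w θ1 : ℤ) ≤ 1 := by exact_mod_cast hw1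
    linarith [hs3 θ1]
  have hminus : ∀ χ ∈ minusSet X δ, (χ : G → ℂ) τ = 0 := by
    intro χ hχ
    have hχ' := mem_minusSet.mp hχ
    have h1 := psum_const (P : Subgroup G) p hp0 hP (χ : G → ℂ) (δ χ : ℂ)
      (fun x hx hx1 => h.val_X χ hχ'.1 x hx hx1)
    rw [hs2, irr_one_cast, hB.deg_minus χ hχ, hχ'.2] at h1
    have h2 : (p : ℂ) * (w χ : ℂ) = 0 := by
      rw [h1, Nat.cast_sub hp.one_le]
      push_cast
      ring
    have h3 : (w χ : ℂ) = 0 := (mul_eq_zero.mp h2).resolve_left hpC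
    have h4 : w χ = 0 := by exact_mod_cast h3
    have h5 := hs3 χ
    rw [h4] at h5
    have h6 : s χ = 0 := abs_nonpos_iff.mp (by exact_mod_cast h5)
    rw [hs1, h6]
    simp
  have hplus : ∀ χ ∈ plusSet X δ, ∃ z : ℤ, (χ : G → ℂ) τ = (z : ℂ) ∧ |z| ≤ (t : ℤ) := by
    intro χ hχ
    have hχ' := mem_plusSet.mp hχ
    have h1 := psum_const (P : Subgroup G) p hp0 hP (χ : G → ℂ) (δ χ : ℂ)
      (fun x hx hx1 => h.val_X χ hχ'.1 x hx hx1)
    rw [hs2, irr_one_cast, hB.deg_plus χ hχ, hχ'.2.2] at h1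
    have h2 : (p : ℂ) * (w χ : ℂ) = (p : ℂ) * (t : ℂ) := by
      rw [h1, Nat.cast_mul, Nat.cast_sub hep.le]
      push_cast
      linear_combination -hetC
    have h3 : w χ = t := by exact_mod_cast mul_left_cancel₀ hpC h2
    refine ⟨s χ, hs1 χ, ?_⟩
    rw [← h3]
    exact hs3 χ
  have hone : ∀ g : G, ((one G : IrrCharacter G) : G → ℂ) g = 1 :=
    fun g => Cfsg.Agent.H21.E2Block.triv_apply g
  have hsum_plus : ∑ χ ∈ plusSet X δ, (χ : G → ℂ) τ = -1 - (s θ0 : ℂ) := by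
    have h1 := h.rel θ0 hθ0 τ hordτ
    rw [sum_X_split h (fun χ => (δ χ : ℂ) * (χ : G → ℂ) τ), h.δ_one, hs1 θ0, hε] at h1
    have h2 : ∑ χ ∈ plusSet X δ, (δ χ : ℂ) * (χ : G → ℂ) τ =
        ∑ χ ∈ plusSet X δ, (χ : G → ℂ) τ :=
      Finset.sum_congr rfl (fun χ hχ => by rw [(mem_plusSet.mp hχ).2.2]; simp)
    have h3 : ∑ χ ∈ minusSet X δ, (δ χ : ℂ) * (χ : G → ℂ) τ = 0 :=
      Finset.sum_eq_zero (fun χ hχ => by rw [hminus χ hχ, mul_zero])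
    rw [h2, h3, hone] at h1
    push_cast at h1
    linear_combination -h1
  have hZdeg : ∀ ψ ∈ Z, (charDegree (ψ : G → ℂ) : ℂ) = (p : ℂ) * (w ψ : ℂ) := by
    intro ψ hψ
    have hψ' := (hZ ψ).mp hψ
    have h1 := psum_const (P : Subgroup G) p hp0 hP (ψ : G → ℂ) 0
      (fun x hx hx1 => h.out_van ψ hψ'.1 hψ'.2 x hx hx1)
    rw [hs2, irr_one_cast, mul_zero, add_zero] at h1
    exact h1.symm
  have hZdegN : ∀ ψ ∈ Z, charDegree (ψ : G → ℂ) = p * w ψ := fun ψ hψ => by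
    exact_mod_cast hZdeg ψ hψ
  have hsumw2 : ∑ ψ ∈ Z, (w ψ : ℤ) ^ 2 = (t : ℤ) - 1 := by
    have h1 : ∑ ψ ∈ Z, charDegree (ψ : G → ℂ) ^ 2 = p ^ 2 * ∑ ψ ∈ Z, w ψ ^ 2 := by
      rw [Finset.mul_sum]
      exact Finset.sum_congr rfl (fun ψ hψ => by rw [hZdegN ψ hψ, mul_pow])
    rw [hsq] at h1
    have h2 : t - 1 = ∑ ψ ∈ Z, w ψ ^ 2 := Nat.eq_of_mul_eq_mul_left (pow_pos hp0 2) h1
    have h3 : ((t - 1 : ℕ) : ℤ) = (t : ℤ) - 1 := by omega
    rw [← h3, h2]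
    push_cast
    rfl
  have hsumsw : ∑ ψ ∈ Z, s ψ * (w ψ : ℤ) = (t : ℤ) - 1 := by
    have hcol := Cfsg.Agent.H4.column_orthogonality τ (1 : G)
    have hτ1 : τ ≠ 1 := by
      intro h0
      rw [h0, orderOf_one] at hτ
      omega
    have hempty : Nat.card {c : G // c * τ * c⁻¹ = 1} = 0 := by
      rw [Nat.card_eq_zero]
      left
      constructor
      rintro ⟨c, hc⟩
      apply hτ1
      have : τ = c⁻¹ * 1 * c := by rw [← hc]; group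
      rw [this]
      group
    rw [hempty, sum_split h Z hZ] at hcol
    have t1 : ((one G : IrrCharacter G) : G → ℂ) τ *
        conj (((one G : IrrCharacter G) : G → ℂ) 1) = 1 := by
      rw [hone, hone]
      simp
    have t2 : ∑ χ ∈ plusSet X δ, (χ : G → ℂ) τ * conj ((χ : G → ℂ) 1) =
        ((t : ℂ) * ((p : ℂ) - e)) * (-1 - (s θ0 : ℂ)) := by
      rw [← hsum_plus, Finset.mul_sum]
      apply Finset.sum_congr rfl
      intro χ hχ
      rw [irr_one_cast, Complex.conj_natCast, hB.deg_plus χ hχ, Nat.cast_mul,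
        Nat.cast_sub hep.le]
      ring
    have t3 : ∑ χ ∈ minusSet X δ, (χ : G → ℂ) τ * conj ((χ : G → ℂ) 1) = 0 :=
      Finset.sum_eq_zero (fun χ hχ => by rw [hminus χ hχ, zero_mul])
    have t4 : ∑ θ ∈ Y, (θ : G → ℂ) τ * conj ((θ : G → ℂ) 1) =
        (t : ℂ) * ((s θ0 : ℂ) * ((p : ℂ) - e)) := by
      rw [Finset.sum_congr rfl (fun θ hθ => by
        rw [hvalY θ hθ, irr_one_cast, Complex.conj_natCast, hB.deg_Y θ hθ,
          Nat.cast_sub hep.le]), Finset.sum_const, hcardY, nsmul_eq_mul]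
    have t5 : ∑ ψ ∈ Z, (ψ : G → ℂ) τ * conj ((ψ : G → ℂ) 1) =
        (p : ℂ) * ((∑ ψ ∈ Z, s ψ * (w ψ : ℤ) : ℤ) : ℂ) := by
      rw [Int.cast_sum, Finset.mul_sum]
      apply Finset.sum_congr rfl
      intro ψ hψ
      rw [hs1, irr_one_cast, Complex.conj_natCast, hZdeg ψ hψ]
      push_cast
      ring
    rw [t1, t2, t3, t4, t5] at hcol
    have h5 : (p : ℂ) * ((∑ ψ ∈ Z, s ψ * (w ψ : ℤ) : ℤ) : ℂ) = (p : ℂ) * ((t : ℂ) - 1) := by
      push_cast at hcol ⊢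
      linear_combination hcol - hetC
    have h6 := mul_left_cancel₀ hpC h5
    exact_mod_cast h6
  have hle : ∀ ψ ∈ Z, s ψ * (w ψ : ℤ) ≤ (w ψ : ℤ) ^ 2 := by
    intro ψ hψ
    have h1 : s ψ ≤ (w ψ : ℤ) := (le_abs_self _).trans (hs3 ψ)
    have h2 : (0 : ℤ) ≤ (w ψ : ℤ) := Nat.cast_nonneg _
    nlinarith
  have heq := (Finset.sum_eq_sum_iff_of_le hle).mp (hsumsw.trans hsumw2.symm)
  have hout : ∀ ψ : IrrCharacter G, ψ ∉ X → ψ ∉ Y →
      (charDegree (ψ : G → ℂ) : ℂ) = (p : ℂ) * (ψ : G → ℂ) τ := by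
    intro ψ hψX hψY
    have hψ : ψ ∈ Z := (hZ ψ).mpr ⟨hψX, hψY⟩
    have h1 := heq ψ hψ
    have hw0 : (w ψ : ℤ) ≠ 0 := by
      intro h0
      have h2 := hZdegN ψ hψ
      have h3 := irr_deg_pos ψ
      have h4 : w ψ = 0 := by exact_mod_cast h0
      rw [h4, mul_zero] at h2
      omega
    have h2 : s ψ = (w ψ : ℤ) := by
      have h3 : (w ψ : ℤ) * (s ψ - w ψ) = 0 := by linear_combination h1
      rcases mul_eq_zero.mp h3 with h4 | h4
      · exact absurd h4 hw0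
      · linarith
    rw [hZdeg ψ hψ, hs1, h2]
    push_cast
    rfl
  exact ⟨s θ0, ⟨hs_le, hvalY, hminus, hplus, hsum_plus, hout⟩⟩

end Cfsg.Agent.H62.BR
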