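import Mathlib
import Cfsg.Prelude.Def_Characters

/-!
S0999-TBDIH (helper62, for helper21's S0999 project): the dihedral bound
`|ψ(τ)| ≤ ⟨ψ|_P, 1_P⟩` for an involution `τ` inverting a subgroup `P` of odd prime order.
-/

set_option autoImplicit false
set_option linter.unusedVariables false
set_option linter.style.haveILetI false

namespace Cfsg.Agent.H62.BR

open Cfsg

theorem trace_idem_nat {V : Type*} [AddCommGroup V] [Module ℂ V] [FiniteDimensional ℂ V]
    (Q : Module.End ℂ V) (hQ : IsIdempotentElem Q) :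
    ∃ a : ℕ, LinearMap.trace ℂ V Q = (a : ℂ) := by
  obtain ⟨W, hW⟩ := (LinearMap.isProj_iff_isIdempotentElem Q).mpr hQ
  exact ⟨Module.finrank ℂ W, hW.trace⟩

theorem dihedral_bound {G : Type*} [Group G] [Finite G] (p : ℕ) [Fact p.Prime] (hp2 : p ≠ 2)
    (P : Subgroup G) (hP : Nat.card P = p) (τ : G) (hτ : orderOf τ = 2)
    (hinv : ∀ x ∈ P, τ * x * τ⁻¹ = x⁻¹) (ψ : G → ℂ) (hψ : IsCharacter G ψ) :
    ∃ (w : ℕ) (s : ℤ), ψ τ = (s : ℂ) ∧ ∑ᶠ x : ↥P, ψ (x : G) = (p : ℂ) * (w : ℂ) ∧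
      |s| ≤ (w : ℤ) := by
  classical
  obtain ⟨n, ρ, rfl⟩ := hψ
  have hp : p.Prime := Fact.out
  letI : Fintype P := Fintype.ofFinite P
  have hcardP : Fintype.card P = p := by
    rw [← Nat.card_eq_fintype_card]
    exact hP
  have hpC : (p : ℂ) ≠ 0 := Nat.cast_ne_zero.mpr hp.ne_zero
  have hτ2 : τ * τ = 1 := by
    have := pow_orderOf_eq_one τ
    rw [hτ, pow_two] at this
    exact this
  obtain ⟨U, hU⟩ : ∃ U : Module.End ℂ (Fin n → ℂ), U = ρ τ := ⟨_, rfl⟩
  obtain ⟨S, hS⟩ : ∃ S : Module.End ℂ (Fin n → ℂ), S = ∑ x : P, ρ (x : G) := ⟨_, rfl⟩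
  have hUU : U * U = 1 := by rw [hU, ← map_mul, hτ2, map_one]
  have hyS : ∀ y : P, ρ (y : G) * S = S := by
    intro y
    rw [hS, Finset.mul_sum]
    have h1 : ∀ x : P, ρ (y : G) * ρ (x : G) = ρ ((y * x : P) : G) := fun x => by
      rw [Subgroup.coe_mul, map_mul]
    simp_rw [h1]
    exact Fintype.sum_equiv (Equiv.mulLeft y) _ _ (fun x => rfl)
  have hSS : S * S = (p : ℂ) • S := by
    have h1 : S * S = ∑ y : P, ρ (y : G) * S := by
      rw [← Finset.sum_mul, ← hS]
    rw [h1]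
    simp_rw [hyS]
    rw [Finset.sum_const, Finset.card_univ, hcardP, Nat.cast_smul_eq_nsmul]
  have hUS : U * S = S * U := by
    rw [hS, Finset.mul_sum, Finset.sum_mul]
    have h1 : ∀ x : P, U * ρ (x : G) = ρ ((x⁻¹ : P) : G) * U := by
      intro x
      rw [hU, ← map_mul, ← map_mul]
      congr 1
      have := hinv x x.2
      rw [Subgroup.coe_inv, ← this]
      group
    simp_rw [h1]
    exact Fintype.sum_equiv (Equiv.inv P) _ _ (fun x => rfl)
  obtain ⟨E, hE⟩ : ∃ E : Module.End ℂ (Fin n → ℂ), E = (p : ℂ)⁻¹ • S := ⟨_, rfl⟩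
  have hEE : E * E = E := by
    rw [hE, smul_mul_smul_comm, hSS, smul_smul]
    congr 1
    field_simp
  have hUE : U * E = E * U := by
    rw [hE, mul_smul_comm, smul_mul_assoc, hUS]
  have e1 : E * (U * E) = U * E := by rw [← mul_assoc, ← hUE, mul_assoc, hEE]
  have e2 : U * E * E = U * E := by rw [mul_assoc, hEE]
  have e3 : U * E * (U * E) = E := by rw [mul_assoc, e1, ← mul_assoc, hUU, one_mul]
  have hP1 : (E + U * E) * (E + U * E) = (2 : ℂ) • (E + U * E) := by
    rw [add_mul, mul_add, mul_add, hEE, e1, e2, e3, two_smul]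
    abel
  have hM1 : (E - U * E) * (E - U * E) = (2 : ℂ) • (E - U * E) := by
    rw [sub_mul, mul_sub, mul_sub, hEE, e1, e2, e3, two_smul]
    abel
  have hQp : IsIdempotentElem ((2 : ℂ)⁻¹ • (E + U * E)) := by
    unfold IsIdempotentElem
    rw [smul_mul_smul_comm, hP1, smul_smul]
    congr 1
    norm_num
  have hQm : IsIdempotentElem ((2 : ℂ)⁻¹ • (E - U * E)) := by
    unfold IsIdempotentElem
    rw [smul_mul_smul_comm, hM1, smul_smul]
    congr 1
    norm_num
  obtain ⟨a, ha⟩ := trace_idem_nat _ hQp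
  obtain ⟨b, hb⟩ := trace_idem_nat _ hQm
  have htrE : LinearMap.trace ℂ _ E = (a : ℂ) + b := by
    have h1 : E = (2 : ℂ)⁻¹ • (E + U * E) + (2 : ℂ)⁻¹ • (E - U * E) := by
      rw [← smul_add, show E + U * E + (E - U * E) = (2 : ℂ) • E by rw [two_smul]; abel,
        smul_smul]
      norm_num
    rw [← ha, ← hb, ← map_add, ← h1]
  have htrUE : LinearMap.trace ℂ _ (U * E) = (a : ℂ) - b := by
    have h1 : U * E = (2 : ℂ)⁻¹ • (E + U * E) - (2 : ℂ)⁻¹ • (E - U * E) := by
      have h0 : (2 : ℂ)⁻¹ • (E + U * E) - (2 : ℂ)⁻¹ • (E - U * E)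
          = (2 : ℂ)⁻¹ • ((E + U * E) - (E - U * E)) := (smul_sub _ _ _).symm
      rw [h0, show E + U * E - (E - U * E) = (2 : ℂ) • (U * E) by rw [two_smul]; abel,
        smul_smul]
      norm_num
    rw [← ha, ← hb, ← map_sub, ← h1]
  have htrS : LinearMap.trace ℂ _ S = ∑ x : P, ρ.character (x : G) := by
    rw [hS, map_sum]
    rfl
  have hS_E : S = (p : ℂ) • E := by rw [hE, smul_smul, mul_inv_cancel₀ hpC, one_smul]
  have htrUS : LinearMap.trace ℂ _ (U * S) = (p : ℂ) * ρ.character τ := by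
    rw [hS, Finset.mul_sum, map_sum]
    have h1 : ∀ x : P, LinearMap.trace ℂ _ (U * ρ (x : G)) = ρ.character τ := by
      intro x
      rw [hU, ← map_mul]
      show ρ.character (τ * x) = ρ.character τ
      obtain ⟨z, hz⟩ : ∃ z : P, z * z = x := by
        refine ⟨x ^ ((p + 1) / 2), ?_⟩
        rw [← pow_add]
        have hodd : (p + 1) / 2 + (p + 1) / 2 = p + 1 := by
          rcases hp.eq_two_or_odd' with h | h
          · exact absurd h hp2
          · obtain ⟨k, hk⟩ := h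
            omega
        rw [hodd, pow_succ, ← hcardP, pow_card_eq_one, one_mul]
      have h2 : τ * (x : G) = (z : G)⁻¹ * τ * ((z : G)⁻¹)⁻¹ := by
        have h3 := hinv z z.2
        rw [← hz, Subgroup.coe_mul, inv_inv, ← h3]
        group
      rw [h2, Representation.char_conj]
    simp_rw [h1]
    rw [Finset.sum_const, Finset.card_univ, hcardP, nsmul_eq_mul]
  refine ⟨a + b, (a : ℤ) - b, ?_, ?_, ?_⟩
  · have h1 : LinearMap.trace ℂ _ (U * S) = (p : ℂ) * ((a : ℂ) - b) := by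
      rw [hS_E, mul_smul_comm, map_smul, htrUE, smul_eq_mul]
    rw [htrUS] at h1
    have h2 := mul_left_cancel₀ hpC h1
    rw [h2]
    push_cast
    ring
  · rw [finsum_eq_sum_of_fintype, ← htrS, hS_E, map_smul, htrE, smul_eq_mul]
    push_cast
    ring
  · exact abs_le.mpr ⟨by push_cast; omega, by push_cast; omega⟩

end Cfsg.Agent.H62.BR
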