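import Mathlib

/-!
S0999-TBG1 (helper62, for helper21's S0999 project): an involution inverting a self-centralizing
Sylow subgroup of prime order.
-/

set_option autoImplicit false
set_option linter.unusedVariables false

namespace Cfsg.Agent.H62.BR

theorem exists_inverting_involution {G : Type*} [Group G] [Finite G] (p : ℕ) [Fact p.Prime]
    (hp2 : p ≠ 2) (P : Sylow p G) (hP : Nat.card (P : Subgroup G) = p)
    (hC : Subgroup.centralizer ((P : Subgroup G) : Set G) = (P : Subgroup G))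
    (e : ℕ) (he : Nat.card (Subgroup.normalizer ((P : Subgroup G) : Set G)) = p * e)
    (hev : Even e) :
    ∃ τ : G, orderOf τ = 2 ∧ ∀ x ∈ (P : Subgroup G), τ * x * τ⁻¹ = x⁻¹ := by
  classical
  have hp : p.Prime := Fact.out
  obtain ⟨N, hN⟩ : ∃ N : Subgroup G, N = Subgroup.normalizer ((P : Subgroup G) : Set G) :=
    ⟨_, rfl⟩
  rw [← hN] at he
  have h2 : 2 ∣ Nat.card N := by
    rw [he]
    exact Dvd.dvd.mul_left hev.two_dvd p
  obtain ⟨τ', hτ'⟩ := exists_prime_orderOf_dvd_card' 2 h2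
  obtain ⟨τ, hτdef⟩ : ∃ τ : G, τ = (τ' : G) := ⟨_, rfl⟩
  have hτ : orderOf τ = 2 := by
    rw [hτdef, Subgroup.orderOf_coe]
    exact hτ'
  have hτN : τ ∈ Subgroup.normalizer ((P : Subgroup G) : Set G) := by
    rw [hτdef, ← hN]
    exact τ'.2
  have hτ2 : τ * τ = 1 := by
    have := pow_orderOf_eq_one τ
    rw [hτ, pow_two] at this
    exact this
  have hτinv : τ⁻¹ = τ := inv_eq_of_mul_eq_one_left hτ2
  have hτP : τ ∉ (P : Subgroup G) := by
    intro h
    have h3 : orderOf τ ∣ Nat.card (P : Subgroup G) := by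
      have := orderOf_dvd_natCard (⟨τ, h⟩ : (P : Subgroup G))
      rwa [Subgroup.orderOf_mk] at this
    rw [hτ, hP] at h3
    exact hp2 ((Nat.prime_dvd_prime_iff_eq Nat.prime_two hp).mp h3).symm
  have hnorm : ∀ x ∈ (P : Subgroup G), τ * x * τ⁻¹ ∈ (P : Subgroup G) :=
    fun x hx => (Subgroup.mem_normalizer_iff.mp hτN x).mp hx
  have hcommP : ∀ x ∈ (P : Subgroup G), ∀ y ∈ (P : Subgroup G), y * x = x * y := by
    intro x hx y hy
    have : x ∈ Subgroup.centralizer ((P : Subgroup G) : Set G) := by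
      rw [hC]
      exact hx
    exact Subgroup.mem_centralizer_iff.mp this y hy
  have hfix : ∀ x ∈ (P : Subgroup G), τ * x * τ⁻¹ = x → x = 1 := by
    intro x hx hfx
    by_contra hx1
    apply hτP
    have hz : Subgroup.zpowers x = (P : Subgroup G) := by
      apply Subgroup.eq_of_le_of_card_ge (by rw [Subgroup.zpowers_le]; exact hx)
      rw [Nat.card_zpowers, hP]
      have h3 : orderOf x ∣ p := by
        have := orderOf_dvd_natCard (⟨x, hx⟩ : (P : Subgroup G))
        rw [hP] at this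
        rwa [Subgroup.orderOf_mk] at this
      rcases (Nat.dvd_prime hp).mp h3 with h4 | h4
      · exact absurd (orderOf_eq_one_iff.mp h4) hx1
      · exact h4.ge
    rw [← hC, Subgroup.mem_centralizer_iff]
    intro y hy
    have hy' : y ∈ Subgroup.zpowers x := by
      rw [hz]
      exact hy
    obtain ⟨k, rfl⟩ := Subgroup.mem_zpowers_iff.mp hy'
    have hcomm : Commute τ x := by
      show τ * x = x * τ
      calc τ * x = τ * x * τ⁻¹ * τ := by group
        _ = x * τ := by rw [hfx]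
    exact (hcomm.zpow_right k).eq.symm
  refine ⟨τ, hτ, fun x hx => ?_⟩
  have hy : x * (τ * x * τ⁻¹) ∈ (P : Subgroup G) := Subgroup.mul_mem _ hx (hnorm x hx)
  have hyfix : τ * (x * (τ * x * τ⁻¹)) * τ⁻¹ = x * (τ * x * τ⁻¹) := by
    have h5 := hcommP x hx (τ * x * τ⁻¹) (hnorm x hx)
    have h6 : τ * (τ * x * τ⁻¹) * τ⁻¹ = x := by
      rw [hτinv]
      calc τ * (τ * x * τ) * τ = (τ * τ) * x * (τ * τ) := by group
        _ = x := by rw [hτ2, one_mul, mul_one]
    calc τ * (x * (τ * x * τ⁻¹)) * τ⁻¹ = (τ * x * τ⁻¹) * (τ * (τ * x * τ⁻¹) * τ⁻¹) := by group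
      _ = (τ * x * τ⁻¹) * x := by rw [h6]
      _ = x * (τ * x * τ⁻¹) := h5
  have h1 := hfix _ hy hyfix
  exact eq_inv_of_mul_eq_one_right h1

end Cfsg.Agent.H62.BR
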