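import Cfsg.Agent.H62.MatList

set_option autoImplicit false

namespace Cfsg.Agent.H62

open N4

/-- first generator. -/
def box : N4 := ⟨0, 1, 4, 0, 7, 0, 0, 4, 8, 0, 0, 1, 0, 8, 7, 0⟩
/-- its inverse. -/
def boxi : N4 := ⟨0, 1, 9, 0, 7, 0, 0, 9, 5, 0, 0, 1, 0, 5, 7, 0⟩
/-- second generator. -/
def boy : N4 := ⟨3, 0, 0, 10, 0, 3, 5, 0, 0, 9, 11, 0, 11, 0, 0, 11⟩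
/-- its inverse. -/
def boyi : N4 := ⟨11, 0, 0, 3, 0, 11, 8, 0, 0, 4, 3, 0, 2, 0, 0, 3⟩

/-- the elements of the group. -/
def boL : List N4 := [
  ⟨0, 0, 0, 1, 0, 0, 7, 0, 0, 11, 0, 0, 12, 0, 0, 0⟩,
  ⟨0, 0, 0, 5, 0, 0, 9, 0, 0, 10, 0, 0, 5, 0, 0, 0⟩,
  ⟨0, 0, 0, 8, 0, 0, 4, 0, 0, 3, 0, 0, 8, 0, 0, 0⟩,
  ⟨0, 0, 0, 12, 0, 0, 6, 0, 0, 2, 0, 0, 1, 0, 0, 0⟩,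
  ⟨0, 0, 2, 0, 0, 0, 0, 2, 6, 0, 0, 0, 0, 6, 0, 0⟩,
  ⟨0, 0, 3, 0, 0, 0, 0, 3, 4, 0, 0, 0, 0, 4, 0, 0⟩,
  ⟨0, 0, 10, 0, 0, 0, 0, 10, 9, 0, 0, 0, 0, 9, 0, 0⟩,
  ⟨0, 0, 11, 0, 0, 0, 0, 11, 7, 0, 0, 0, 0, 7, 0, 0⟩,
  ⟨0, 1, 4, 0, 7, 0, 0, 4, 8, 0, 0, 1, 0, 8, 7, 0⟩,
  ⟨0, 1, 6, 0, 7, 0, 0, 6, 1, 0, 0, 1, 0, 1, 7, 0⟩,
  ⟨0, 1, 7, 0, 7, 0, 0, 7, 12, 0, 0, 1, 0, 12, 7, 0⟩,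
  ⟨0, 1, 9, 0, 7, 0, 0, 9, 5, 0, 0, 1, 0, 5, 7, 0⟩,
  ⟨0, 4, 0, 0, 2, 0, 0, 0, 0, 0, 0, 7, 0, 0, 10, 0⟩,
  ⟨0, 5, 4, 0, 9, 0, 0, 4, 8, 0, 0, 8, 0, 8, 4, 0⟩,
  ⟨0, 5, 6, 0, 9, 0, 0, 6, 1, 0, 0, 8, 0, 1, 4, 0⟩,
  ⟨0, 5, 7, 0, 9, 0, 0, 7, 12, 0, 0, 8, 0, 12, 4, 0⟩,
  ⟨0, 5, 9, 0, 9, 0, 0, 9, 5, 0, 0, 8, 0, 5, 4, 0⟩,
  ⟨0, 6, 0, 0, 3, 0, 0, 0, 0, 0, 0, 9, 0, 0, 11, 0⟩,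
  ⟨0, 7, 0, 0, 10, 0, 0, 0, 0, 0, 0, 4, 0, 0, 2, 0⟩,
  ⟨0, 8, 4, 0, 4, 0, 0, 4, 8, 0, 0, 5, 0, 8, 9, 0⟩,
  ⟨0, 8, 6, 0, 4, 0, 0, 6, 1, 0, 0, 5, 0, 1, 9, 0⟩,
  ⟨0, 8, 7, 0, 4, 0, 0, 7, 12, 0, 0, 5, 0, 12, 9, 0⟩,
  ⟨0, 8, 9, 0, 4, 0, 0, 9, 5, 0, 0, 5, 0, 5, 9, 0⟩,
  ⟨0, 9, 0, 0, 11, 0, 0, 0, 0, 0, 0, 6, 0, 0, 3, 0⟩,
  ⟨0, 12, 4, 0, 6, 0, 0, 4, 8, 0, 0, 12, 0, 8, 6, 0⟩,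
  ⟨0, 12, 6, 0, 6, 0, 0, 6, 1, 0, 0, 12, 0, 1, 6, 0⟩,
  ⟨0, 12, 7, 0, 6, 0, 0, 7, 12, 0, 0, 12, 0, 12, 6, 0⟩,
  ⟨0, 12, 9, 0, 6, 0, 0, 9, 5, 0, 0, 12, 0, 5, 6, 0⟩,
  ⟨1, 0, 0, 0, 0, 1, 0, 0, 0, 0, 1, 0, 0, 0, 0, 1⟩,
  ⟨2, 0, 0, 2, 0, 2, 1, 0, 0, 6, 10, 0, 3, 0, 0, 10⟩,
  ⟨2, 0, 0, 3, 0, 2, 8, 0, 0, 4, 10, 0, 2, 0, 0, 10⟩,
  ⟨2, 0, 0, 10, 0, 2, 5, 0, 0, 9, 10, 0, 11, 0, 0, 10⟩,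
  ⟨2, 0, 0, 11, 0, 2, 12, 0, 0, 7, 10, 0, 10, 0, 0, 10⟩,
  ⟨3, 0, 0, 2, 0, 3, 1, 0, 0, 6, 11, 0, 3, 0, 0, 11⟩,
  ⟨3, 0, 0, 3, 0, 3, 8, 0, 0, 4, 11, 0, 2, 0, 0, 11⟩,
  ⟨3, 0, 0, 10, 0, 3, 5, 0, 0, 9, 11, 0, 11, 0, 0, 11⟩,
  ⟨3, 0, 0, 11, 0, 3, 12, 0, 0, 7, 11, 0, 10, 0, 0, 11⟩,
  ⟨5, 0, 0, 0, 0, 5, 0, 0, 0, 0, 8, 0, 0, 0, 0, 8⟩,
  ⟨8, 0, 0, 0, 0, 8, 0, 0, 0, 0, 5, 0, 0, 0, 0, 5⟩,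
  ⟨10, 0, 0, 2, 0, 10, 1, 0, 0, 6, 2, 0, 3, 0, 0, 2⟩,
  ⟨10, 0, 0, 3, 0, 10, 8, 0, 0, 4, 2, 0, 2, 0, 0, 2⟩,
  ⟨10, 0, 0, 10, 0, 10, 5, 0, 0, 9, 2, 0, 11, 0, 0, 2⟩,
  ⟨10, 0, 0, 11, 0, 10, 12, 0, 0, 7, 2, 0, 10, 0, 0, 2⟩,
  ⟨11, 0, 0, 2, 0, 11, 1, 0, 0, 6, 3, 0, 3, 0, 0, 3⟩,
  ⟨11, 0, 0, 3, 0, 11, 8, 0, 0, 4, 3, 0, 2, 0, 0, 3⟩,
  ⟨11, 0, 0, 10, 0, 11, 5, 0, 0, 9, 3, 0, 11, 0, 0, 3⟩,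
  ⟨11, 0, 0, 11, 0, 11, 12, 0, 0, 7, 3, 0, 10, 0, 0, 3⟩,
  ⟨12, 0, 0, 0, 0, 12, 0, 0, 0, 0, 12, 0, 0, 0, 0, 12⟩]

theorem bo_gens : mulN 13 box boxi = oneN ∧ mulN 13 boxi box = oneN ∧
    mulN 13 boy boyi = oneN ∧ mulN 13 boyi boy = oneN := by decide +kernel

set_option maxRecDepth 100000 in
theorem bo_one : oneN ∈ boL := by decide +kernel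

set_option maxRecDepth 100000 in
theorem bo_closed : ∀ n ∈ boL, ∀ g ∈ [(box, boxi), (boy, boyi)],
    mulN 13 n g.1 ∈ boL ∧ mulN 13 n g.2 ∈ boL := by decide +kernel

set_option maxRecDepth 100000 in
theorem bo_pow : ∀ n ∈ boL, ∃ k ∈ [6, 8], powN 13 n k = oneN := by decide +kernel

set_option maxRecDepth 100000 in
theorem bo_fpf : ∀ n ∈ boL, n = oneN ∨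
    (∃ e ∈ [1, 2, 3, 4, 5, 6], powN 13 n e = negOneN 13) ∨
      addN 13 (addN 13 oneN n) (powN 13 n 2) = zeroN ∨
      addN 13 (addN 13 (addN 13 (addN 13 oneN n) (powN 13 n 2)) (powN 13 n 3)) (powN 13 n 4) = zeroN := by
  decide +kernel

theorem bo_orders : powN 13 box 4 = negOneN 13 ∧ powN 13 box 8 = oneN ∧ powN 13 box 4 ≠ oneN ∧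
    powN 13 boy 6 = oneN ∧ powN 13 boy 3 ≠ oneN ∧ powN 13 boy 2 ≠ oneN := by
  decide +kernel

end Cfsg.Agent.H62
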