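import Cfsg.Agent.H62.MatList

set_option autoImplicit false

namespace Cfsg.Agent.H62

open N4

/-- first generator. -/
def c38x : N4 := ⟨0, 0, 1, 0, 0, 0, 0, 1, 0, 6, 0, 0, 1, 0, 0, 0⟩
/-- its inverse. -/
def c38xi : N4 := ⟨0, 0, 0, 1, 0, 0, 6, 0, 1, 0, 0, 0, 0, 1, 0, 0⟩
/-- second generator. -/
def c38y : N4 := ⟨0, 5, 0, 0, 2, 0, 0, 0, 0, 0, 0, 3, 0, 0, 4, 0⟩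
/-- its inverse. -/
def c38yi : N4 := ⟨0, 4, 0, 0, 3, 0, 0, 0, 0, 0, 0, 2, 0, 0, 5, 0⟩

/-- the elements of the group. -/
def c38L : List N4 := [
  ⟨0, 0, 0, 1, 0, 0, 6, 0, 1, 0, 0, 0, 0, 1, 0, 0⟩,
  ⟨0, 0, 0, 2, 0, 0, 5, 0, 4, 0, 0, 0, 0, 4, 0, 0⟩,
  ⟨0, 0, 0, 3, 0, 0, 4, 0, 5, 0, 0, 0, 0, 5, 0, 0⟩,
  ⟨0, 0, 0, 4, 0, 0, 3, 0, 2, 0, 0, 0, 0, 2, 0, 0⟩,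
  ⟨0, 0, 0, 5, 0, 0, 2, 0, 3, 0, 0, 0, 0, 3, 0, 0⟩,
  ⟨0, 0, 0, 6, 0, 0, 1, 0, 6, 0, 0, 0, 0, 6, 0, 0⟩,
  ⟨0, 0, 1, 0, 0, 0, 0, 1, 0, 6, 0, 0, 1, 0, 0, 0⟩,
  ⟨0, 0, 2, 0, 0, 0, 0, 2, 0, 3, 0, 0, 4, 0, 0, 0⟩,
  ⟨0, 0, 3, 0, 0, 0, 0, 3, 0, 2, 0, 0, 5, 0, 0, 0⟩,
  ⟨0, 0, 4, 0, 0, 0, 0, 4, 0, 5, 0, 0, 2, 0, 0, 0⟩,
  ⟨0, 0, 5, 0, 0, 0, 0, 5, 0, 4, 0, 0, 3, 0, 0, 0⟩,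
  ⟨0, 0, 6, 0, 0, 0, 0, 6, 0, 1, 0, 0, 6, 0, 0, 0⟩,
  ⟨0, 1, 0, 0, 6, 0, 0, 0, 0, 0, 0, 1, 0, 0, 6, 0⟩,
  ⟨0, 2, 0, 0, 5, 0, 0, 0, 0, 0, 0, 4, 0, 0, 3, 0⟩,
  ⟨0, 3, 0, 0, 4, 0, 0, 0, 0, 0, 0, 5, 0, 0, 2, 0⟩,
  ⟨0, 4, 0, 0, 3, 0, 0, 0, 0, 0, 0, 2, 0, 0, 5, 0⟩,
  ⟨0, 5, 0, 0, 2, 0, 0, 0, 0, 0, 0, 3, 0, 0, 4, 0⟩,
  ⟨0, 6, 0, 0, 1, 0, 0, 0, 0, 0, 0, 6, 0, 0, 1, 0⟩,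
  ⟨1, 0, 0, 0, 0, 1, 0, 0, 0, 0, 1, 0, 0, 0, 0, 1⟩,
  ⟨2, 0, 0, 0, 0, 2, 0, 0, 0, 0, 4, 0, 0, 0, 0, 4⟩,
  ⟨3, 0, 0, 0, 0, 3, 0, 0, 0, 0, 5, 0, 0, 0, 0, 5⟩,
  ⟨4, 0, 0, 0, 0, 4, 0, 0, 0, 0, 2, 0, 0, 0, 0, 2⟩,
  ⟨5, 0, 0, 0, 0, 5, 0, 0, 0, 0, 3, 0, 0, 0, 0, 3⟩,
  ⟨6, 0, 0, 0, 0, 6, 0, 0, 0, 0, 6, 0, 0, 0, 0, 6⟩]

theorem c38_gens : mulN 7 c38x c38xi = oneN ∧ mulN 7 c38xi c38x = oneN ∧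
    mulN 7 c38y c38yi = oneN ∧ mulN 7 c38yi c38y = oneN := by decide +kernel

set_option maxRecDepth 100000 in
theorem c38_one : oneN ∈ c38L := by decide +kernel

set_option maxRecDepth 100000 in
theorem c38_closed : ∀ n ∈ c38L, ∀ g ∈ [(c38x, c38xi), (c38y, c38yi)],
    mulN 7 n g.1 ∈ c38L ∧ mulN 7 n g.2 ∈ c38L := by decide +kernel

set_option maxRecDepth 100000 in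
theorem c38_pow : ∀ n ∈ c38L, ∃ k ∈ [8, 12], powN 7 n k = oneN := by decide +kernel

set_option maxRecDepth 100000 in
theorem c38_fpf : ∀ n ∈ c38L, n = oneN ∨
    (∃ e ∈ [1, 2, 3, 4, 5, 6], powN 7 n e = negOneN 7) ∨
      addN 7 (addN 7 oneN n) (powN 7 n 2) = zeroN ∨
      addN 7 (addN 7 (addN 7 (addN 7 oneN n) (powN 7 n 2)) (powN 7 n 3)) (powN 7 n 4) = zeroN := by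
  decide +kernel

theorem c38_orders : powN 7 c38x 4 = negOneN 7 ∧ powN 7 c38x 8 = oneN ∧ powN 7 c38x 4 ≠ oneN ∧
    powN 7 c38y 12 = oneN ∧ powN 7 c38y 6 ≠ oneN ∧ powN 7 c38y 4 ≠ oneN := by
  decide +kernel

end Cfsg.Agent.H62
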