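import Cfsg.Agent.H62.MatList

set_option autoImplicit false

namespace Cfsg.Agent.H62

open N4

/-- first generator (order 10). -/
def q9x : N4 := ⟨1, 0, 1, 1, 1, 1, 2, 0, 1, 1, 1, 2, 0, 1, 1, 1⟩
/-- its inverse. -/
def q9xi : N4 := ⟨1, 2, 1, 0, 0, 2, 1, 1, 1, 0, 2, 1, 2, 1, 0, 2⟩
/-- second generator (order 8). -/
def q9y : N4 := ⟨0, 0, 2, 1, 0, 2, 1, 0, 2, 0, 1, 1, 2, 1, 2, 0⟩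
/-- its inverse. -/
def q9yi : N4 := ⟨0, 2, 0, 2, 1, 0, 2, 1, 1, 1, 2, 1, 2, 1, 2, 1⟩

/-- the elements of the group. -/
def q9L : List N4 := [
  ⟨0, 0, 0, 1, 1, 1, 1, 2, 2, 1, 0, 1, 1, 0, 0, 2⟩,
  ⟨0, 0, 0, 2, 2, 2, 2, 1, 1, 2, 0, 2, 2, 0, 0, 1⟩,
  ⟨0, 0, 1, 2, 0, 1, 2, 0, 1, 0, 2, 2, 1, 2, 1, 0⟩,
  ⟨0, 0, 2, 1, 0, 2, 1, 0, 2, 0, 1, 1, 2, 1, 2, 0⟩,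
  ⟨0, 1, 0, 1, 2, 0, 1, 2, 2, 2, 1, 2, 1, 2, 1, 2⟩,
  ⟨0, 1, 1, 1, 0, 1, 0, 2, 0, 2, 2, 0, 1, 2, 0, 0⟩,
  ⟨0, 1, 1, 2, 2, 1, 0, 1, 1, 1, 1, 0, 1, 2, 1, 1⟩,
  ⟨0, 2, 0, 2, 1, 0, 2, 1, 1, 1, 2, 1, 2, 1, 2, 1⟩,
  ⟨0, 2, 2, 1, 1, 2, 0, 2, 2, 2, 2, 0, 2, 1, 2, 2⟩,
  ⟨0, 2, 2, 2, 0, 2, 0, 1, 0, 1, 1, 0, 2, 1, 0, 0⟩,
  ⟨1, 0, 0, 0, 0, 1, 0, 0, 0, 0, 1, 0, 0, 0, 0, 1⟩,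
  ⟨1, 0, 0, 1, 0, 0, 1, 1, 0, 1, 2, 1, 1, 0, 0, 0⟩,
  ⟨1, 0, 0, 2, 2, 2, 1, 2, 2, 1, 1, 0, 2, 0, 0, 2⟩,
  ⟨1, 0, 1, 0, 0, 1, 2, 1, 1, 0, 1, 2, 0, 1, 0, 1⟩,
  ⟨1, 0, 1, 1, 1, 1, 2, 0, 1, 1, 1, 2, 0, 1, 1, 1⟩,
  ⟨1, 0, 2, 0, 2, 0, 2, 1, 2, 2, 0, 2, 0, 1, 1, 2⟩,
  ⟨1, 1, 0, 2, 2, 0, 1, 1, 0, 2, 0, 1, 1, 0, 2, 0⟩,
  ⟨1, 1, 1, 1, 1, 1, 1, 0, 2, 2, 1, 0, 1, 0, 1, 0⟩,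
  ⟨1, 1, 2, 2, 1, 2, 2, 0, 0, 1, 2, 2, 1, 0, 1, 1⟩,
  ⟨1, 2, 0, 0, 2, 2, 0, 0, 1, 2, 2, 1, 2, 2, 1, 1⟩,
  ⟨1, 2, 0, 1, 0, 0, 2, 0, 2, 2, 0, 0, 1, 2, 2, 2⟩,
  ⟨1, 2, 1, 0, 0, 2, 1, 1, 1, 0, 2, 1, 2, 1, 0, 2⟩,
  ⟨1, 2, 1, 1, 2, 1, 1, 2, 0, 2, 0, 0, 2, 2, 0, 1⟩,
  ⟨1, 2, 1, 2, 0, 1, 1, 0, 0, 1, 2, 0, 2, 2, 2, 2⟩,
  ⟨1, 2, 2, 2, 2, 2, 0, 2, 0, 0, 1, 1, 0, 0, 1, 2⟩,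
  ⟨2, 0, 0, 0, 0, 2, 0, 0, 0, 0, 2, 0, 0, 0, 0, 2⟩,
  ⟨2, 0, 0, 1, 1, 1, 2, 1, 1, 2, 2, 0, 1, 0, 0, 1⟩,
  ⟨2, 0, 0, 2, 0, 0, 2, 2, 0, 2, 1, 2, 2, 0, 0, 0⟩,
  ⟨2, 0, 1, 0, 1, 0, 1, 2, 1, 1, 0, 1, 0, 2, 2, 1⟩,
  ⟨2, 0, 2, 0, 0, 2, 1, 2, 2, 0, 2, 1, 0, 2, 0, 2⟩,
  ⟨2, 0, 2, 2, 2, 2, 1, 0, 2, 2, 2, 1, 0, 2, 2, 2⟩,
  ⟨2, 1, 0, 0, 1, 1, 0, 0, 2, 1, 1, 2, 1, 1, 2, 2⟩,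
  ⟨2, 1, 0, 2, 0, 0, 1, 0, 1, 1, 0, 0, 2, 1, 1, 1⟩,
  ⟨2, 1, 1, 1, 1, 1, 0, 1, 0, 0, 2, 2, 0, 0, 2, 1⟩,
  ⟨2, 1, 2, 0, 0, 1, 2, 2, 2, 0, 1, 2, 1, 2, 0, 1⟩,
  ⟨2, 1, 2, 1, 0, 2, 2, 0, 0, 2, 1, 0, 1, 1, 1, 1⟩,
  ⟨2, 1, 2, 2, 1, 2, 2, 1, 0, 1, 0, 0, 1, 1, 0, 2⟩,
  ⟨2, 2, 0, 1, 1, 0, 2, 2, 0, 1, 0, 2, 2, 0, 1, 0⟩,
  ⟨2, 2, 1, 1, 2, 1, 1, 0, 0, 2, 1, 1, 2, 0, 2, 2⟩,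
  ⟨2, 2, 2, 2, 2, 2, 2, 0, 1, 1, 2, 0, 2, 0, 2, 0⟩]

theorem q9_gens : mulN 3 q9x q9xi = oneN ∧ mulN 3 q9xi q9x = oneN ∧
    mulN 3 q9y q9yi = oneN ∧ mulN 3 q9yi q9y = oneN := by decide +kernel

set_option maxRecDepth 100000 in
theorem q9_one : oneN ∈ q9L := by decide +kernel

set_option maxRecDepth 100000 in
theorem q9_closed : ∀ n ∈ q9L, ∀ g ∈ [(q9x, q9xi), (q9y, q9yi)],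
    mulN 3 n g.1 ∈ q9L ∧ mulN 3 n g.2 ∈ q9L := by decide +kernel

set_option maxRecDepth 100000 in
theorem q9_pow : ∀ n ∈ q9L, ∃ k ∈ [8, 10], powN 3 n k = oneN := by decide +kernel

set_option maxRecDepth 100000 in
theorem q9_fpf : ∀ n ∈ q9L, n = oneN ∨
    (∃ e ∈ [1, 2, 4, 5], powN 3 n e = negOneN 3) ∨
      addN 3 (addN 3 (addN 3 (addN 3 oneN n) (powN 3 n 2)) (powN 3 n 3)) (powN 3 n 4) = zeroN := by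
  decide +kernel

theorem q9_orders : powN 3 q9x 10 = oneN ∧ powN 3 q9x 5 ≠ oneN ∧ powN 3 q9x 2 ≠ oneN ∧
    powN 3 q9y 8 = oneN ∧ powN 3 q9y 4 ≠ oneN := by
  decide +kernel

end Cfsg.Agent.H62
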