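import Cfsg.Agent.H62.MatList

set_option autoImplicit false

namespace Cfsg.Agent.H62

open N4

/-- first generator. -/
def s5x : N4 := ⟨0, 0, 0, 2, 0, 0, 2, 0, 3, 0, 0, 0, 0, 4, 0, 0⟩
/-- its inverse. -/
def s5xi : N4 := ⟨0, 0, 5, 0, 0, 0, 0, 2, 0, 4, 0, 0, 4, 0, 0, 0⟩
/-- second generator. -/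
def s5y : N4 := ⟨0, 3, 3, 6, 3, 0, 6, 4, 1, 1, 1, 1, 1, 6, 1, 6⟩
/-- its inverse. -/
def s5yi : N4 := ⟨1, 1, 1, 4, 1, 6, 4, 6, 6, 6, 3, 0, 6, 1, 0, 4⟩

/-- the elements of the group. -/
def s5L : List N4 := [
  ⟨0, 0, 0, 2, 0, 0, 2, 0, 3, 0, 0, 0, 0, 4, 0, 0⟩,
  ⟨0, 0, 0, 5, 0, 0, 5, 0, 4, 0, 0, 0, 0, 3, 0, 0⟩,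
  ⟨0, 0, 1, 3, 0, 0, 4, 1, 2, 1, 0, 0, 6, 2, 0, 0⟩,
  ⟨0, 0, 2, 0, 0, 0, 0, 5, 0, 3, 0, 0, 3, 0, 0, 0⟩,
  ⟨0, 0, 3, 6, 0, 0, 1, 3, 6, 2, 0, 0, 5, 6, 0, 0⟩,
  ⟨0, 0, 4, 1, 0, 0, 6, 4, 1, 5, 0, 0, 2, 1, 0, 0⟩,
  ⟨0, 0, 5, 0, 0, 0, 0, 2, 0, 4, 0, 0, 4, 0, 0, 0⟩,
  ⟨0, 0, 6, 4, 0, 0, 3, 6, 5, 6, 0, 0, 1, 5, 0, 0⟩,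
  ⟨0, 1, 0, 0, 6, 0, 0, 0, 0, 0, 0, 6, 0, 0, 1, 0⟩,
  ⟨0, 1, 2, 4, 1, 0, 4, 5, 6, 4, 5, 4, 4, 1, 4, 2⟩,
  ⟨0, 1, 5, 3, 1, 0, 3, 2, 1, 3, 5, 4, 3, 6, 4, 2⟩,
  ⟨0, 3, 2, 1, 4, 0, 6, 2, 6, 4, 0, 4, 3, 6, 3, 0⟩,
  ⟨0, 3, 2, 3, 4, 0, 4, 2, 5, 3, 0, 4, 4, 5, 3, 0⟩,
  ⟨0, 3, 3, 4, 3, 0, 4, 4, 5, 1, 1, 1, 1, 2, 1, 6⟩,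
  ⟨0, 3, 3, 6, 3, 0, 6, 4, 1, 1, 1, 1, 1, 6, 1, 6⟩,
  ⟨0, 3, 4, 1, 3, 0, 1, 3, 6, 6, 1, 1, 6, 1, 1, 6⟩,
  ⟨0, 3, 4, 3, 3, 0, 3, 3, 2, 6, 1, 1, 6, 5, 1, 6⟩,
  ⟨0, 3, 5, 4, 4, 0, 3, 5, 2, 4, 0, 4, 3, 2, 3, 0⟩,
  ⟨0, 3, 5, 6, 4, 0, 1, 5, 1, 3, 0, 4, 4, 1, 3, 0⟩,
  ⟨0, 4, 2, 1, 3, 0, 6, 2, 6, 4, 0, 3, 3, 6, 4, 0⟩,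
  ⟨0, 4, 2, 3, 3, 0, 4, 2, 5, 3, 0, 3, 4, 5, 4, 0⟩,
  ⟨0, 4, 3, 4, 4, 0, 4, 4, 5, 1, 6, 6, 1, 2, 6, 1⟩,
  ⟨0, 4, 3, 6, 4, 0, 6, 4, 1, 1, 6, 6, 1, 6, 6, 1⟩,
  ⟨0, 4, 4, 1, 4, 0, 1, 3, 6, 6, 6, 6, 6, 1, 6, 1⟩,
  ⟨0, 4, 4, 3, 4, 0, 3, 3, 2, 6, 6, 6, 6, 5, 6, 1⟩,
  ⟨0, 4, 5, 4, 3, 0, 3, 5, 2, 4, 0, 3, 3, 2, 4, 0⟩,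
  ⟨0, 4, 5, 6, 3, 0, 1, 5, 1, 3, 0, 3, 4, 1, 4, 0⟩,
  ⟨0, 6, 0, 0, 1, 0, 0, 0, 0, 0, 0, 1, 0, 0, 6, 0⟩,
  ⟨0, 6, 2, 4, 6, 0, 4, 5, 6, 4, 2, 3, 4, 1, 3, 5⟩,
  ⟨0, 6, 5, 3, 6, 0, 3, 2, 1, 3, 2, 3, 3, 6, 3, 5⟩,
  ⟨1, 0, 0, 0, 0, 1, 0, 0, 0, 0, 1, 0, 0, 0, 0, 1⟩,
  ⟨1, 0, 3, 2, 0, 6, 2, 4, 4, 1, 3, 5, 1, 3, 5, 4⟩,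
  ⟨1, 0, 4, 5, 0, 6, 5, 3, 3, 6, 3, 5, 6, 4, 5, 4⟩,
  ⟨1, 1, 1, 4, 1, 6, 4, 6, 6, 6, 3, 0, 6, 1, 0, 4⟩,
  ⟨1, 1, 2, 4, 6, 1, 3, 2, 4, 6, 3, 4, 1, 4, 3, 3⟩,
  ⟨1, 1, 3, 4, 1, 6, 4, 4, 6, 2, 3, 0, 2, 1, 0, 4⟩,
  ⟨1, 1, 4, 3, 1, 6, 3, 3, 1, 5, 3, 0, 5, 6, 0, 4⟩,
  ⟨1, 1, 5, 3, 6, 1, 4, 5, 3, 1, 3, 4, 6, 3, 3, 3⟩,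
  ⟨1, 1, 6, 3, 1, 6, 3, 1, 1, 1, 3, 0, 1, 6, 0, 4⟩,
  ⟨1, 2, 1, 0, 2, 6, 0, 6, 0, 5, 1, 4, 5, 0, 4, 6⟩,
  ⟨1, 2, 1, 4, 5, 1, 3, 1, 0, 3, 6, 5, 4, 0, 2, 6⟩,
  ⟨1, 2, 3, 4, 5, 1, 3, 3, 1, 2, 6, 5, 5, 1, 2, 6⟩,
  ⟨1, 2, 4, 3, 5, 1, 4, 4, 6, 5, 6, 5, 2, 6, 2, 6⟩,
  ⟨1, 2, 6, 0, 2, 6, 0, 1, 0, 2, 1, 4, 2, 0, 4, 6⟩,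
  ⟨1, 2, 6, 3, 5, 1, 4, 6, 0, 4, 6, 5, 3, 0, 2, 6⟩,
  ⟨1, 3, 1, 0, 3, 6, 0, 6, 0, 5, 6, 2, 5, 0, 2, 1⟩,
  ⟨1, 3, 1, 1, 3, 6, 1, 6, 5, 5, 4, 6, 5, 2, 6, 3⟩,
  ⟨1, 3, 1, 6, 3, 6, 6, 6, 2, 5, 4, 6, 5, 5, 6, 3⟩,
  ⟨1, 3, 6, 0, 3, 6, 0, 1, 0, 2, 6, 2, 2, 0, 2, 1⟩,
  ⟨1, 3, 6, 1, 3, 6, 1, 1, 5, 2, 4, 6, 2, 2, 6, 3⟩,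
  ⟨1, 3, 6, 6, 3, 6, 6, 1, 2, 2, 4, 6, 2, 5, 6, 3⟩,
  ⟨1, 5, 1, 4, 2, 1, 3, 1, 6, 1, 6, 2, 6, 6, 5, 6⟩,
  ⟨1, 5, 1, 6, 5, 6, 6, 6, 3, 4, 2, 6, 4, 4, 6, 5⟩,
  ⟨1, 5, 2, 0, 2, 1, 0, 2, 1, 2, 6, 2, 5, 1, 5, 6⟩,
  ⟨1, 5, 2, 2, 5, 6, 2, 5, 2, 2, 2, 6, 2, 5, 6, 5⟩,
  ⟨1, 5, 5, 0, 2, 1, 0, 5, 6, 5, 6, 2, 2, 6, 5, 6⟩,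
  ⟨1, 5, 5, 5, 5, 6, 5, 2, 5, 5, 2, 6, 5, 2, 6, 5⟩,
  ⟨1, 5, 6, 1, 5, 6, 1, 1, 4, 3, 2, 6, 3, 3, 6, 5⟩,
  ⟨1, 5, 6, 3, 2, 1, 4, 6, 1, 6, 6, 2, 1, 1, 5, 6⟩,
  ⟨1, 6, 3, 1, 6, 6, 1, 4, 6, 1, 0, 3, 1, 1, 3, 0⟩,
  ⟨1, 6, 3, 2, 1, 1, 5, 3, 6, 3, 3, 3, 4, 6, 4, 3⟩,
  ⟨1, 6, 3, 3, 6, 6, 3, 4, 2, 1, 0, 3, 1, 5, 3, 0⟩,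
  ⟨1, 6, 4, 4, 6, 6, 4, 3, 5, 6, 0, 3, 6, 2, 3, 0⟩,
  ⟨1, 6, 4, 5, 1, 1, 2, 4, 1, 4, 3, 3, 3, 1, 4, 3⟩,
  ⟨1, 6, 4, 6, 6, 6, 6, 3, 1, 6, 0, 3, 6, 6, 3, 0⟩,
  ⟨2, 1, 0, 2, 6, 2, 5, 0, 2, 6, 2, 1, 1, 2, 6, 2⟩,
  ⟨2, 1, 0, 5, 6, 2, 2, 0, 5, 1, 2, 1, 6, 5, 6, 2⟩,
  ⟨2, 1, 1, 1, 1, 5, 1, 6, 4, 4, 6, 5, 4, 3, 5, 1⟩,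
  ⟨2, 1, 2, 5, 1, 5, 5, 5, 5, 2, 6, 5, 2, 2, 5, 1⟩,
  ⟨2, 1, 3, 1, 6, 2, 6, 3, 1, 1, 2, 1, 6, 1, 6, 2⟩,
  ⟨2, 1, 4, 6, 6, 2, 1, 4, 6, 6, 2, 1, 1, 6, 6, 2⟩,
  ⟨2, 1, 5, 2, 1, 5, 2, 2, 2, 5, 6, 5, 5, 5, 5, 1⟩,
  ⟨2, 1, 6, 6, 1, 5, 6, 1, 3, 3, 6, 5, 3, 4, 5, 1⟩,
  ⟨2, 2, 1, 0, 5, 2, 0, 1, 4, 3, 2, 3, 4, 4, 4, 2⟩,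
  ⟨2, 2, 2, 2, 5, 2, 5, 2, 2, 0, 4, 5, 0, 2, 2, 4⟩,
  ⟨2, 2, 3, 5, 2, 5, 5, 4, 3, 1, 4, 2, 1, 4, 2, 3⟩,
  ⟨2, 2, 4, 2, 2, 5, 2, 3, 4, 6, 4, 2, 6, 3, 2, 3⟩,
  ⟨2, 2, 5, 5, 5, 2, 2, 5, 5, 0, 4, 5, 0, 5, 2, 4⟩,
  ⟨2, 2, 6, 0, 5, 2, 0, 6, 3, 4, 2, 3, 3, 3, 4, 2⟩,
  ⟨2, 3, 0, 0, 3, 5, 0, 0, 0, 0, 4, 5, 0, 0, 5, 3⟩,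
  ⟨2, 3, 1, 0, 4, 2, 0, 1, 4, 3, 2, 2, 4, 4, 5, 2⟩,
  ⟨2, 3, 6, 0, 4, 2, 0, 6, 3, 4, 2, 2, 3, 3, 5, 2⟩,
  ⟨2, 4, 2, 3, 4, 5, 3, 5, 1, 4, 0, 6, 4, 6, 6, 0⟩,
  ⟨2, 4, 2, 4, 4, 5, 4, 5, 6, 4, 2, 2, 4, 1, 2, 5⟩,
  ⟨2, 4, 2, 5, 3, 2, 2, 2, 0, 2, 2, 5, 5, 0, 2, 2⟩,
  ⟨2, 4, 5, 2, 3, 2, 5, 5, 0, 5, 2, 5, 2, 0, 2, 2⟩,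
  ⟨2, 4, 5, 3, 4, 5, 3, 2, 1, 3, 2, 2, 3, 6, 2, 5⟩,
  ⟨2, 4, 5, 4, 4, 5, 4, 2, 6, 3, 0, 6, 3, 1, 6, 0⟩,
  ⟨2, 5, 0, 1, 2, 2, 6, 0, 3, 3, 4, 2, 4, 3, 5, 4⟩,
  ⟨2, 5, 0, 6, 2, 2, 1, 0, 4, 4, 4, 2, 3, 4, 5, 4⟩,
  ⟨2, 5, 2, 3, 5, 5, 3, 5, 1, 4, 5, 4, 4, 6, 4, 2⟩,
  ⟨2, 5, 2, 5, 2, 2, 2, 2, 0, 2, 2, 4, 5, 0, 3, 2⟩,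
  ⟨2, 5, 5, 2, 2, 2, 5, 5, 0, 5, 2, 4, 2, 0, 3, 2⟩,
  ⟨2, 5, 5, 4, 5, 5, 4, 2, 6, 3, 5, 4, 3, 1, 4, 2⟩,
  ⟨2, 6, 0, 1, 6, 5, 1, 0, 5, 0, 3, 1, 0, 2, 1, 4⟩,
  ⟨2, 6, 0, 6, 6, 5, 6, 0, 2, 0, 3, 1, 0, 5, 1, 4⟩,
  ⟨2, 6, 3, 1, 1, 2, 6, 3, 3, 0, 2, 6, 0, 3, 1, 2⟩,
  ⟨2, 6, 3, 3, 1, 2, 4, 3, 2, 6, 2, 6, 1, 2, 1, 2⟩,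
  ⟨2, 6, 4, 4, 1, 2, 3, 4, 5, 1, 2, 6, 6, 5, 1, 2⟩,
  ⟨2, 6, 4, 6, 1, 2, 1, 4, 4, 0, 2, 6, 0, 4, 1, 2⟩,
  ⟨3, 0, 1, 3, 0, 4, 3, 6, 1, 6, 6, 1, 6, 6, 1, 1⟩,
  ⟨3, 0, 1, 5, 0, 3, 2, 1, 3, 6, 3, 0, 1, 3, 0, 3⟩,
  ⟨3, 0, 3, 3, 0, 4, 3, 4, 1, 2, 6, 1, 2, 6, 1, 1⟩,
  ⟨3, 0, 3, 5, 0, 3, 2, 3, 4, 5, 3, 0, 2, 4, 0, 3⟩,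
  ⟨3, 0, 4, 2, 0, 3, 5, 4, 3, 2, 3, 0, 5, 3, 0, 3⟩,
  ⟨3, 0, 4, 4, 0, 4, 4, 3, 6, 5, 6, 1, 5, 1, 1, 1⟩,
  ⟨3, 0, 6, 2, 0, 3, 5, 6, 4, 1, 3, 0, 6, 4, 0, 3⟩,
  ⟨3, 0, 6, 4, 0, 4, 4, 1, 6, 1, 6, 1, 1, 1, 1, 1⟩,
  ⟨3, 2, 2, 2, 5, 3, 5, 2, 2, 0, 5, 5, 0, 2, 2, 5⟩,
  ⟨3, 2, 3, 2, 2, 4, 2, 4, 4, 1, 2, 5, 1, 3, 5, 5⟩,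
  ⟨3, 2, 3, 5, 2, 4, 5, 4, 3, 1, 6, 0, 1, 4, 0, 1⟩,
  ⟨3, 2, 4, 2, 2, 4, 2, 3, 4, 6, 6, 0, 6, 3, 0, 1⟩,
  ⟨3, 2, 4, 5, 2, 4, 5, 3, 3, 6, 2, 5, 6, 4, 5, 5⟩,
  ⟨3, 2, 5, 5, 5, 3, 2, 5, 5, 0, 5, 5, 0, 5, 2, 5⟩,
  ⟨3, 3, 1, 5, 4, 3, 2, 1, 2, 4, 3, 4, 3, 2, 3, 3⟩,
  ⟨3, 3, 2, 1, 4, 3, 6, 2, 4, 5, 3, 4, 2, 4, 3, 3⟩,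
  ⟨3, 3, 3, 2, 4, 3, 5, 3, 6, 3, 1, 6, 4, 6, 1, 1⟩,
  ⟨3, 3, 4, 5, 4, 3, 2, 4, 1, 4, 1, 6, 3, 1, 1, 1⟩,
  ⟨3, 3, 5, 6, 4, 3, 1, 5, 3, 2, 3, 4, 5, 3, 3, 3⟩,
  ⟨3, 3, 6, 2, 4, 3, 5, 6, 5, 3, 3, 4, 4, 5, 3, 3⟩,
  ⟨3, 4, 1, 5, 3, 3, 2, 1, 2, 4, 3, 3, 3, 2, 4, 3⟩,
  ⟨3, 4, 2, 1, 3, 3, 6, 2, 4, 5, 3, 3, 2, 4, 4, 3⟩,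
  ⟨3, 4, 2, 4, 3, 3, 3, 2, 4, 6, 1, 1, 1, 4, 6, 1⟩,
  ⟨3, 4, 5, 3, 3, 3, 4, 5, 3, 1, 1, 1, 6, 3, 6, 1⟩,
  ⟨3, 4, 5, 6, 3, 3, 1, 5, 3, 2, 3, 3, 5, 3, 4, 3⟩,
  ⟨3, 4, 6, 2, 3, 3, 5, 6, 5, 3, 3, 3, 4, 5, 4, 3⟩,
  ⟨3, 5, 0, 0, 5, 4, 0, 0, 0, 0, 2, 4, 0, 0, 4, 5⟩,
  ⟨3, 5, 0, 1, 2, 3, 6, 0, 3, 3, 5, 2, 4, 3, 5, 5⟩,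
  ⟨3, 5, 0, 6, 2, 3, 1, 0, 4, 4, 5, 2, 3, 4, 5, 5⟩,
  ⟨3, 6, 0, 1, 6, 4, 1, 0, 5, 0, 5, 6, 0, 2, 6, 2⟩,
  ⟨3, 6, 0, 6, 6, 4, 6, 0, 2, 0, 5, 6, 0, 5, 6, 2⟩,
  ⟨3, 6, 1, 1, 6, 4, 1, 6, 5, 5, 1, 4, 5, 2, 4, 6⟩,
  ⟨3, 6, 1, 6, 6, 4, 6, 6, 2, 5, 1, 4, 5, 5, 4, 6⟩,
  ⟨3, 6, 6, 1, 6, 4, 1, 1, 5, 2, 1, 4, 2, 2, 4, 6⟩,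
  ⟨3, 6, 6, 6, 6, 4, 6, 1, 2, 2, 1, 4, 2, 5, 4, 6⟩,
  ⟨4, 0, 1, 3, 0, 3, 3, 6, 1, 6, 1, 6, 6, 6, 6, 6⟩,
  ⟨4, 0, 1, 5, 0, 4, 2, 1, 3, 6, 4, 0, 1, 3, 0, 4⟩,
  ⟨4, 0, 3, 3, 0, 3, 3, 4, 1, 2, 1, 6, 2, 6, 6, 6⟩,
  ⟨4, 0, 3, 5, 0, 4, 2, 3, 4, 5, 4, 0, 2, 4, 0, 4⟩,
  ⟨4, 0, 4, 2, 0, 4, 5, 4, 3, 2, 4, 0, 5, 3, 0, 4⟩,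
  ⟨4, 0, 4, 4, 0, 3, 4, 3, 6, 5, 1, 6, 5, 1, 6, 6⟩,
  ⟨4, 0, 6, 2, 0, 4, 5, 6, 4, 1, 4, 0, 6, 4, 0, 4⟩,
  ⟨4, 0, 6, 4, 0, 3, 4, 1, 6, 1, 1, 6, 1, 1, 6, 6⟩,
  ⟨4, 1, 0, 1, 1, 3, 1, 0, 5, 0, 2, 1, 0, 2, 1, 5⟩,
  ⟨4, 1, 0, 6, 1, 3, 6, 0, 2, 0, 2, 1, 0, 5, 1, 5⟩,
  ⟨4, 1, 1, 1, 1, 3, 1, 6, 5, 5, 6, 3, 5, 2, 3, 1⟩,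
  ⟨4, 1, 1, 6, 1, 3, 6, 6, 2, 5, 6, 3, 5, 5, 3, 1⟩,
  ⟨4, 1, 6, 1, 1, 3, 1, 1, 5, 2, 6, 3, 2, 2, 3, 1⟩,
  ⟨4, 1, 6, 6, 1, 3, 6, 1, 2, 2, 6, 3, 2, 5, 3, 1⟩,
  ⟨4, 2, 0, 0, 2, 3, 0, 0, 0, 0, 5, 3, 0, 0, 3, 2⟩,
  ⟨4, 2, 0, 1, 5, 4, 6, 0, 3, 3, 2, 5, 4, 3, 2, 2⟩,
  ⟨4, 2, 0, 6, 5, 4, 1, 0, 4, 4, 2, 5, 3, 4, 2, 2⟩,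
  ⟨4, 3, 1, 5, 4, 4, 2, 1, 2, 4, 4, 4, 3, 2, 3, 4⟩,
  ⟨4, 3, 2, 1, 4, 4, 6, 2, 4, 5, 4, 4, 2, 4, 3, 4⟩,
  ⟨4, 3, 2, 4, 4, 4, 3, 2, 4, 6, 6, 6, 1, 4, 1, 6⟩,
  ⟨4, 3, 5, 3, 4, 4, 4, 5, 3, 1, 6, 6, 6, 3, 1, 6⟩,
  ⟨4, 3, 5, 6, 4, 4, 1, 5, 3, 2, 4, 4, 5, 3, 3, 4⟩,
  ⟨4, 3, 6, 2, 4, 4, 5, 6, 5, 3, 4, 4, 4, 5, 3, 4⟩,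
  ⟨4, 4, 1, 5, 3, 4, 2, 1, 2, 4, 4, 3, 3, 2, 4, 4⟩,
  ⟨4, 4, 2, 1, 3, 4, 6, 2, 4, 5, 4, 3, 2, 4, 4, 4⟩,
  ⟨4, 4, 3, 2, 3, 4, 5, 3, 6, 3, 6, 1, 4, 6, 6, 6⟩,
  ⟨4, 4, 4, 5, 3, 4, 2, 4, 1, 4, 6, 1, 3, 1, 6, 6⟩,
  ⟨4, 4, 5, 6, 3, 4, 1, 5, 3, 2, 4, 3, 5, 3, 4, 4⟩,
  ⟨4, 4, 6, 2, 3, 4, 5, 6, 5, 3, 4, 3, 4, 5, 4, 4⟩,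
  ⟨4, 5, 2, 2, 2, 4, 5, 2, 2, 0, 2, 2, 0, 2, 5, 2⟩,
  ⟨4, 5, 3, 2, 5, 3, 2, 4, 4, 1, 5, 2, 1, 3, 2, 2⟩,
  ⟨4, 5, 3, 5, 5, 3, 5, 4, 3, 1, 1, 0, 1, 4, 0, 6⟩,
  ⟨4, 5, 4, 2, 5, 3, 2, 3, 4, 6, 1, 0, 6, 3, 0, 6⟩,
  ⟨4, 5, 4, 5, 5, 3, 5, 3, 3, 6, 5, 2, 6, 4, 2, 2⟩,
  ⟨4, 5, 5, 5, 2, 4, 2, 5, 5, 0, 2, 2, 0, 5, 5, 2⟩,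
  ⟨5, 1, 0, 1, 1, 2, 1, 0, 5, 0, 4, 6, 0, 2, 6, 3⟩,
  ⟨5, 1, 0, 6, 1, 2, 6, 0, 2, 0, 4, 6, 0, 5, 6, 3⟩,
  ⟨5, 1, 3, 1, 6, 5, 6, 3, 3, 0, 5, 1, 0, 3, 6, 5⟩,
  ⟨5, 1, 3, 3, 6, 5, 4, 3, 2, 6, 5, 1, 1, 2, 6, 5⟩,
  ⟨5, 1, 4, 4, 6, 5, 3, 4, 5, 1, 5, 1, 6, 5, 6, 5⟩,
  ⟨5, 1, 4, 6, 6, 5, 1, 4, 4, 0, 5, 1, 0, 4, 6, 5⟩,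
  ⟨5, 2, 0, 1, 5, 5, 6, 0, 3, 3, 3, 5, 4, 3, 2, 3⟩,
  ⟨5, 2, 0, 6, 5, 5, 1, 0, 4, 4, 3, 5, 3, 4, 2, 3⟩,
  ⟨5, 2, 2, 3, 2, 2, 3, 5, 1, 4, 2, 3, 4, 6, 3, 5⟩,
  ⟨5, 2, 2, 5, 5, 5, 2, 2, 0, 2, 5, 3, 5, 0, 4, 5⟩,
  ⟨5, 2, 5, 2, 5, 5, 5, 5, 0, 5, 5, 3, 2, 0, 4, 5⟩,
  ⟨5, 2, 5, 4, 2, 2, 4, 2, 6, 3, 2, 3, 3, 1, 3, 5⟩,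
  ⟨5, 3, 2, 3, 3, 2, 3, 5, 1, 4, 0, 1, 4, 6, 1, 0⟩,
  ⟨5, 3, 2, 4, 3, 2, 4, 5, 6, 4, 5, 5, 4, 1, 5, 2⟩,
  ⟨5, 3, 2, 5, 4, 5, 2, 2, 0, 2, 5, 2, 5, 0, 5, 5⟩,
  ⟨5, 3, 5, 2, 4, 5, 5, 5, 0, 5, 5, 2, 2, 0, 5, 5⟩,
  ⟨5, 3, 5, 3, 3, 2, 3, 2, 1, 3, 5, 5, 3, 6, 5, 2⟩,
  ⟨5, 3, 5, 4, 3, 2, 4, 2, 6, 3, 0, 1, 3, 1, 1, 0⟩,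
  ⟨5, 4, 0, 0, 4, 2, 0, 0, 0, 0, 3, 2, 0, 0, 2, 4⟩,
  ⟨5, 4, 1, 0, 3, 5, 0, 1, 4, 3, 5, 5, 4, 4, 2, 5⟩,
  ⟨5, 4, 6, 0, 3, 5, 0, 6, 3, 4, 5, 5, 3, 3, 2, 5⟩,
  ⟨5, 5, 1, 0, 2, 5, 0, 1, 4, 3, 5, 4, 4, 4, 3, 5⟩,
  ⟨5, 5, 2, 2, 2, 5, 5, 2, 2, 0, 3, 2, 0, 2, 5, 3⟩,
  ⟨5, 5, 3, 5, 5, 2, 5, 4, 3, 1, 3, 5, 1, 4, 5, 4⟩,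
  ⟨5, 5, 4, 2, 5, 2, 2, 3, 4, 6, 3, 5, 6, 3, 5, 4⟩,
  ⟨5, 5, 5, 5, 2, 5, 2, 5, 5, 0, 3, 2, 0, 5, 5, 3⟩,
  ⟨5, 5, 6, 0, 2, 5, 0, 6, 3, 4, 5, 4, 3, 3, 3, 5⟩,
  ⟨5, 6, 0, 2, 1, 5, 5, 0, 2, 6, 5, 6, 1, 2, 1, 5⟩,
  ⟨5, 6, 0, 5, 1, 5, 2, 0, 5, 1, 5, 6, 6, 5, 1, 5⟩,
  ⟨5, 6, 1, 1, 6, 2, 1, 6, 4, 4, 1, 2, 4, 3, 2, 6⟩,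
  ⟨5, 6, 2, 5, 6, 2, 5, 5, 5, 2, 1, 2, 2, 2, 2, 6⟩,
  ⟨5, 6, 3, 1, 1, 5, 6, 3, 1, 1, 5, 6, 6, 1, 1, 5⟩,
  ⟨5, 6, 4, 6, 1, 5, 1, 4, 6, 6, 5, 6, 1, 6, 1, 5⟩,
  ⟨5, 6, 5, 2, 6, 2, 2, 2, 2, 5, 1, 2, 5, 5, 2, 6⟩,
  ⟨5, 6, 6, 6, 6, 2, 6, 1, 3, 3, 1, 2, 3, 4, 2, 6⟩,
  ⟨6, 0, 0, 0, 0, 6, 0, 0, 0, 0, 6, 0, 0, 0, 0, 6⟩,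
  ⟨6, 0, 3, 2, 0, 1, 2, 4, 4, 1, 4, 2, 1, 3, 2, 3⟩,
  ⟨6, 0, 4, 5, 0, 1, 5, 3, 3, 6, 4, 2, 6, 4, 2, 3⟩,
  ⟨6, 1, 3, 1, 1, 1, 1, 4, 6, 1, 0, 4, 1, 1, 4, 0⟩,
  ⟨6, 1, 3, 2, 6, 6, 5, 3, 6, 3, 4, 4, 4, 6, 3, 4⟩,
  ⟨6, 1, 3, 3, 1, 1, 3, 4, 2, 1, 0, 4, 1, 5, 4, 0⟩,
  ⟨6, 1, 4, 4, 1, 1, 4, 3, 5, 6, 0, 4, 6, 2, 4, 0⟩,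
  ⟨6, 1, 4, 5, 6, 6, 2, 4, 1, 4, 4, 4, 3, 1, 3, 4⟩,
  ⟨6, 1, 4, 6, 1, 1, 6, 3, 1, 6, 0, 4, 6, 6, 4, 0⟩,
  ⟨6, 2, 1, 4, 5, 6, 3, 1, 6, 1, 1, 5, 6, 6, 2, 1⟩,
  ⟨6, 2, 1, 6, 2, 1, 6, 6, 3, 4, 5, 1, 4, 4, 1, 2⟩,
  ⟨6, 2, 2, 0, 5, 6, 0, 2, 1, 2, 1, 5, 5, 1, 2, 1⟩,
  ⟨6, 2, 2, 2, 2, 1, 2, 5, 2, 2, 5, 1, 2, 5, 1, 2⟩,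
  ⟨6, 2, 5, 0, 5, 6, 0, 5, 6, 5, 1, 5, 2, 6, 2, 1⟩,
  ⟨6, 2, 5, 5, 2, 1, 5, 2, 5, 5, 5, 1, 5, 2, 1, 2⟩,
  ⟨6, 2, 6, 1, 2, 1, 1, 1, 4, 3, 5, 1, 3, 3, 1, 2⟩,
  ⟨6, 2, 6, 3, 5, 6, 4, 6, 1, 6, 1, 5, 1, 1, 2, 1⟩,
  ⟨6, 4, 1, 0, 4, 1, 0, 6, 0, 5, 1, 5, 5, 0, 5, 6⟩,
  ⟨6, 4, 1, 1, 4, 1, 1, 6, 5, 5, 3, 1, 5, 2, 1, 4⟩,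
  ⟨6, 4, 1, 6, 4, 1, 6, 6, 2, 5, 3, 1, 5, 5, 1, 4⟩,
  ⟨6, 4, 6, 0, 4, 1, 0, 1, 0, 2, 1, 5, 2, 0, 5, 6⟩,
  ⟨6, 4, 6, 1, 4, 1, 1, 1, 5, 2, 3, 1, 2, 2, 1, 4⟩,
  ⟨6, 4, 6, 6, 4, 1, 6, 1, 2, 2, 3, 1, 2, 5, 1, 4⟩,
  ⟨6, 5, 1, 0, 5, 1, 0, 6, 0, 5, 6, 3, 5, 0, 3, 1⟩,
  ⟨6, 5, 1, 4, 2, 6, 3, 1, 0, 3, 1, 2, 4, 0, 5, 1⟩,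
  ⟨6, 5, 3, 4, 2, 6, 3, 3, 1, 2, 1, 2, 5, 1, 5, 1⟩,
  ⟨6, 5, 4, 3, 2, 6, 4, 4, 6, 5, 1, 2, 2, 6, 5, 1⟩,
  ⟨6, 5, 6, 0, 5, 1, 0, 1, 0, 2, 6, 3, 2, 0, 3, 1⟩,
  ⟨6, 5, 6, 3, 2, 6, 4, 6, 0, 4, 1, 2, 3, 0, 5, 1⟩,
  ⟨6, 6, 1, 4, 6, 1, 4, 6, 6, 6, 4, 0, 6, 1, 0, 3⟩,
  ⟨6, 6, 2, 4, 1, 6, 3, 2, 4, 6, 4, 3, 1, 4, 4, 4⟩,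
  ⟨6, 6, 3, 4, 6, 1, 4, 4, 6, 2, 4, 0, 2, 1, 0, 3⟩,
  ⟨6, 6, 4, 3, 6, 1, 3, 3, 1, 5, 4, 0, 5, 6, 0, 3⟩,
  ⟨6, 6, 5, 3, 1, 6, 4, 5, 3, 1, 4, 3, 6, 3, 4, 4⟩,
  ⟨6, 6, 6, 3, 6, 1, 3, 1, 1, 1, 4, 0, 1, 6, 0, 3⟩]

theorem s5_gens : mulN 7 s5x s5xi = oneN ∧ mulN 7 s5xi s5x = oneN ∧
    mulN 7 s5y s5yi = oneN ∧ mulN 7 s5yi s5y = oneN := by decide +kernel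

set_option maxRecDepth 100000 in
theorem s5_one : oneN ∈ s5L := by decide +kernel

set_option maxRecDepth 100000 in
theorem s5_closed : ∀ n ∈ s5L, ∀ g ∈ [(s5x, s5xi), (s5y, s5yi)],
    mulN 7 n g.1 ∈ s5L ∧ mulN 7 n g.2 ∈ s5L := by decide +kernel

set_option maxRecDepth 100000 in
theorem s5_pow : ∀ n ∈ s5L, ∃ k ∈ [8, 10, 12], powN 7 n k = oneN := by decide +kernel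

set_option maxRecDepth 100000 in
theorem s5_fpf : ∀ n ∈ s5L, n = oneN ∨
    (∃ e ∈ [1, 2, 3, 4, 5, 6], powN 7 n e = negOneN 7) ∨
      addN 7 (addN 7 oneN n) (powN 7 n 2) = zeroN ∨
      addN 7 (addN 7 (addN 7 (addN 7 oneN n) (powN 7 n 2)) (powN 7 n 3)) (powN 7 n 4) = zeroN := by
  decide +kernel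

set_option maxRecDepth 100000 in
theorem s5_inv : ∀ n ∈ s5L, mulN 7 n n = oneN → n = oneN ∨ n = negOneN 7 := by
  decide +kernel

theorem s5_orders : powN 7 s5x 4 = negOneN 7 ∧ powN 7 s5x 8 = oneN ∧ powN 7 s5x 4 ≠ oneN ∧
    powN 7 s5y 12 = oneN ∧ powN 7 s5y 6 ≠ oneN ∧ powN 7 s5y 4 ≠ oneN ∧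
    powN 7 (mulN 7 s5x s5y) 10 = oneN ∧ powN 7 (mulN 7 s5x s5y) 5 ≠ oneN ∧
    powN 7 (mulN 7 s5x s5y) 2 ≠ oneN := by
  decide +kernel

end Cfsg.Agent.H62
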