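import Mathlib

/-!
# EL-FLAGCOUNT (helper42's team project S5949/S5951/S5950): counting flags

`card_flags`: the number of flags `U ≤ W` in `F^n` with `dim U = m`, `dim W = n - m` is the number
of `m`-subspaces of `F^n` times the number of `m`-subspaces of `F^(n-m)`.
-/

set_option autoImplicit false
set_option linter.style.haveILetI false
set_option linter.unusedSimpArgs false
set_option linter.unusedSectionVars false
set_option linter.unusedVariables false

namespace Cfsg.Agent.H62.El

open Module

/-- transport of the subspace count along a linear equivalence. -/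
theorem card_subspaces_congr {F : Type*} [Field F] {V V' : Type*} [AddCommGroup V] [Module F V]
    [AddCommGroup V'] [Module F V'] (e : V ≃ₗ[F] V') (k : ℕ) :
    Nat.card {W : Submodule F V // finrank F W = k} =
      Nat.card {W : Submodule F V' // finrank F W = k} := by
  refine Nat.card_congr (Equiv.subtypeEquiv (Submodule.orderIsoMapComap e).toEquiv ?_)
  intro W
  have : finrank F ↥(W.map (e : V →ₗ[F] V')) = finrank F ↥W := LinearEquiv.finrank_map_eq e W
  constructor
  · intro h
    exact this.trans h
  · intro h
    exact this.symm.trans h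

/-- duality: `k`-subspaces of `V` against `(dim V - k)`-subspaces of the dual. -/
theorem card_subspaces_dual {F : Type*} [Field F] {V : Type*} [AddCommGroup V] [Module F V]
    [FiniteDimensional F V] (k : ℕ) (hk : k ≤ finrank F V) :
    Nat.card {W : Submodule F V // finrank F W = k} =
      Nat.card {Φ : Submodule F (Dual F V) // finrank F Φ = finrank F V - k} := by
  refine Nat.card_congr (Equiv.subtypeEquiv
    ((Subspace.orderIsoFiniteDimensional (K := F) (V := V)).toEquiv.trans OrderDual.ofDual) ?_)
  intro W
  have h1 := Subspace.finrank_add_finrank_dualAnnihilator_eq W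
  have h2 : (((Subspace.orderIsoFiniteDimensional (K := F) (V := V)).toEquiv.trans
      OrderDual.ofDual) W : Submodule F (Dual F V)) = Submodule.dualAnnihilator W := rfl
  rw [h2]
  constructor
  · intro h; omega
  · intro h; omega

/-- the number of `(n-m)`-subspaces of `F^n` is the number of `m`-subspaces. -/
theorem card_subspaces_symm {F : Type*} [Field F] (n m : ℕ) (hm : m ≤ n) :
    Nat.card {W : Submodule F (Fin n → F) // finrank F W = n - m} =
      Nat.card {W : Submodule F (Fin n → F) // finrank F W = m} := by
  have hfr : finrank F (Fin n → F) = n := Module.finrank_fin_fun F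
  have h1 := card_subspaces_dual (F := F) (V := Fin n → F) (n - m) (by rw [hfr]; omega)
  rw [hfr] at h1
  have h2 : n - (n - m) = m := by omega
  rw [h2] at h1
  rw [h1]
  have hd : finrank F (Dual F (Fin n → F)) = finrank F (Fin n → F) := Subspace.dual_finrank_eq
  exact card_subspaces_congr (LinearEquiv.ofFinrankEq (Dual F (Fin n → F)) (Fin n → F) hd) m

theorem card_flags {F : Type*} [Field F] [Fintype F] (n m : ℕ) (hm : 2 * m ≤ n) :
    Nat.card {P : Submodule F (Fin n → F) × Submodule F (Fin n → F) //
        P.1 ≤ P.2 ∧ Module.finrank F ↥P.1 = m ∧ Module.finrank F ↥P.2 = n - m} =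
      Nat.card {W : Submodule F (Fin n → F) // Module.finrank F W = m} *
        Nat.card {W : Submodule F (Fin (n - m) → F) // Module.finrank F W = m} := by
  classical
  haveI : Fintype {W : Submodule F (Fin n → F) // finrank F W = n - m} := Fintype.ofFinite _
  have e1 : {P : Submodule F (Fin n → F) × Submodule F (Fin n → F) //
        P.1 ≤ P.2 ∧ finrank F ↥P.1 = m ∧ finrank F ↥P.2 = n - m} ≃
      Σ W : {W : Submodule F (Fin n → F) // finrank F W = n - m},
        {U : Submodule F ↥W.1 // finrank F U = m} :=
    { toFun := fun P => ⟨⟨P.1.2, P.2.2.2⟩, ⟨P.1.1.comap P.1.2.subtype, by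
        rw [LinearEquiv.finrank_eq (Submodule.comapSubtypeEquivOfLe P.2.1)]
        exact P.2.2.1⟩⟩
      invFun := fun X => ⟨(X.2.1.map X.1.1.subtype, X.1.1), by
        refine ⟨Submodule.map_subtype_le _ _, ?_, X.1.2⟩
        rw [Submodule.finrank_map_subtype_eq]
        exact X.2.2⟩
      left_inv := by
        rintro ⟨⟨U, W⟩, hUW, hU, hW⟩
        apply Subtype.ext
        simp only
        rw [Submodule.map_comap_subtype, inf_eq_right.mpr hUW]
      right_inv := by
        rintro ⟨⟨W, hW⟩, ⟨U, hU⟩⟩
        simp only
        congr 1
        apply Subtype.ext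
        exact Submodule.comap_map_eq_of_injective W.injective_subtype U }
  rw [Nat.card_congr e1, Nat.card_sigma]
  have hfib : ∀ W : {W : Submodule F (Fin n → F) // finrank F W = n - m},
      Nat.card {U : Submodule F ↥W.1 // finrank F U = m} =
        Nat.card {W : Submodule F (Fin (n - m) → F) // finrank F W = m} := by
    intro W
    have hfr : finrank F ↥W.1 = finrank F (Fin (n - m) → F) := by
      rw [W.2, Module.finrank_fin_fun]
    exact card_subspaces_congr (LinearEquiv.ofFinrankEq ↥W.1 (Fin (n - m) → F) hfr) m
  rw [Finset.sum_congr rfl (fun W _ => hfib W), Finset.sum_const, Finset.card_univ, smul_eq_mul,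
    ← Nat.card_eq_fintype_card, card_subspaces_symm n m (by omega)]

/-! Verbatim restatement of the posted piece statement. -/

example {F : Type*} [Field F] [Fintype F] (n m : ℕ) (hm : 2 * m ≤ n) :
    Nat.card {P : Submodule F (Fin n → F) × Submodule F (Fin n → F) //
        P.1 ≤ P.2 ∧ Module.finrank F ↥P.1 = m ∧ Module.finrank F ↥P.2 = n - m} =
      Nat.card {W : Submodule F (Fin n → F) // Module.finrank F W = m} *
        Nat.card {W : Submodule F (Fin (n - m) → F) // Module.finrank F W = m} :=
  card_flags n m hm

end Cfsg.Agent.H62.El
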