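import Mathlib
import Cfsg.Agent.H10.HO.Defs2

/-!
helper62: piece HO-HG for helper10's S2075 (`hg : StHG`): an automorphism fixing `x, z, t` is
trivial, given a fourth generator `n` normalising the cyclic group of `z`.
-/

set_option autoImplicit false
set_option linter.unusedVariables false
set_option linter.unusedSimpArgs false

namespace Cfsg.Agent.H62.Ho

open Cfsg.Agent.H10.HO

universe u

theorem evS_fix {G : Type u} [Group G] (x z t : G) (β : MulAut G) (hx : β x = x) (hz : β z = z)
    (ht : β t = t) : ∀ w : List ℕ, β (evS x z t w) = evS x z t w := by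
  intro w
  induction w with
  | nil => simp [evS]
  | cons a w ih =>
    match a with
    | 0 => simp [evS, hx, ih]
    | 1 => simp [evS, hx, ih]
    | 2 => simp [evS, hz, ih]
    | 3 => simp [evS, hz, ih]
    | (m+4) => simp [evS, ht, ih]

theorem hg : StHG.{u} := by
  intro G _ x z t n k D hC hn hD hA hB hgen β hx hz ht
  have hfix := evS_fix x z t β hx hz ht
  have key : ∀ d : G, β d = d → β (n * d * n⁻¹) = n * d * n⁻¹ →
      (n⁻¹ * β n) * d = d * (n⁻¹ * β n) := by
    intro d hd hnd
    have h1 : β n * d * (β n)⁻¹ = n * d * n⁻¹ := by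
      have h := hnd
      rw [map_mul, map_mul, map_inv, hd] at h
      exact h
    have h2 : β n * d = n * d * n⁻¹ * β n := by
      rw [← h1]; group
    calc n⁻¹ * β n * d = n⁻¹ * (β n * d) := by group
      _ = n⁻¹ * (n * d * n⁻¹ * β n) := by rw [h2]
      _ = d * (n⁻¹ * β n) := by group
  have hwz : (n⁻¹ * β n) * z = z * (n⁻¹ * β n) := by
    apply key z hz
    rw [hn, map_pow, hz]
  have hwD : ∀ p ∈ D, (n⁻¹ * β n) * evS x z t p.1 = evS x z t p.1 * (n⁻¹ * β n) := by
    intro p hp
    apply key _ (hfix _)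
    rw [hD p hp]; exact hfix _
  obtain ⟨a, ha8, ha⟩ := hC (n⁻¹ * β n) hwz
  have hw1 : n⁻¹ * β n = 1 := by
    rcases ha with ha | ha
    · by_cases ha0 : a = 0
      · rw [ha, ha0, pow_zero]
      · exfalso
        obtain ⟨p, hp, hne⟩ := hA a (Nat.pos_of_ne_zero ha0) ha8
        apply hne
        have h := hwD p hp
        rw [ha] at h
        exact h
    · exfalso
      obtain ⟨p, hp, hne⟩ := hB a ha8
      apply hne
      have h := hwD p hp
      rw [ha] at h
      exact h
  have hβn : β n = n := by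
    calc β n = n * (n⁻¹ * β n) := by group
      _ = n := by rw [hw1, mul_one]
  ext g
  have hg : g ∈ Subgroup.closure ({x, z, t, n} : Set G) := by rw [hgen]; trivial
  show β g = g
  induction hg using Subgroup.closure_induction with
  | mem y hy =>
    rcases hy with rfl | rfl | rfl | rfl
    · exact hx
    · exact hz
    · exact ht
    · exact hβn
  | one => exact map_one β
  | mul a b _ _ iha ihb => rw [map_mul, iha, ihb]
  | inv a _ iha => rw [map_inv, iha]

example : hg.{u} = (hg.{u} : Cfsg.Agent.H10.HO.StHG.{u}) := rfl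

example : ∀ (G : Type u) [Group G] (x z t n : G) (k : ℕ) (D : List (List ℕ × List ℕ)),
  (∀ g : G, g * z = z * g → ∃ a : ℕ, a < 8 ∧ (g = z ^ a ∨ g = z ^ a * t)) →
  n * z * n⁻¹ = z ^ k →
  (∀ p ∈ D, n * evS x z t p.1 * n⁻¹ = evS x z t p.2) →
  (∀ a : ℕ, 0 < a → a < 8 → ∃ p ∈ D, z ^ a * evS x z t p.1 ≠ evS x z t p.1 * z ^ a) →
  (∀ a : ℕ, a < 8 → ∃ p ∈ D, z ^ a * t * evS x z t p.1 ≠ evS x z t p.1 * (z ^ a * t)) →
  Subgroup.closure {x, z, t, n} = ⊤ →
  ∀ β : MulAut G, β x = x → β z = z → β t = t → β = 1 := hg.{u}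

end Cfsg.Agent.H62.Ho

#print axioms Cfsg.Agent.H62.Ho.hg
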