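import Mathlib
import Cfsg.Agent.H29.R1Out

/-!
# S2953 / JX-KBNORM: the abstract core of the glue for the case `V ⊄ Q₁`

`P` a group with `Q ⊴ P` of index 6, `Q ≤ T' ≤ P`, `T'` a 2-group of odd index in `P`, `Q` the
largest normal 2-subgroup of `P`, `C_G(Q) ≤ Q`; `V` a four-group of exponent 2 normalized by the
2-group `S ≥ T'`, `V ≤ T'`, `V ⊄ Q`, `z ∈ V` central in `S` with `C_G(z) ≤ L`, `P ⊄ L`.
Then `N_S(T')` normalizes `Q` (via `H29.R1.r1_out_core`).
-/

set_option autoImplicit false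

namespace Cfsg.Agent.H62.Jx

universe u

variable {G : Type u} [Group G]

/-- Four distinct elements of a subgroup of order 4 exhaust it. -/
theorem four_enum [Finite G] (Z : Subgroup G) (h4 : Nat.card ↥Z = 4) (a b c : G) (ha : a ∈ Z)
    (hb : b ∈ Z) (hc : c ∈ Z) (h1a : (1 : G) ≠ a) (h1b : (1 : G) ≠ b) (h1c : (1 : G) ≠ c)
    (hab : a ≠ b) (hac : a ≠ c) (hbc : b ≠ c) :
    ∀ x ∈ Z, x = 1 ∨ x = a ∨ x = b ∨ x = c := by
  classical
  intro x hx
  by_contra hne
  push Not at hne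
  obtain ⟨hx1, hxa, hxb, hxc⟩ := hne
  have hcd : ({1, a, b, c, x} : Finset G).card = 5 := by
    rw [Finset.card_insert_of_notMem, Finset.card_insert_of_notMem,
      Finset.card_insert_of_notMem, Finset.card_pair (Ne.symm hxc)]
    all_goals
      simp only [Finset.mem_insert, Finset.mem_singleton, not_or]
    · exact ⟨hbc, Ne.symm hxb⟩
    · exact ⟨hab, hac, Ne.symm hxa⟩
    · exact ⟨h1a, h1b, h1c, Ne.symm hx1⟩
  have hsub : (({1, a, b, c, x} : Finset G) : Set G) ⊆ (Z : Set G) := by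
    intro y hy
    simp only [Finset.coe_insert, Finset.coe_singleton, Set.mem_insert_iff,
      Set.mem_singleton_iff] at hy
    rcases hy with rfl | rfl | rfl | rfl | rfl
    · exact Z.one_mem
    · exact ha
    · exact hb
    · exact hc
    · exact hx
  have hle : ({1, a, b, c, x} : Finset G).card ≤ Nat.card ↥Z := by
    have h1 : Nat.card ↥(({1, a, b, c, x} : Finset G) : Set G) ≤ Nat.card ↥(Z : Set G) :=
      Nat.card_mono (Set.toFinite _) hsub
    have h2 : Nat.card ↥(({1, a, b, c, x} : Finset G) : Set G) =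
        ({1, a, b, c, x} : Finset G).card := by
      rw [Nat.card_eq_fintype_card]; simp
    rw [h2] at h1
    exact h1
  omega

/-- Index 3 is prime: a subgroup between `T` and `P` not inside `T` is `P`. -/
theorem le_of_relIndex_three [Finite G] (T H P : Subgroup G) (hTH : T ≤ H) (hHP : H ≤ P)
    (h3 : T.relIndex P = 3) (hne : ¬ H ≤ T) : P ≤ H := by
  have hmul := Subgroup.relIndex_mul_relIndex T H P hTH hHP
  rw [h3] at hmul
  have hd : T.relIndex H ∣ 3 := Dvd.intro _ hmul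
  rcases (Nat.dvd_prime Nat.prime_three).mp hd with h1 | h1
  · exact absurd (Subgroup.relIndex_eq_one.mp h1) hne
  · rw [h1] at hmul
    have h2 : H.relIndex P = 1 := by omega
    exact Subgroup.relIndex_eq_one.mp h2

/-- In `P / Q` of order 6 an element `k` of order 3 is inverted or centralized modulo `Q`. -/
theorem inv_or_comm_mod [Finite G] (P Q : Subgroup G)
    (hn : P ≤ Subgroup.normalizer (Q : Set G)) (h6 : Q.relIndex P = 6) (v k : G) (hv : v ∈ P)
    (hk : k ∈ P) (hk3 : k ^ 3 = 1) (hkQ : k ∉ Q) :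
    v * k * v⁻¹ * k ∈ Q ∨ v * k * v⁻¹ * k⁻¹ ∈ Q := by
  classical
  have hQn : (Q.subgroupOf P).Normal := Subgroup.normal_subgroupOf_of_le_normalizer hn
  have hcard : Nat.card (↥P ⧸ Q.subgroupOf P) = 6 := by
    rw [← Subgroup.index_eq_card]
    exact h6
  obtain ⟨kb, hkb⟩ : ∃ kb : ↥P ⧸ Q.subgroupOf P, kb = QuotientGroup.mk ⟨k, hk⟩ := ⟨_, rfl⟩
  obtain ⟨vb, hvb⟩ : ∃ vb : ↥P ⧸ Q.subgroupOf P, vb = QuotientGroup.mk ⟨v, hv⟩ := ⟨_, rfl⟩
  have hkb3 : kb ^ 3 = 1 := by
    have h1 : (⟨k, hk⟩ : ↥P) ^ 3 = 1 := Subtype.ext (by simpa using hk3)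
    rw [hkb, ← QuotientGroup.mk_pow, h1]
    rfl
  have hkb1 : kb ≠ 1 := by
    intro h
    rw [hkb, QuotientGroup.eq_one_iff] at h
    exact hkQ h
  have hord : orderOf kb = 3 := by
    have hd : orderOf kb ∣ 3 := orderOf_dvd_of_pow_eq_one hkb3
    rcases (Nat.dvd_prime Nat.prime_three).mp hd with h1 | h1
    · exact absurd (orderOf_eq_one_iff.mp h1) hkb1
    · exact h1
  have hzc : Nat.card (Subgroup.zpowers kb) = 3 := by rw [Nat.card_zpowers, hord]
  have hidx : (Subgroup.zpowers kb).index = 2 := by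
    have h := (Subgroup.zpowers kb).card_mul_index
    rw [hzc, hcard] at h
    omega
  have hnorm : (Subgroup.zpowers kb).Normal := Subgroup.normal_of_index_eq_two hidx
  have hmem : vb * kb * vb⁻¹ ∈ Subgroup.zpowers kb :=
    hnorm.conj_mem kb (Subgroup.mem_zpowers kb) vb
  have hcases : vb * kb * vb⁻¹ = 1 ∨ vb * kb * vb⁻¹ = kb ∨ vb * kb * vb⁻¹ = kb ^ 2 := by
    obtain ⟨i, hi⟩ := Subgroup.mem_zpowers_iff.mp hmem
    have h1 : kb ^ (i % (3 : ℤ)) = kb ^ i := by
      have := zpow_mod_orderOf kb i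
      rw [hord] at this
      exact_mod_cast this
    have h0 := Int.emod_nonneg i (by norm_num : (3 : ℤ) ≠ 0)
    have h3 := Int.emod_lt_of_pos i (by norm_num : (0 : ℤ) < 3)
    have hr : i % 3 = 0 ∨ i % 3 = 1 ∨ i % 3 = 2 := by omega
    rw [← hi, ← h1]
    rcases hr with h | h | h
    · left; rw [h, zpow_zero]
    · right; left; rw [h, zpow_one]
    · right; right; rw [h, zpow_two, pow_two]
  rcases hcases with h | h | h
  · exact absurd (conj_eq_one_iff.mp h) hkb1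
  · right
    have h2 : vb * kb * vb⁻¹ * kb⁻¹ = 1 := by rw [h, mul_inv_cancel]
    rw [hvb, hkb] at h2
    have h3 : ((⟨v, hv⟩ * ⟨k, hk⟩ * (⟨v, hv⟩ : ↥P)⁻¹ * (⟨k, hk⟩ : ↥P)⁻¹ : ↥P) :
        ↥P ⧸ Q.subgroupOf P) = 1 := h2
    rw [QuotientGroup.eq_one_iff] at h3
    exact h3
  · left
    have h2 : vb * kb * vb⁻¹ * kb = 1 := by
      rw [h, ← pow_succ]; exact hkb3
    rw [hvb, hkb] at h2
    have h3 : ((⟨v, hv⟩ * ⟨k, hk⟩ * (⟨v, hv⟩ : ↥P)⁻¹ * (⟨k, hk⟩ : ↥P) : ↥P) :
        ↥P ⧸ Q.subgroupOf P) = 1 := h2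
    rw [QuotientGroup.eq_one_iff] at h3
    exact h3

/-- The abstract core of JX-KBNORM. -/
theorem kb_core [Finite G] (S L T' P Q V : Subgroup G) (z : G)
    (hT'S : T' ≤ S) (hS2 : IsPGroup 2 ↥S) (hTP : T' ≤ P) (hQT : Q ≤ T')
    (hPQ : P ≤ Subgroup.normalizer (Q : Set G)) (hQ2 : IsPGroup 2 ↥Q)
    (hQmax : ∀ R : Subgroup G, R ≤ P → IsPGroup 2 ↥R → P ≤ Subgroup.normalizer (R : Set G) →
      R ≤ Q)
    (hCQ : Subgroup.centralizer (Q : Set G) ≤ Q) (h6 : Q.relIndex P = 6)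
    (hodd : Odd (T'.relIndex P)) (hPL : ¬ P ≤ L)
    (hV4 : Nat.card ↥V = 4) (hVe : ∀ v ∈ V, v * v = 1)
    (hSV : S ≤ Subgroup.normalizer (V : Set G)) (hVT : V ≤ T')
    (hzV : z ∈ V) (hz1 : z ≠ 1) (hzS : ∀ s ∈ S, s * z = z * s)
    (hCz : Subgroup.centralizer ({z} : Set G) ≤ L) (hVQ : ¬ V ≤ Q) :
    ∀ x ∈ S, x ∈ Subgroup.normalizer (T' : Set G) → x ∈ Subgroup.normalizer (Q : Set G) := by
  have hT2 : IsPGroup 2 ↥T' := hS2.to_le hT'S
  -- the indices
  have hQT2 : Q.relIndex T' = 2 ∧ T'.relIndex P = 3 := by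
    have hmul := Subgroup.relIndex_mul_relIndex Q T' P hQT hTP
    obtain ⟨n, hn⟩ := hT2.index (Q.subgroupOf T')
    have hn' : Q.relIndex T' = 2 ^ n := hn
    rw [hn', h6] at hmul
    rcases n with _ | _ | n
    · exfalso
      have h : T'.relIndex P = 6 := by simpa using hmul
      rw [h] at hodd
      exact absurd hodd (by decide)
    · refine ⟨by rw [hn']; rfl, ?_⟩
      have h : 2 * T'.relIndex P = 6 := by simpa using hmul
      omega
    · exfalso
      have h : 4 ∣ 6 := ⟨2 ^ n * T'.relIndex P, by rw [← hmul]; ring⟩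
      omega
  obtain ⟨v, hvV, hvQ⟩ := SetLike.not_le_iff_exists.mp hVQ
  have hvT : v ∈ T' := hVT hvV
  have hvP : v ∈ P := hTP hvT
  have hv2 : v * v = 1 := hVe v hvV
  have hz2 : z * z = 1 := hVe z hzV
  have hzT : ∀ t ∈ T', t * z = z * t := fun t ht => hzS t (hT'S ht)
  have hzQ : z ∈ Q := by
    apply hCQ
    rw [Subgroup.mem_centralizer_iff]
    intro q hq
    exact hzT q (hQT hq)
  have hTQv : ∀ t ∈ T', t ∈ Q ∨ t * v ∈ Q := by
    intro t ht
    by_cases htQ : t ∈ Q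
    · exact Or.inl htQ
    · right
      have hidx : (Q.subgroupOf T').index = 2 := hQT2.1
      have h := Subgroup.mul_mem_iff_of_index_two hidx (a := (⟨t, ht⟩ : ↥T'))
        (b := (⟨v, hvT⟩ : ↥T'))
      have h2 : (⟨t, ht⟩ : ↥T') * ⟨v, hvT⟩ ∈ Q.subgroupOf T' :=
        h.mpr ⟨fun h' => absurd h' htQ, fun h' => absurd h' hvQ⟩
      exact h2
  have hSVc : ∀ s ∈ S, ∀ x ∈ V, s * x * s⁻¹ ∈ V := fun s hs x hx =>
    (Subgroup.mem_normalizer_iff.mp (hSV hs) x).mp hx
  have hv1 : v ≠ 1 := fun h => hvQ (h ▸ Q.one_mem)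
  have hvz : v ≠ z := fun h => hvQ (h ▸ hzQ)
  have hVQenum : ∀ w ∈ V, w ∈ Q → w = 1 ∨ w = z := by
    intro w hwV hwQ
    by_contra hcon
    push Not at hcon
    obtain ⟨hw1, hwz⟩ := hcon
    have hzwV : z * w ∈ V := V.mul_mem hzV hwV
    have hzwQ : z * w ∈ Q := Q.mul_mem hzQ hwQ
    have h := four_enum V hV4 z w (z * w) hzV hwV hzwV (Ne.symm hz1) (Ne.symm hw1)
      (by
        intro h
        have h' : z * w = z * z := by rw [← h, hz2]
        exact hwz (mul_left_cancel h'))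
      (Ne.symm hwz)
      (fun h => hw1 (by simpa using h))
      (fun h => hz1 (by simpa using h)) v hvV
    rcases h with h | h | h | h
    · exact hv1 h
    · exact hvQ (h ▸ hzQ)
    · exact hvQ (h ▸ hwQ)
    · exact hvQ (h ▸ hzwQ)
  have hQv : ∀ q ∈ Q, v * q * v⁻¹ = q ∨ v * q * v⁻¹ = q * z := by
    intro q hq
    have hqS : q ∈ S := hT'S (hQT hq)
    have h1 : v * q * v⁻¹ ∈ Q := (Subgroup.mem_normalizer_iff.mp (hPQ hvP) q).mp hq
    have hwQ : v * q * v⁻¹ * q⁻¹ ∈ Q := Q.mul_mem h1 (Q.inv_mem hq)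
    have hwV : v * q * v⁻¹ * q⁻¹ ∈ V := by
      have h2 : q * v⁻¹ * q⁻¹ ∈ V := hSVc q hqS v⁻¹ (V.inv_mem hvV)
      have e : v * q * v⁻¹ * q⁻¹ = v * (q * v⁻¹ * q⁻¹) := by group
      rw [e]; exact V.mul_mem hvV h2
    rcases hVQenum _ hwV hwQ with h | h
    · left
      exact mul_inv_eq_one.mp h
    · right
      have e : v * q * v⁻¹ = z * q := mul_inv_eq_iff_eq_mul.mp h
      rw [e]; exact (hzT q (hQT hq)).symm
  -- an element of order 3 of `P`
  have h3P : 3 ∣ Nat.card ↥P := by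
    have h := Subgroup.relIndex_dvd_card T' P
    rwa [hQT2.2] at h
  have hp3 : Fact (Nat.Prime 3) := ⟨Nat.prime_three⟩
  obtain ⟨k0, hk0⟩ := exists_prime_orderOf_dvd_card' 3 h3P
  obtain ⟨k, hk⟩ : ∃ k : G, k = (k0 : G) := ⟨_, rfl⟩
  have hkP : k ∈ P := hk ▸ k0.2
  have hk3 : k ^ 3 = 1 := by
    have h1 : k0 ^ 3 = 1 := by rw [← hk0]; exact pow_orderOf_eq_one k0
    have h2 := congrArg (Subtype.val) h1
    rw [hk]
    simpa using h2
  have hk1 : k ≠ 1 := by
    intro h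
    have h1 : k0 = 1 := Subtype.ext (by rw [← hk, h]; rfl)
    rw [h1, orderOf_one] at hk0
    omega
  have hkkk : k * k * k = 1 := by simpa [pow_succ] using hk3
  have hk_not2 : ∀ R : Subgroup G, IsPGroup 2 ↥R → k ∉ R := by
    intro R hR hkR
    obtain ⟨n, hn⟩ := hR ⟨k, hkR⟩
    have hn' : k ^ (2 ^ n) = 1 := by simpa using congrArg Subtype.val hn
    have hd1 : orderOf k ∣ 3 := orderOf_dvd_of_pow_eq_one hk3
    have hd2 : orderOf k ∣ 2 ^ n := orderOf_dvd_of_pow_eq_one hn'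
    have hco : Nat.Coprime 3 (2 ^ n) := Nat.Coprime.pow_right n (by decide)
    have h1 : orderOf k = 1 := Nat.eq_one_of_dvd_coprimes hco hd1 hd2
    exact hk1 (orderOf_eq_one_iff.mp h1)
  have hkz : k * z * k⁻¹ ≠ z := by
    intro h
    have hkC : k ∈ Subgroup.centralizer ({z} : Set G) := by
      rw [Subgroup.mem_centralizer_iff]
      intro y hy
      rw [Set.mem_singleton_iff] at hy
      rw [hy]
      exact (mul_inv_eq_iff_eq_mul.mp h).symm
    have hPH : P ≤ P ⊓ Subgroup.centralizer ({z} : Set G) := by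
      apply le_of_relIndex_three T' _ P ?_ inf_le_left hQT2.2 ?_
      · intro t ht
        refine Subgroup.mem_inf.mpr ⟨hTP ht, ?_⟩
        rw [Subgroup.mem_centralizer_iff]
        intro y hy
        rw [Set.mem_singleton_iff] at hy
        rw [hy]
        exact (hzT t ht).symm
      · intro hle
        exact hk_not2 T' hT2 (hle ⟨hkP, hkC⟩)
    exact hPL (fun x hx => hCz (hPH hx).2)
  have hkQ : ∀ q ∈ Q, k * q * k⁻¹ ∈ Q := fun q hq =>
    (Subgroup.mem_normalizer_iff.mp (hPQ hkP) q).mp hq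
  have hkQn : k ∉ Q := hk_not2 Q hQ2
  have hvk' : v * k * v⁻¹ * k ∈ Q := by
    rcases inv_or_comm_mod P Q hPQ h6 v k hvP hkP hk3 hkQn with h | h
    · exact h
    · exfalso
      have hkv : k * v⁻¹ * k⁻¹ ∈ T' := by
        have e : k * v⁻¹ * k⁻¹ = v⁻¹ * (v * k * v⁻¹ * k⁻¹) := by group
        rw [e]; exact T'.mul_mem (T'.inv_mem hvT) (hQT h)
      have hc : ∀ t ∈ T', k * t * k⁻¹ ∈ T' := by
        intro t ht
        rcases hTQv t ht with h1 | h1
        · exact hQT (hkQ t h1)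
        · have e : k * t * k⁻¹ = (k * (t * v) * k⁻¹) * (k * v⁻¹ * k⁻¹) := by group
          rw [e]; exact T'.mul_mem (hQT (hkQ _ h1)) hkv
      have hkN : k ∈ Subgroup.normalizer (T' : Set G) := by
        rw [Subgroup.mem_normalizer_iff]
        intro t
        constructor
        · exact hc t
        · intro ht
          have h1 := hc _ (hc _ ht)
          have e : k * (k * (k * t * k⁻¹) * k⁻¹) * k⁻¹ = (k * k * k) * t * (k * k * k)⁻¹ := by
            group
          rw [e, hkkk] at h1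
          simpa using h1
      have hPH : P ≤ P ⊓ Subgroup.normalizer (T' : Set G) := by
        apply le_of_relIndex_three T' _ P (le_inf hTP Subgroup.le_normalizer) inf_le_left hQT2.2
        intro hle
        exact hk_not2 T' hT2 (hle ⟨hkP, hkN⟩)
      have hTQ : T' ≤ Q := hQmax T' hTP hT2 (fun x hx => (hPH hx).2)
      exact hvQ (hTQ hvT)
  have key : ∀ s ∈ S, s ∈ Subgroup.normalizer (T' : Set G) → ∀ q ∈ Q, s * q * s⁻¹ ∈ Q := by
    intro s hsS hsN
    have hsT : ∀ t ∈ T', s * t * s⁻¹ ∈ T' := fun t ht =>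
      (Subgroup.mem_normalizer_iff.mp hsN t).mp ht
    have hsv : s * v * s⁻¹ = v ∨ s * v * s⁻¹ = v * z := by
      have hmem : s * v * s⁻¹ ∈ V := hSVc s hsS v hvV
      have hvzV : v * z ∈ V := V.mul_mem hvV hzV
      have h := four_enum V hV4 z v (v * z) hzV hvV hvzV (Ne.symm hz1) (Ne.symm hv1)
        (by
          intro h
          have h' : v * z = z * z := by rw [← h, hz2]
          exact hvz (mul_right_cancel h'))
        (Ne.symm hvz)
        (fun h => hv1 (by simpa using h))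
        (fun h => hz1 (by simpa using h)) _ hmem
      rcases h with h | h | h | h
      · exact absurd (conj_eq_one_iff.mp h) hv1
      · exfalso
        have hsz : s * z * s⁻¹ = z := by rw [hzS s hsS]; group
        have h' : s * v * s⁻¹ = s * z * s⁻¹ := by rw [h, hsz]
        have h'' : v = z := by simpa using h'
        exact hvz h''
      · exact Or.inl h
      · exact Or.inr h
    exact Cfsg.Agent.H29.R1.r1_out_core T' Q z v k s hQT hvT hTQv hv2 hz2 hzQ hzT hQv hk3 hkz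
      hkQ hvk' hsT hsv
  intro x hxS hxN
  rw [Subgroup.mem_normalizer_iff]
  intro q
  constructor
  · exact key x hxS hxN q
  · intro hq
    have h := key x⁻¹ (inv_mem hxS) (inv_mem hxN) _ hq
    have e : x⁻¹ * (x * q * x⁻¹) * x⁻¹⁻¹ = q := by group
    rwa [e] at h

end Cfsg.Agent.H62.Jx

#print axioms Cfsg.Agent.H62.Jx.kb_core
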