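import Cfsg.Agent.H82.JxDefs

/-!
# JX-SQ (helper62, for helper82): an elementary abelian 2-group with a fixed-point-free automorphism of
order 3 inverted by an involutory automorphism is the "square" of the fixed points of the involution
-/

set_option autoImplicit false
set_option linter.unusedVariables false
set_option linter.unusedSimpArgs false
set_option linter.style.haveILetI false

namespace Cfsg.Agent.H62.Jx

open Cfsg Cfsg.Agent.H82.Jx

universe u

theorem sq : StSq.{u} := by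
  intro G _ _ Y a x hc h2 ha hx ha2 hx3 hax hxf
  classical
  obtain ⟨D, hD⟩ : ∃ D : Subgroup G, D = Y ⊓ Subgroup.centralizer ({a} : Set G) := ⟨_, rfl⟩
  rw [← hD]
  have hDmem : ∀ y, y ∈ D ↔ y ∈ Y ∧ a * y * a⁻¹ = y := by
    intro y
    rw [hD, Subgroup.mem_inf, Subgroup.mem_centralizer_iff]
    constructor
    · rintro ⟨hy, h⟩
      refine ⟨hy, ?_⟩
      have h1 := h a (Set.mem_singleton a)
      rw [h1, mul_assoc, mul_inv_cancel, mul_one]
    · rintro ⟨hy, h⟩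
      refine ⟨hy, fun g hg => ?_⟩
      rw [Set.mem_singleton_iff] at hg
      subst hg
      calc g * y = (g * y * g⁻¹) * g := by group
        _ = y * g := by rw [h]
  have hDY : ∀ y ∈ D, y ∈ Y := fun y hy => ((hDmem y).1 hy).1
  -- the key disjointness
  have key : ∀ w ∈ D, ∀ w' ∈ D, w = x * w' * x⁻¹ → w' = 1 := by
    intro w hw w' hw' e
    obtain ⟨hwY, hwa⟩ := (hDmem w).1 hw
    obtain ⟨hw'Y, hw'a⟩ := (hDmem w').1 hw'
    have h1 : x * w' * x⁻¹ = x⁻¹ * w' * x := by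
      have h := hax w' hw'Y
      rw [hw'a, ← e, hwa] at h
      rw [← e]
      exact h
    apply hxf w' hw'Y
    have h3 := hx3 w' hw'Y
    rw [h1] at h3
    calc x * w' * x⁻¹ = x * (x * (x⁻¹ * w' * x) * x⁻¹) * x⁻¹ := by group
      _ = w' := h3
  -- the map `D × D → Y`
  have hφmem : ∀ p : ↥D × ↥D, p.1.1 * (x * p.2.1 * x⁻¹) ∈ Y := fun p =>
    Y.mul_mem (hDY _ p.1.2) (hx _ (hDY _ p.2.2))
  obtain ⟨φ, hφ⟩ : ∃ φ : ↥D × ↥D → ↥Y, φ = fun p => ⟨p.1.1 * (x * p.2.1 * x⁻¹), hφmem p⟩ := ⟨_, rfl⟩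
  have hφinj : Function.Injective φ := by
    rintro ⟨⟨u, hu⟩, ⟨v, hv⟩⟩ ⟨⟨u', hu'⟩, ⟨v', hv'⟩⟩ h
    rw [hφ] at h
    have E : u * (x * v * x⁻¹) = u' * (x * v' * x⁻¹) := congrArg Subtype.val h
    have hX : (x * v * x⁻¹) * (x * v * x⁻¹) = 1 := h2 _ (hx _ (hDY _ hv))
    have hu'2 : u' * u' = 1 := h2 _ (hDY _ hu')
    have hw : u' * u = x * (v' * v) * x⁻¹ := by
      calc u' * u = u' * (u * (x * v * x⁻¹)) * (x * v * x⁻¹) := by
            rw [mul_assoc u' (u * (x * v * x⁻¹)), mul_assoc u, hX, mul_one]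
        _ = u' * (u' * (x * v' * x⁻¹)) * (x * v * x⁻¹) := by rw [E]
        _ = (u' * u') * ((x * v' * x⁻¹) * (x * v * x⁻¹)) := by simp only [mul_assoc]
        _ = x * (v' * v) * x⁻¹ := by rw [hu'2, one_mul]; group
    have hvv : v' * v = 1 := key _ (D.mul_mem hu' hu) _ (D.mul_mem hv' hv) hw
    have huu : u' * u = 1 := by rw [hw, hvv]; group
    have hv2 : v * v = 1 := h2 _ (hDY _ hv)
    have hu2 : u * u = 1 := h2 _ (hDY _ hu)
    have e1 : v' = v := by
      calc v' = v' * (v * v) := by rw [hv2, mul_one]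
        _ = (v' * v) * v := by rw [mul_assoc]
        _ = v := by rw [hvv, one_mul]
    have e2 : u' = u := by
      calc u' = u' * (u * u) := by rw [hu2, mul_one]
        _ = (u' * u) * u := by rw [mul_assoc]
        _ = u := by rw [huu, one_mul]
    subst e1
    subst e2
    rfl
  have hle1 : Nat.card ↥D * Nat.card ↥D ≤ Nat.card ↥Y := by
    rw [← Nat.card_prod]
    exact Nat.card_le_card_of_injective φ hφinj
  -- the homomorphism `Y → D`, `y ↦ y * (a y a⁻¹)`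
  have hψmem : ∀ y : ↥Y, y.1 * (a * y.1 * a⁻¹) ∈ D := by
    intro y
    rw [hDmem]
    refine ⟨Y.mul_mem y.2 (ha _ y.2), ?_⟩
    have h1 : a * (y.1 * (a * y.1 * a⁻¹)) * a⁻¹ = (a * y.1 * a⁻¹) * (a * (a * y.1 * a⁻¹) * a⁻¹) := by group
    rw [h1, ha2 _ y.2]
    exact hc _ (ha _ y.2) _ y.2
  let ψ : ↥Y →* ↥D :=
    { toFun := fun y => ⟨y.1 * (a * y.1 * a⁻¹), hψmem y⟩
      map_one' := by
        apply Subtype.ext
        show (1 : G) * (a * 1 * a⁻¹) = 1
        group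
      map_mul' := by
        intro y z
        apply Subtype.ext
        show (y.1 * z.1) * (a * (y.1 * z.1) * a⁻¹) = (y.1 * (a * y.1 * a⁻¹)) * (z.1 * (a * z.1 * a⁻¹))
        have h1 : a * (y.1 * z.1) * a⁻¹ = (a * y.1 * a⁻¹) * (a * z.1 * a⁻¹) := by group
        have h2' : z.1 * (a * y.1 * a⁻¹) = (a * y.1 * a⁻¹) * z.1 := hc _ z.2 _ (ha _ y.2)
        rw [h1]
        calc y.1 * z.1 * (a * y.1 * a⁻¹ * (a * z.1 * a⁻¹))
            = y.1 * (z.1 * (a * y.1 * a⁻¹)) * (a * z.1 * a⁻¹) := by simp only [mul_assoc]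
          _ = y.1 * ((a * y.1 * a⁻¹) * z.1) * (a * z.1 * a⁻¹) := by rw [h2']
          _ = y.1 * (a * y.1 * a⁻¹) * (z.1 * (a * z.1 * a⁻¹)) := by simp only [mul_assoc] }
  have hker : Nat.card ↥ψ.ker ≤ Nat.card ↥D := by
    have hkmem : ∀ k : ↥ψ.ker, k.1.1 ∈ D := by
      intro k
      have hk : ψ k.1 = 1 := k.2
      have hk1 : k.1.1 * (a * k.1.1 * a⁻¹) = 1 := congrArg Subtype.val hk
      rw [hDmem]
      refine ⟨k.1.2, ?_⟩
      have hk2 : k.1.1 * k.1.1 = 1 := h2 _ k.1.2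
      calc a * k.1.1 * a⁻¹ = (k.1.1 * k.1.1) * (a * k.1.1 * a⁻¹) := by rw [hk2, one_mul]
        _ = k.1.1 * (k.1.1 * (a * k.1.1 * a⁻¹)) := by rw [mul_assoc]
        _ = k.1.1 := by rw [hk1, mul_one]
    apply Nat.card_le_card_of_injective (fun k : ↥ψ.ker => (⟨k.1.1, hkmem k⟩ : ↥D))
    intro k k' h
    apply Subtype.ext
    apply Subtype.ext
    exact congrArg (fun d : ↥D => d.1) h
  have hrange : Nat.card ↥ψ.range ≤ Nat.card ↥D := Subgroup.card_le_card_group _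
  have hle2 : Nat.card ↥Y ≤ Nat.card ↥D * Nat.card ↥D := by
    have h1 := Subgroup.card_mul_index ψ.ker
    rw [Subgroup.index_ker] at h1
    rw [← h1]
    exact Nat.mul_le_mul hker hrange
  have hcard : Nat.card ↥Y = Nat.card ↥D ^ 2 := by
    rw [pow_two]
    exact le_antisymm hle2 hle1
  refine ⟨hcard, ?_⟩
  intro y hy
  have hbij : Function.Bijective φ := by
    rw [Nat.bijective_iff_injective_and_card]
    refine ⟨hφinj, ?_⟩
    rw [Nat.card_prod, hcard, pow_two]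
  obtain ⟨⟨u, v⟩, huv⟩ := hbij.2 ⟨y, hy⟩
  rw [hφ] at huv
  exact ⟨u.1, u.2, v.1, v.2, (congrArg Subtype.val huv).symm⟩

example : Cfsg.Agent.H82.Jx.StSq.{u} := sq

end Cfsg.Agent.H62.Jx

#print axioms Cfsg.Agent.H62.Jx.sq
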