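import Cfsg.Agent.H64.JyDefs
import Cfsg.Agent.H14.Thompson

/-!
# JY-NS (S2953): `N_G(S) ≤ M` for a configuration `Base S M T K L`

`J(S)` is characteristic in `S`, so `N_G(S) ≤ N_G(J(S)) ≤ M`.
-/

set_option autoImplicit false

namespace Cfsg.Agent.H62.Jy

universe u

/-- `N_G(S) ≤ N_G(J(S))` for any subgroup `S`. -/
theorem normalizer_le_normalizer_thompson {G : Type u} [Group G] (S : Subgroup G) :
    Subgroup.normalizer (S : Set G) ≤
      Subgroup.normalizer (Cfsg.thompsonSubgroupOf 2 S : Set G) := by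
  intro g hg
  have hS : S.map (MulAut.conj g).toMonoidHom = S := by
    ext x
    constructor
    · rintro ⟨y, hy, rfl⟩
      have := (Subgroup.mem_normalizer_iff.mp hg y).mp hy
      simpa using this
    · intro hx
      refine ⟨g⁻¹ * x * g, ?_, by simp [mul_assoc]⟩
      have := (Subgroup.mem_normalizer_iff.mp hg (g⁻¹ * x * g)).mpr (by simpa [mul_assoc] using hx)
      exact this
  have hJ := Cfsg.Agent.H14.thompsonSubgroupOf_conj 2 g S
  rw [hS] at hJ
  rw [Subgroup.mem_normalizer_iff]
  intro x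
  constructor
  · intro hx
    have : (MulAut.conj g).toMonoidHom x ∈
        (Cfsg.thompsonSubgroupOf 2 S).map (MulAut.conj g).toMonoidHom :=
      Subgroup.mem_map_of_mem _ hx
    rw [hJ] at this
    simpa using this
  · intro hx
    have hx' : g * x * g⁻¹ ∈ (Cfsg.thompsonSubgroupOf 2 S).map (MulAut.conj g).toMonoidHom := by
      rw [hJ]; exact hx
    obtain ⟨y, hy, hyx⟩ := hx'
    have : y = x := by
      have h1 : g * y * g⁻¹ = g * x * g⁻¹ := by simpa using hyx
      have h2 := mul_right_cancel h1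
      exact mul_left_cancel h2
    exact this ▸ hy

/-- JY-NS. -/
theorem ns : Cfsg.Agent.H64.Jy.StNS.{u} := by
  intro G _ _ S M T K L hB
  exact (normalizer_le_normalizer_thompson (S : Subgroup G)).trans hB.2.2.2.1

example : ∀ {G : Type u} [Group G] [Finite G] (S : Sylow 2 G) (M T K L : Subgroup G),
    Cfsg.Agent.H64.Jz.Base S M T K L →
    Subgroup.normalizer ((S : Subgroup G) : Set G) ≤ M := ns

end Cfsg.Agent.H62.Jy

#print axioms Cfsg.Agent.H62.Jy.ns
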