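import Mathlib

set_option autoImplicit false

namespace Cfsg.Agent.H62

open MulAction

section
variable {G : Type*} [Group G] {Ω : Type*} [MulAction G Ω]

theorem mem_orbit_stab_iff (x y w : Ω) :
    w ∈ orbit (stabilizer G x) y ↔ ∃ s ∈ stabilizer G x, s • y = w := by
  constructor
  · rintro ⟨s, rfl⟩; exact ⟨s.1, s.2, rfl⟩
  · rintro ⟨s, hs, rfl⟩; exact ⟨⟨s, hs⟩, rfl⟩

/-- a normal subgroup of a point stabilizer that moves `y` is transitive on the orbit of `y`,
when the point stabilizer is primitive on that orbit. -/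
theorem normal_transitive_on_orbit (α y : Ω) (K : Subgroup G) (hK : K ≤ stabilizer G α)
    (hKn : stabilizer G α ≤ Subgroup.normalizer (K : Set G))
    (hp : IsPreprimitive (stabilizer G α) (orbit (stabilizer G α) y))
    (hmove : ∃ k ∈ K, k • y ≠ y) :
    ∀ s ∈ stabilizer G α, ∃ k ∈ K, k • y = s • y := by
  intro s hs
  have hnorm : (K.subgroupOf (stabilizer G α)).Normal :=
    (Subgroup.normal_subgroupOf_iff_le_normalizer hK).2 hKn
  have hq : IsQuasiPreprimitive (stabilizer G α) (orbit (stabilizer G α) y) := inferInstance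
  have hfix : fixedPoints (K.subgroupOf (stabilizer G α)) (orbit (stabilizer G α) y) ≠ Set.univ := by
    obtain ⟨k, hk, hky⟩ := hmove
    intro h
    have hmem : (⟨y, mem_orbit_self y⟩ : orbit (stabilizer G α) y) ∈
        fixedPoints (K.subgroupOf (stabilizer G α)) (orbit (stabilizer G α) y) := by
      rw [h]; trivial
    have h2 := hmem ⟨⟨k, hK hk⟩, Subgroup.mem_subgroupOf.2 hk⟩
    apply hky
    exact congrArg Subtype.val h2
  have htr := hq.isPretransitive_of_normal hfix
  obtain ⟨n, hn⟩ := htr.exists_smul_eq (⟨y, mem_orbit_self y⟩ : orbit (stabilizer G α) y)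
    ⟨s • y, ⟨⟨s, hs⟩, rfl⟩⟩
  refine ⟨n.1.1, Subgroup.mem_subgroupOf.1 n.2, ?_⟩
  exact congrArg Subtype.val hn

theorem stabilizer_ne_of_ne [IsPreprimitive G Ω] [FaithfulSMul G Ω] {x z : Ω} (hxz : x ≠ z)
    (hx : stabilizer G x ≠ ⊥) : stabilizer G x ≠ stabilizer G z := by
  intro e
  have : Nontrivial Ω := ⟨⟨x, z, hxz⟩⟩
  have hc : IsCoatom (stabilizer G x) := IsPreprimitive.isCoatom_stabilizer_of_isPreprimitive G x
  obtain ⟨g, hg⟩ := exists_smul_eq G x z
  have hnorm : g ∈ Subgroup.normalizer (stabilizer G x : Set G) := by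
    rw [Subgroup.mem_normalizer_iff]
    intro h
    constructor
    · intro hh
      rw [e, ← hg, mem_stabilizer_iff, mul_smul, mul_smul, inv_smul_smul]
      rw [mem_stabilizer_iff] at hh
      rw [hh]
    · intro hh
      rw [e, ← hg, mem_stabilizer_iff, mul_smul, mul_smul, inv_smul_smul] at hh
      rw [mem_stabilizer_iff]
      exact MulAction.injective g hh
  have hgx : g ∉ stabilizer G x := by
    intro h
    rw [mem_stabilizer_iff] at h
    exact hxz (h.symm.trans hg)
  have hn : Subgroup.normalizer (stabilizer G x : Set G) = ⊤ :=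
    hc.2 _ (lt_of_le_of_ne Subgroup.le_normalizer (fun h => hgx (h ▸ hnorm)))
  apply hx
  rw [Subgroup.eq_bot_iff_forall]
  intro h hh
  apply FaithfulSMul.eq_of_smul_eq_smul (α := Ω)
  intro u
  rw [one_smul]
  obtain ⟨g', rfl⟩ := exists_smul_eq G x u
  have hg' : g' ∈ Subgroup.normalizer (stabilizer G x : Set G) := hn ▸ Subgroup.mem_top g'
  have h3 : g'⁻¹ * h * g' ∈ stabilizer G x := by
    rw [Subgroup.mem_normalizer_iff''] at hg'
    exact (hg' h).1 hh
  rw [mem_stabilizer_iff, mul_smul, mul_smul] at h3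
  calc h • g' • x = g' • g'⁻¹ • h • g' • x := by rw [smul_inv_smul]
    _ = g' • x := by rw [h3]

theorem invariant_of_two_stabilizers [IsPreprimitive G Ω] [FaithfulSMul G Ω] {x z : Ω} (hxz : x ≠ z)
    (hx : stabilizer G x ≠ ⊥) (S : Set Ω)
    (h1 : ∀ g ∈ stabilizer G x, ∀ a ∈ S, g • a ∈ S) (h2 : ∀ g ∈ stabilizer G z, ∀ a ∈ S, g • a ∈ S) :
    ∀ g : G, ∀ a ∈ S, g • a ∈ S := by
  have : Nontrivial Ω := ⟨⟨x, z, hxz⟩⟩
  let T : Subgroup G :=
    { carrier := {g | ∀ a, g • a ∈ S ↔ a ∈ S}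
      mul_mem' := by
        intro g h hg hh a
        rw [mul_smul, hg, hh]
      one_mem' := by
        intro a
        rw [one_smul]
      inv_mem' := by
        intro g hg a
        rw [← hg (g⁻¹ • a), smul_inv_smul] }
  have hxT : stabilizer G x ≤ T := by
    intro g hg a
    constructor
    · intro h
      have := h1 g⁻¹ (inv_mem hg) _ h
      rwa [inv_smul_smul] at this
    · exact h1 g hg a
  have hzT : stabilizer G z ≤ T := by
    intro g hg a
    constructor
    · intro h
      have := h2 g⁻¹ (inv_mem hg) _ h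
      rwa [inv_smul_smul] at this
    · exact h2 g hg a
  have hcx : IsCoatom (stabilizer G x) := IsPreprimitive.isCoatom_stabilizer_of_isPreprimitive G x
  have hcz : IsCoatom (stabilizer G z) := IsPreprimitive.isCoatom_stabilizer_of_isPreprimitive G z
  have hT : T = ⊤ := by
    by_contra hT
    have e1 : T = stabilizer G x := by
      by_contra hne
      exact hT (hcx.2 T (lt_of_le_of_ne hxT (Ne.symm hne)))
    have e2 : T = stabilizer G z := by
      by_contra hne
      exact hT (hcz.2 T (lt_of_le_of_ne hzT (Ne.symm hne)))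
    exact stabilizer_ne_of_ne hxz hx (e1.symm.trans e2)
  intro g a ha
  have hg : g ∈ T := hT ▸ Subgroup.mem_top g
  exact (hg a).2 ha

theorem orbit_stab_invariant (x p : Ω) :
    ∀ g ∈ stabilizer G x, ∀ a ∈ orbit (stabilizer G x) p, g • a ∈ orbit (stabilizer G x) p := by
  intro g hg a ha
  rw [mem_orbit_stab_iff] at ha ⊢
  obtain ⟨s, hs, rfl⟩ := ha
  exact ⟨g * s, mul_mem hg hs, mul_smul _ _ _⟩

theorem orbit_stab_ne [IsPreprimitive G Ω] [FaithfulSMul G Ω] {x z p : Ω} (hxz : x ≠ z)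
    (hx : stabilizer G x ≠ ⊥) (hp : p ≠ x) :
    orbit (stabilizer G x) p ≠ orbit (stabilizer G z) p := by
  intro e
  have h1 := orbit_stab_invariant (G := G) x p
  have h2 : ∀ g ∈ stabilizer G z, ∀ a ∈ orbit (stabilizer G x) p, g • a ∈ orbit (stabilizer G x) p := by
    rw [e]
    exact orbit_stab_invariant (G := G) z p
  have h3 := invariant_of_two_stabilizers hxz hx _ h1 h2
  obtain ⟨g, hg⟩ := exists_smul_eq G p x
  have hxmem : x ∈ orbit (stabilizer G x) p := hg ▸ h3 g p (mem_orbit_self p)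
  rw [mem_orbit_stab_iff] at hxmem
  obtain ⟨s, hs, hsp⟩ := hxmem
  apply hp
  have h4 : p = s⁻¹ • x := by rw [← hsp, inv_smul_smul]
  rw [h4]
  exact mem_stabilizer_iff.1 (inv_mem hs)

theorem ncard_orbit_stab_smul (g : G) (u v : Ω) :
    (orbit (stabilizer G (g • u)) (g • v)).ncard = (orbit (stabilizer G u) v).ncard := by
  have h : orbit (stabilizer G (g • u)) (g • v) = (fun a => g • a) '' orbit (stabilizer G u) v := by
    ext w
    rw [mem_orbit_stab_iff]
    constructor
    · rintro ⟨s, hs, rfl⟩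
      refine ⟨(g⁻¹ * s * g) • v, ?_, ?_⟩
      · rw [mem_orbit_stab_iff]
        refine ⟨g⁻¹ * s * g, ?_, rfl⟩
        rw [mem_stabilizer_iff] at hs ⊢
        rw [mul_smul, mul_smul, hs, inv_smul_smul]
      · simp [mul_smul]
    · rintro ⟨a, ha, rfl⟩
      rw [mem_orbit_stab_iff] at ha
      obtain ⟨s, hs, rfl⟩ := ha
      refine ⟨g * s * g⁻¹, ?_, ?_⟩
      · rw [mem_stabilizer_iff] at hs ⊢
        rw [mul_smul, mul_smul, inv_smul_smul, hs]
      · simp [mul_smul]
  rw [h]
  exact Set.ncard_image_of_injective _ (MulAction.injective g)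

/-- **Manning's theorem**, core form: in an extremely primitive group, a subgroup `K` that is
normal in a point stabilizer `G_α` and fixes a further point is trivial. -/
theorem manning_core [Finite Ω] [FaithfulSMul G Ω] (hprim : IsPreprimitive G Ω)
    (hep : ∀ (α : Ω) (ω : Ω), IsPreprimitive (stabilizer G α) (orbit (stabilizer G α) ω))
    (α ω : Ω) (hω : ω ≠ α) (K : Subgroup G) (hK : K ≤ stabilizer G α)
    (hKn : stabilizer G α ≤ Subgroup.normalizer (K : Set G)) (hfix : ∀ k ∈ K, k • ω = ω) :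
    K = ⊥ := by
  classical
  by_contra hKne
  obtain ⟨k₀, hk₀1⟩ := (Subgroup.ne_bot_iff_exists_ne_one.1 hKne)
  have hk₀' : (k₀ : G) ≠ 1 := fun h => hk₀1 (Subtype.ext h)
  have hα : stabilizer G α ≠ ⊥ := by
    intro h
    apply hk₀'
    have := hK k₀.2
    rw [h, Subgroup.mem_bot] at this
    exact this
  obtain ⟨y₀, hy₀⟩ : ∃ y₀ : Ω, (k₀ : G) • y₀ ≠ y₀ := by
    by_contra hcon
    push Not at hcon
    apply hk₀'
    apply FaithfulSMul.eq_of_smul_eq_smul (α := Ω)
    intro u
    rw [one_smul]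
    exact hcon u
  -- the two key inequalities
  have key1 : ∀ z y : Ω, z ≠ α → (∀ k ∈ K, k • z = z) → (∃ k ∈ K, k • y ≠ y) →
      (orbit (stabilizer G α) y).ncard < (orbit (stabilizer G z) y).ncard := by
    intro z y hz hzfix hymove
    have hyα : y ≠ α := by
      rintro rfl
      obtain ⟨k, hk, hky⟩ := hymove
      exact hky (mem_stabilizer_iff.1 (hK hk))
    have hsub : orbit (stabilizer G α) y ⊆ orbit (stabilizer G z) y := by
      intro w hw
      rw [mem_orbit_stab_iff] at hw ⊢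
      obtain ⟨s, hs, rfl⟩ := hw
      obtain ⟨k, hk, hky⟩ := normal_transitive_on_orbit α y K hK hKn (hep α y) hymove s hs
      exact ⟨k, mem_stabilizer_iff.2 (hzfix k hk), hky⟩
    have hne : orbit (stabilizer G α) y ≠ orbit (stabilizer G z) y :=
      orbit_stab_ne (Ne.symm hz) hα hyα
    exact Set.ncard_lt_ncard (lt_of_le_of_ne hsub hne) (Set.toFinite _)
  have key2 : ∀ z y : Ω, z ≠ α → (∀ k ∈ K, k • z = z) → (∃ k ∈ K, k • y ≠ y) →
      (orbit (stabilizer G α) z).ncard < (orbit (stabilizer G y) z).ncard := by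
    intro z y hz hzfix hymove
    have hyα : y ≠ α := by
      rintro rfl
      obtain ⟨k, hk, hky⟩ := hymove
      exact hky (mem_stabilizer_iff.1 (hK hk))
    have hsub : orbit (stabilizer G α) z ⊆ orbit (stabilizer G y) z := by
      intro w hw
      rw [mem_orbit_stab_iff] at hw ⊢
      obtain ⟨s, hs, rfl⟩ := hw
      obtain ⟨k, hk, hky⟩ := normal_transitive_on_orbit α y K hK hKn (hep α y) hymove s⁻¹
        (inv_mem hs)
      refine ⟨s * k, ?_, ?_⟩
      · rw [mem_stabilizer_iff, mul_smul, hky, smul_inv_smul]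
      · rw [mul_smul, hzfix k hk]
    have hne : orbit (stabilizer G α) z ≠ orbit (stabilizer G y) z :=
      orbit_stab_ne (Ne.symm hyα) hα hz
    exact Set.ncard_lt_ncard (lt_of_le_of_ne hsub hne) (Set.toFinite _)
  -- a pair of maximal suborbit length, based at α
  have : Nonempty {p : Ω × Ω // p.1 ≠ p.2} := ⟨⟨(α, ω), hω.symm⟩⟩
  obtain ⟨⟨⟨u₀, v₀⟩, huv⟩, hmax⟩ := Finite.exists_max
    (fun p : {p : Ω × Ω // p.1 ≠ p.2} => (orbit (stabilizer G p.1.1) p.1.2).ncard)
  obtain ⟨g, hg⟩ := exists_smul_eq G u₀ α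
  have hw₀ : g • v₀ ≠ α := by
    intro h
    rw [← hg] at h
    exact huv (MulAction.injective g h).symm
  have hmax' : ∀ u v : Ω, u ≠ v →
      (orbit (stabilizer G u) v).ncard ≤ (orbit (stabilizer G α) (g • v₀)).ncard := by
    intro u v huv'
    have h1 := hmax ⟨(u, v), huv'⟩
    have h2 := ncard_orbit_stab_smul g u₀ v₀
    rw [hg] at h2
    rw [h2]
    exact h1
  by_cases hcase : ∀ k ∈ K, k • (g • v₀) = g • v₀
  · have h1 := key2 (g • v₀) y₀ hw₀ hcase ⟨k₀, k₀.2, hy₀⟩
    have hne : y₀ ≠ g • v₀ := by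
      intro h
      rw [h] at hy₀
      exact hy₀ (hcase k₀ k₀.2)
    have h2 := hmax' y₀ (g • v₀) hne
    omega
  · push Not at hcase
    have h1 := key1 ω (g • v₀) hω hfix hcase
    have hne : ω ≠ g • v₀ := by
      intro h
      obtain ⟨k, hk, hkw⟩ := hcase
      rw [← h] at hkw
      exact hkw (hfix k hk)
    have h2 := hmax' ω (g • v₀) hne
    omega

/-- **Manning's theorem**: in an extremely primitive group, a point stabilizer acts
faithfully on each of its non-trivial orbits. -/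
theorem manning [Finite Ω] [FaithfulSMul G Ω] (hprim : IsPreprimitive G Ω)
    (hep : ∀ (α : Ω) (ω : Ω), IsPreprimitive (stabilizer G α) (orbit (stabilizer G α) ω))
    (α ω : Ω) (hω : ω ≠ α) (h : G) (hα : h ∈ stabilizer G α)
    (hfix : ∀ x ∈ orbit (stabilizer G α) ω, h • x = x) : h = 1 := by
  let K : Subgroup G :=
    { carrier := {g | g ∈ stabilizer G α ∧ ∀ x ∈ orbit (stabilizer G α) ω, g • x = x}
      mul_mem' := by
        rintro a b ⟨ha, ha'⟩ ⟨hb, hb'⟩
        refine ⟨mul_mem ha hb, fun x hx => ?_⟩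
        rw [mul_smul, hb' x hx, ha' x hx]
      one_mem' := ⟨one_mem _, fun x _ => one_smul _ x⟩
      inv_mem' := by
        rintro a ⟨ha, ha'⟩
        refine ⟨inv_mem ha, fun x hx => ?_⟩
        rw [inv_smul_eq_iff, ha' x hx] }
  have hK : K ≤ stabilizer G α := fun g hg => hg.1
  have haux : ∀ s ∈ stabilizer G α, ∀ k ∈ K, s * k * s⁻¹ ∈ K := by
    rintro s hs k ⟨hk, hk'⟩
    refine ⟨mul_mem (mul_mem hs hk) (inv_mem hs), fun x hx => ?_⟩
    have hx' : s⁻¹ • x ∈ orbit (stabilizer G α) ω := orbit_stab_invariant α ω s⁻¹ (inv_mem hs) x hx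
    rw [mul_smul, mul_smul, hk' _ hx', smul_inv_smul]
  have hKn : stabilizer G α ≤ Subgroup.normalizer (K : Set G) := by
    intro s hs
    rw [Subgroup.mem_normalizer_iff]
    intro k
    constructor
    · exact haux s hs k
    · intro hk
      have := haux s⁻¹ (inv_mem hs) _ hk
      simpa [mul_assoc] using this
  have hKfix : ∀ k ∈ K, k • ω = ω := fun k hk => hk.2 ω (mem_orbit_self ω)
  have hbot := manning_core hprim hep α ω hω K hK hKn hKfix
  have hmem : h ∈ K := ⟨hα, hfix⟩
  rw [hbot, Subgroup.mem_bot] at hmem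
  exact hmem

end

end Cfsg.Agent.H62
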