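import Mathlib
import Cfsg.Agent.H33.O2.Defs

/-!
S2072-CENT (helper62, for helper33's S2072 project): the centraliser of the group in the
automorphism group of the graph is trivial.
-/

set_option autoImplicit false
set_option linter.unusedVariables false

namespace Cfsg.Agent.H62.O2

open Cfsg.Agent.H33.O2 Cfsg.Agent.H22.SRG

theorem cent : StCent := by
  intro H V _ _ Γ ρ hF z hz
  ext x
  rw [RelIso.coe_one, id]
  apply hF x (z x)
  intro h hx
  have h1 : (ρ h * z) x = (z * ρ h) x := by rw [hz h]
  rw [RelIso.coe_mul, RelIso.coe_mul, Function.comp_apply, Function.comp_apply, hx] at h1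
  exact h1

end Cfsg.Agent.H62.O2
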