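import Mathlib
import Cfsg.Agent.H33.O2.Defs

/-!
S2072-CONJ (helper62, for helper33's S2072 project): an automorphism of the group which maps
vertex stabilisers to vertex stabilisers along `f` is conjugation by `f`.
-/

set_option autoImplicit false
set_option linter.unusedVariables false

namespace Cfsg.Agent.H62.O2

open Cfsg.Agent.H33.O2 Cfsg.Agent.H22.SRG

theorem conj : StConj := by
  intro H V _ _ Γ ρ hF α f hInd h
  -- the key identity
  have key : ∀ x : V, ρ (α h) (f x) = f (ρ h x) := by
    intro x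
    apply hF (f (ρ h x)) (ρ (α h) (f x))
    intro k hk
    obtain ⟨k0, rfl⟩ : ∃ k0, α k0 = k := ⟨α.symm k, α.apply_symm_apply k⟩
    have h1 : ρ k0 (ρ h x) = ρ h x := (hInd (ρ h x) k0).mp hk
    have h2 : ρ (h⁻¹ * k0 * h) x = x := by
      rw [map_mul, map_mul, RelIso.coe_mul, RelIso.coe_mul, Function.comp_apply,
        Function.comp_apply, h1, map_inv, RelIso.inv_apply_self]
    have h3 : ρ (α (h⁻¹ * k0 * h)) (f x) = f x := (hInd x (h⁻¹ * k0 * h)).mpr h2
    simp only [map_mul, map_inv, RelIso.coe_mul, Function.comp_apply] at h3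
    have h4 := congrArg (ρ (α h)) h3
    rw [RelIso.apply_inv_self] at h4
    exact h4
  ext v
  have h5 := key (f⁻¹ v)
  rw [RelIso.apply_inv_self] at h5
  rw [h5, RelIso.coe_mul, RelIso.coe_mul, Function.comp_apply, Function.comp_apply]

end Cfsg.Agent.H62.O2
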