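import Mathlib
import Cfsg.Agent.H33.O2.Defs

/-!
S2072-FIXONE (helper62, for helper33's S2072 project): the stabiliser of a vertex fixes no other
vertex.
-/

set_option autoImplicit false
set_option linter.unusedVariables false

namespace Cfsg.Agent.H62.O2

open Cfsg.Agent.H33.O2 Cfsg.Agent.H22.SRG

theorem fixone : StFixOne := by
  intro H V _ _ Γ ρ hR x y hxy
  classical
  by_contra hne
  by_cases hadj : Γ.Adj x y
  · have hcard : 1 < (nb Γ x).card := by rw [hR.hyp.deg x]; norm_num
    obtain ⟨z, hz, hzy⟩ := Finset.exists_mem_ne hcard y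
    rw [mem_nb] at hz
    obtain ⟨h, hx, hyz⟩ := hR.tadj x y z hadj hz
    exact hzy (by rw [← hyz, hxy h hx])
  · have hex : ∃ z, z ∉ insert x (insert y (nb Γ x)) := by
      by_contra hall
      push Not at hall
      have huniv : insert x (insert y (nb Γ x)) = Finset.univ :=
        Finset.eq_univ_iff_forall.mpr hall
      have h1 : (insert x (insert y (nb Γ x))).card ≤ 24 := by
        refine (Finset.card_insert_le _ _).trans ?_
        have := Finset.card_insert_le y (nb Γ x)
        rw [hR.hyp.deg x] at this
        omega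
      rw [huniv, Finset.card_univ, hR.hyp.card] at h1
      omega
    obtain ⟨z, hz⟩ := hex
    rw [Finset.mem_insert, Finset.mem_insert, mem_nb] at hz
    push Not at hz
    obtain ⟨hzx, hzy, hzadj⟩ := hz
    obtain ⟨h, hx, hyz⟩ := hR.tnadj x y z (Ne.symm hne) (Ne.symm hzx) hadj hzadj
    exact hzy (by rw [← hyz, hxy h hx])

end Cfsg.Agent.H62.O2
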