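import Mathlib
import Cfsg.Agent.H95.OhDefs

/-!
helper62: piece S5992-SUBDISC of helper95's project S5992/S5993.  A nondegenerate subspace `K` of
dimension at least `b + 1` contains `b` pairwise orthogonal nonsingular vectors with prescribed
discriminant class.
-/

set_option autoImplicit false
set_option linter.style.haveILetI false
set_option linter.unusedVariables false
set_option linter.unusedSimpArgs false

namespace Cfsg.Agent.H62.Oh

open Cfsg.Agent.H45 Cfsg.Agent.H42.Spd Cfsg.Agent.H42.Ti Cfsg.Agent.H14.Ot Cfsg.Agent.H95.Oh Module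
open Polynomial

universe u v

/-- In a finite field of odd characteristic, `α x² + β y² = c` is solvable for `α, β ≠ 0`. -/
theorem exists_sum_sq {F : Type u} [Field F] [Fintype F] (h2 : (2 : F) ≠ 0) (α β c : F)
    (hα : α ≠ 0) (hβ : β ≠ 0) : ∃ x y : F, α * x ^ 2 + β * y ^ 2 = c := by
  classical
  have hodd : Fintype.card F % 2 = 1 := by
    apply FiniteField.odd_card_of_char_ne_two
    intro h
    apply h2
    have h3 := ringChar.Nat.cast_ringChar (R := F)
    rw [h] at h3
    exact_mod_cast h3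
  have hf : degree (C α * X ^ 2 : F[X]) = 2 := by
    rw [degree_C_mul_X_pow 2 hα]
    rfl
  have hg : degree (C β * X ^ 2 - C c : F[X]) = 2 := by
    rw [degree_sub_C, degree_C_mul_X_pow 2 hβ]
    · rfl
    · rw [degree_C_mul_X_pow 2 hβ]
      norm_num
  obtain ⟨x, y, hxy⟩ := FiniteField.exists_root_sum_quadratic hf hg hodd
  refine ⟨x, y, ?_⟩
  simp only [eval_mul, eval_C, eval_pow, eval_X, eval_sub] at hxy
  linear_combination hxy

theorem subDisc (hO : StOrtho.{u, v}) : StSubDisc.{u, v} := by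
  intro F _ _ V _ _ _ B h2 hsym K hK b δ hb1 hbK hδ
  classical
  obtain ⟨w, hwK, hwo, hwn, -⟩ := hO F V B h2 hsym K hK
  obtain ⟨b', rfl⟩ : ∃ b', b = b' + 1 := ⟨b - 1, by omega⟩
  obtain ⟨w', hw'⟩ : ∃ w' : ℕ → V, w' = fun k => if h : k < Module.finrank F K then w ⟨k, h⟩ else 0 := ⟨_, rfl⟩
  have hw'K : ∀ k, k < Module.finrank F K → w' k ∈ K := by
    intro k hk
    rw [hw']
    simp only [dif_pos hk]
    exact hwK _
  have hw'o : ∀ k l, k < Module.finrank F K → l < Module.finrank F K → k ≠ l → B (w' k) (w' l) = 0 := by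
    intro k l hk hl hkl
    rw [hw']
    simp only [dif_pos hk, dif_pos hl]
    exact hwo _ _ (fun h => hkl (by simpa using congrArg Fin.val h))
  have hw'n : ∀ k, k < Module.finrank F K → B (w' k) (w' k) ≠ 0 := by
    intro k hk
    rw [hw']
    simp only [dif_pos hk]
    exact hwn _
  obtain ⟨P, hP⟩ : ∃ P : F, P = ∏ i : Fin b', B (w' i) (w' i) := ⟨_, rfl⟩
  have hP0 : P ≠ 0 := by
    rw [hP]
    exact Finset.prod_ne_zero_iff.mpr (fun i _ => hw'n i (by have := i.isLt; omega))
  obtain ⟨c, hc⟩ : ∃ c : F, c = (δ * P)⁻¹ := ⟨_, rfl⟩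
  have hc0 : c ≠ 0 := by
    rw [hc]
    exact inv_ne_zero (mul_ne_zero hδ hP0)
  obtain ⟨x, y, hxy⟩ := exists_sum_sq h2 (B (w' b') (w' b')) (B (w' (b' + 1)) (w' (b' + 1))) c
    (hw'n b' (by omega)) (hw'n (b' + 1) (by omega))
  obtain ⟨z, hz⟩ : ∃ z : V, z = x • w' b' + y • w' (b' + 1) := ⟨_, rfl⟩
  have hzK : z ∈ K := by
    rw [hz]
    exact K.add_mem (K.smul_mem x (hw'K b' (by omega))) (K.smul_mem y (hw'K (b' + 1) (by omega)))
  have hzz : B z z = c := by
    rw [hz]
    simp only [map_add, map_smul, LinearMap.add_apply, LinearMap.smul_apply, smul_eq_mul]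
    rw [hw'o b' (b' + 1) (by omega) (by omega) (by omega),
      hw'o (b' + 1) b' (by omega) (by omega) (by omega)]
    linear_combination hxy
  have hzo : ∀ k, k < b' → B (w' k) z = 0 := by
    intro k hk
    rw [hz]
    simp only [map_add, map_smul, smul_eq_mul]
    rw [hw'o k b' (by omega) (by omega) (by omega),
      hw'o k (b' + 1) (by omega) (by omega) (by omega)]
    ring
  obtain ⟨v, hv⟩ : ∃ v : Fin (b' + 1) → V,
      v = fun a : Fin (b' + 1) => if (a : ℕ) < b' then w' (a : ℕ) else z := ⟨_, rfl⟩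
  have hv1 : ∀ a : Fin (b' + 1), (a : ℕ) < b' → v a = w' a := by
    intro a ha
    rw [hv]
    simp only [if_pos ha]
  have hv2 : ∀ a : Fin (b' + 1), ¬ (a : ℕ) < b' → v a = z := by
    intro a ha
    rw [hv]
    simp only [if_neg ha]
  refine ⟨v, ?_, ?_, ?_, ?_⟩
  · intro a
    by_cases ha : (a : ℕ) < b'
    · rw [hv1 a ha]
      exact hw'K a (by omega)
    · rw [hv2 a ha]
      exact hzK
  · intro a a' haa'
    have hne : (a : ℕ) ≠ (a' : ℕ) := fun h => haa' (Fin.ext h)
    by_cases ha : (a : ℕ) < b'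
    · by_cases ha' : (a' : ℕ) < b'
      · rw [hv1 a ha, hv1 a' ha']
        exact hw'o a a' (by omega) (by omega) hne
      · rw [hv1 a ha, hv2 a' ha']
        exact hzo a ha
    · by_cases ha' : (a' : ℕ) < b'
      · rw [hv2 a ha, hv1 a' ha', hsym]
        exact hzo a' ha'
      · exfalso
        have := a.isLt
        have := a'.isLt
        omega
  · intro a
    by_cases ha : (a : ℕ) < b'
    · rw [hv1 a ha]
      exact hw'n a (by omega)
    · rw [hv2 a ha, hzz]
      exact hc0
  · rw [Fin.prod_univ_castSucc]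
    have h1 : ∏ i : Fin b', B (v i.castSucc) (v i.castSucc) = P := by
      rw [hP]
      apply Finset.prod_congr rfl
      intro i _
      rw [hv1 i.castSucc (by simp)]
      simp
    have h3 : B (v (Fin.last b')) (v (Fin.last b')) = c := by
      rw [hv2 (Fin.last b') (by simp), hzz]
    rw [h1, h3, hc]
    refine ⟨1, ?_⟩
    rw [mul_one, ← mul_assoc, mul_inv_cancel₀ (mul_ne_zero hδ hP0)]

example (hO : StOrtho.{u, v}) : StSubDisc.{u, v} := subDisc hO

end Cfsg.Agent.H62.Oh
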