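import Mathlib
import Cfsg.Agent.H95.OhDefs
import Cfsg.Agent.H49.Disc

/-!
helper62: piece S5992-SUMTYPE of helper95's project S5992/S5993.  The orthogonal sum of two
nondegenerate subspaces of even dimension is of plus type iff the summands have the same type.
-/

set_option autoImplicit false
set_option linter.style.haveILetI false
set_option linter.unusedVariables false
set_option linter.unusedSimpArgs false

namespace Cfsg.Agent.H62.Oh

open Cfsg.Agent.H45 Cfsg.Agent.H42.Spd Cfsg.Agent.H42.Ti Cfsg.Agent.H14.Ot Cfsg.Agent.H95.Oh Module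

universe u v

/-- `StDisc` for a family indexed by an arbitrary finite type. -/
theorem disc_gen (hD : StDisc.{u, v}) {F : Type u} [Field F] [Fintype F] {V : Type v}
    [AddCommGroup V] [Module F V] [FiniteDimensional F V] (B : V →ₗ[F] V →ₗ[F] F)
    (h2 : (2 : F) ≠ 0) (hsym : ∀ x y, B x y = B y x)
    {ι : Type*} [Fintype ι] (t : ℕ) (hcard : Fintype.card ι = 2 * t) (w : ι → V)
    (ho : ∀ a b, a ≠ b → B (w a) (w b) = 0) (hn : ∀ a, B (w a) (w a) ≠ 0) :
    Plus B (Submodule.span F (Set.range w)) ↔ IsSquare ((-1 : F) ^ t * ∏ a, B (w a) (w a)) := by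
  classical
  obtain ⟨e⟩ : Nonempty (Fin (2 * t) ≃ ι) := ⟨(Fintype.equivFinOfCardEq hcard).symm⟩
  have h := hD F V B h2 hsym t (w ∘ e)
    (fun a b hab => ho _ _ (fun h => hab (e.injective h))) (fun a => hn _)
  rw [e.surjective.range_comp w] at h
  have hp : ∏ a, B ((w ∘ e) a) ((w ∘ e) a) = ∏ a, B (w a) (w a) :=
    Equiv.prod_comp e (fun i => B (w i) (w i))
  rw [hp] at h
  exact h

theorem sumType (hO : StOrtho.{u, v}) (hD : StDisc.{u, v}) : StSumType.{u, v} := by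
  intro F _ _ V _ _ _ B h2 hsym W₀ W₁ hnd₀ hnd₁ hperp hev₀ hev₁
  classical
  have hperp' : ∀ x ∈ W₀, ∀ y ∈ W₁, B x y = 0 := fun x hx y hy => hperp hy x hx
  have hperp'' : ∀ x ∈ W₁, ∀ y ∈ W₀, B x y = 0 := fun x hx y hy => by
    rw [hsym]
    exact hperp' y hy x hx
  have hinf : W₀ ⊓ W₁ = ⊥ := by
    rw [eq_bot_iff, ← hnd₀]
    intro x hx
    exact ⟨hx.1, hperp hx.2⟩
  have hfr : Module.finrank F ↥(W₀ ⊔ W₁) = Module.finrank F W₀ + Module.finrank F W₁ := by
    have := Submodule.finrank_sup_add_finrank_inf_eq W₀ W₁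
    rw [hinf, finrank_bot] at this
    omega
  refine ⟨?_, hfr, ?_⟩
  · rw [eq_bot_iff]
    rintro x ⟨hx, hxp⟩
    rw [Submodule.mem_bot]
    obtain ⟨x₀, hx₀, x₁, hx₁, rfl⟩ := Submodule.mem_sup.mp hx
    have h0 : x₀ = 0 := by
      have : x₀ ∈ W₀ ⊓ perp B W₀ := by
        refine ⟨hx₀, fun u hu => ?_⟩
        have h1 := hxp u (Submodule.mem_sup_left hu)
        rw [map_add, hperp' u hu x₁ hx₁, add_zero] at h1
        exact h1
      rw [hnd₀] at this
      exact (Submodule.mem_bot F).mp this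
    have h1 : x₁ = 0 := by
      have : x₁ ∈ W₁ ⊓ perp B W₁ := by
        refine ⟨hx₁, fun u hu => ?_⟩
        have h1 := hxp u (Submodule.mem_sup_right hu)
        rw [map_add, hperp'' u hu x₀ hx₀, zero_add] at h1
        exact h1
      rw [hnd₁] at this
      exact (Submodule.mem_bot F).mp this
    rw [h0, h1, add_zero]
  · obtain ⟨v₀, hv₀W, hv₀o, hv₀n, hv₀s⟩ := hO F V B h2 hsym W₀ hnd₀
    obtain ⟨v₁, hv₁W, hv₁o, hv₁n, hv₁s⟩ := hO F V B h2 hsym W₁ hnd₁
    obtain ⟨t₀, ht₀⟩ := hev₀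
    obtain ⟨t₁, ht₁⟩ := hev₁
    have hP₀ := disc_gen hD B h2 hsym t₀ (by rw [Fintype.card_fin]; omega) v₀ hv₀o hv₀n
    have hP₁ := disc_gen hD B h2 hsym t₁ (by rw [Fintype.card_fin]; omega) v₁ hv₁o hv₁n
    rw [hv₀s] at hP₀
    rw [hv₁s] at hP₁
    have hP := disc_gen hD B h2 hsym (t₀ + t₁)
      (ι := Fin (Module.finrank F W₀) ⊕ Fin (Module.finrank F W₁))
      (by simp only [Fintype.card_sum, Fintype.card_fin]; omega) (Sum.elim v₀ v₁)
      (by
        rintro (a | a) (b | b) hab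
        · exact hv₀o a b (fun h => hab (by rw [h]))
        · exact hperp' _ (hv₀W a) _ (hv₁W b)
        · exact hperp'' _ (hv₁W a) _ (hv₀W b)
        · exact hv₁o a b (fun h => hab (by rw [h])))
      (by
        rintro (a | a)
        · exact hv₀n a
        · exact hv₁n a)
    rw [Set.Sum.elim_range, Submodule.span_union, hv₀s, hv₁s, Fintype.prod_sum_type] at hP
    simp only [Sum.elim_inl, Sum.elim_inr] at hP
    rw [hP, hP₀, hP₁]
    obtain ⟨D₀, hD₀⟩ : ∃ D₀ : F, D₀ = (-1) ^ t₀ * ∏ a, B (v₀ a) (v₀ a) := ⟨_, rfl⟩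
    obtain ⟨D₁, hD₁⟩ : ∃ D₁ : F, D₁ = (-1) ^ t₁ * ∏ a, B (v₁ a) (v₁ a) := ⟨_, rfl⟩
    have hprod : (-1 : F) ^ (t₀ + t₁) *
        ((∏ a, B (v₀ a) (v₀ a)) * ∏ a, B (v₁ a) (v₁ a)) = D₀ * D₁ := by
      rw [hD₀, hD₁, pow_add]
      ring
    rw [hprod, ← hD₀, ← hD₁]
    have hm1 : (-1 : F) ≠ 0 := neg_ne_zero.mpr one_ne_zero
    have hD₀0 : D₀ ≠ 0 := by
      rw [hD₀]
      exact mul_ne_zero (pow_ne_zero _ hm1) (Finset.prod_ne_zero_iff.mpr (fun a _ => hv₀n a))
    have hD₁0 : D₁ ≠ 0 := by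
      rw [hD₁]
      exact mul_ne_zero (pow_ne_zero _ hm1) (Finset.prod_ne_zero_iff.mpr (fun a _ => hv₁n a))
    by_cases hsq : IsSquare D₁
    · obtain ⟨r, hr⟩ := hsq
      have hr0 : r ≠ 0 := by
        rintro rfl
        rw [mul_zero] at hr
        exact hD₁0 hr
      have h3 : D₀ * D₁ = r ^ 2 * D₀ := by
        rw [hr]
        ring
      rw [h3, Cfsg.Agent.H49.isSquare_sq_mul_iff hr0]
      constructor
      · intro h
        exact ⟨fun _ => ⟨r, hr⟩, fun _ => h⟩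
      · intro h
        exact h.mpr ⟨r, hr⟩
    · rw [Cfsg.Agent.H49.isSquare_mul_nonsquare_iff hD₀0 hsq]
      constructor
      · intro h
        exact ⟨fun h' => absurd h' h, fun h' => absurd h' hsq⟩
      · intro h h'
        exact hsq (h.mp h')

example (hO : StOrtho.{u, v}) (hD : StDisc.{u, v}) : StSumType.{u, v} := sumType hO hD

end Cfsg.Agent.H62.Oh
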