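import Mathlib

/-!
helper62: splitting an integer vector of length `n + 1` into its head and tail (used by the
TH-STEPSP / TH-STEPSD pieces of helper34's project S1632).
-/

set_option autoImplicit false

namespace Cfsg.Agent.H62.Th

/-- head and tail of an integer vector. -/
def splitEquiv (n : ℕ) : (Fin (n + 1) → ℤ) ≃ ℤ × (Fin n → ℤ) where
  toFun y := (y 0, fun j => y j.succ)
  invFun r := Fin.cons r.1 r.2
  left_inv y := by
    funext i
    refine Fin.cases ?_ (fun j => ?_) i
    · simp
    · simp
  right_inv r := by
    simp

theorem splitEquiv_apply (n : ℕ) (y : Fin (n + 1) → ℤ) :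
    splitEquiv n y = (y 0, fun j => y j.succ) := rfl

end Cfsg.Agent.H62.Th
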