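import Mathlib
import Cfsg.Agent.H34.ThDefs
import Cfsg.Agent.H62.ThSplit

/-!
helper62: piece TH-STEPSD of helper34's project S1632.  Dual summability (with uniform bound) is
preserved by the step `qD`.
-/

set_option autoImplicit false
set_option linter.style.haveILetI false
set_option linter.unusedVariables false
set_option linter.unusedSimpArgs false

namespace Cfsg.Agent.H62.Th

open Real Matrix Cfsg.Agent.H34.Th

theorem stepSD (h : St1UB) : StStepSD := by
  intro n q' hq' a ha l t ht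
  obtain ⟨Mn, hMn⟩ := hq' t ht
  have hat : 0 < 1 / (a * t) := by positivity
  obtain ⟨M1, hM1⟩ := h (1 / (a * t)) hat
  refine ⟨M1 * Mn, fun p => ?_⟩
  have hMn0 : 0 ≤ Mn := le_trans (tsum_nonneg (fun y => (Real.exp_pos _).le)) (hMn 0).2
  obtain ⟨p'', hp''⟩ : ∃ p'' : ℤ → Fin n → ℝ,
      p'' = fun (m : ℤ) (j : Fin n) => p j.succ + ((m : ℝ) - p 0) * l j := ⟨_, rfl⟩
  obtain ⟨g, hg⟩ : ∃ g : ℤ × (Fin n → ℤ) → ℝ, g = fun r =>
      Real.exp (-π * (1 / (a * t)) * ((r.1 : ℝ) + (-p 0)) ^ 2) *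
        Real.exp (-π * q' (cst r.2 - p'' r.1) / t) := ⟨_, rfl⟩
  have hgdef : ∀ (m : ℤ) (y' : Fin n → ℤ), g (m, y') =
      Real.exp (-π * (1 / (a * t)) * ((m : ℝ) + (-p 0)) ^ 2) *
        Real.exp (-π * q' (cst y' - p'' m) / t) := by
    intro m y'
    rw [hg]
  have hgnn : 0 ≤ g := by
    rintro ⟨m, y'⟩
    rw [hgdef]
    exact mul_nonneg (Real.exp_pos _).le (Real.exp_pos _).le
  have hfun1 : ∀ m : ℤ, (fun y' => g (m, y')) = fun y' : Fin n → ℤ =>
      Real.exp (-π * (1 / (a * t)) * ((m : ℝ) + (-p 0)) ^ 2) *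
        Real.exp (-π * q' (cst y' - p'' m) / t) := fun m => funext (fun y' => hgdef m y')
  have hinner : ∀ m : ℤ, Summable (fun y' => g (m, y')) := by
    intro m
    rw [hfun1]
    exact ((hMn (p'' m)).1).mul_left _
  have hle : ∀ m : ℤ, ∑' y', g (m, y') ≤
      Real.exp (-π * (1 / (a * t)) * ((m : ℝ) + (-p 0)) ^ 2) * Mn := by
    intro m
    rw [hfun1, tsum_mul_left]
    exact mul_le_mul_of_nonneg_left (hMn (p'' m)).2 (Real.exp_pos _).le
  have houter : Summable (fun m : ℤ => ∑' y', g (m, y')) :=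
    Summable.of_nonneg_of_le (fun m => tsum_nonneg (fun y' => hgnn (m, y'))) hle
      ((hM1 (-p 0)).1.mul_right Mn)
  have hgsum : Summable g := (summable_prod_of_nonneg hgnn).mpr ⟨hinner, houter⟩
  have hgtsum : ∑' r, g r ≤ M1 * Mn := by
    rw [hgsum.tsum_prod' hinner]
    calc ∑' m, ∑' y', g (m, y')
        ≤ ∑' m : ℤ, Real.exp (-π * (1 / (a * t)) * ((m : ℝ) + (-p 0)) ^ 2) * Mn :=
          houter.tsum_le_tsum hle ((hM1 (-p 0)).1.mul_right Mn)
      _ = (∑' m : ℤ, Real.exp (-π * (1 / (a * t)) * ((m : ℝ) + (-p 0)) ^ 2)) * Mn :=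
          tsum_mul_right
      _ ≤ M1 * Mn := mul_le_mul_of_nonneg_right (hM1 (-p 0)).2 hMn0
  obtain ⟨e, he⟩ : ∃ e : (Fin (n + 1) → ℤ) ≃ ℤ × (Fin n → ℤ),
      ∀ y, e y = (y 0, fun j => y j.succ) := ⟨splitEquiv n, fun y => rfl⟩
  have hcomp : (fun y : Fin (n + 1) → ℤ => Real.exp (-π * qD a l q' (cst y - p) / t)) =
      g ∘ e := by
    funext y
    rw [Function.comp_apply, he, hgdef, ← Real.exp_add]
    congr 1
    unfold qD
    rw [hp'']
    have hfun : (fun j : Fin n => (cst y - p) j.succ - (cst y - p) 0 * l j) =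
        cst (fun j => y j.succ) - fun j => p j.succ + ((y 0 : ℝ) - p 0) * l j := by
      funext j
      simp only [cst, Pi.sub_apply]
      ring
    rw [hfun]
    simp only [cst, Pi.sub_apply]
    field_simp
    ring
  rw [hcomp]
  refine ⟨(e.summable_iff).mpr hgsum, ?_⟩
  show ∑' y, g (e y) ≤ M1 * Mn
  rw [e.tsum_eq g]
  exact hgtsum

example (h : St1UB) : StStepSD := stepSD h

end Cfsg.Agent.H62.Th
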