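import Mathlib
import Cfsg.Agent.H34.ThDefs
import Cfsg.Agent.H62.ThSplit

/-!
helper62: piece TH-STEPSP of helper34's project S1632.  Primal summability is preserved by the
step `qS`.
-/

set_option autoImplicit false
set_option linter.style.haveILetI false
set_option linter.unusedVariables false
set_option linter.unusedSimpArgs false

namespace Cfsg.Agent.H62.Th

open Real Matrix Cfsg.Agent.H34.Th

theorem stepSP (h : St1UB) : StStepSP := by
  intro n q hq a ha l t ht
  obtain ⟨M, hM⟩ := h (t * a) (mul_pos ht ha)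
  have hqt := hq t ht
  obtain ⟨s, hs⟩ : ∃ s : (Fin n → ℤ) → ℝ, s = fun x' => ∑ j, l j * (x' j : ℝ) := ⟨_, rfl⟩
  obtain ⟨g, hg⟩ : ∃ g : (Fin n → ℤ) × ℤ → ℝ, g = fun p =>
      Real.exp (-π * (t * a) * ((p.2 : ℝ) + s p.1) ^ 2) * Real.exp (-π * t * q (cst p.1)) :=
    ⟨_, rfl⟩
  have hgdef : ∀ (x' : Fin n → ℤ) (k : ℤ), g (x', k) =
      Real.exp (-π * (t * a) * ((k : ℝ) + s x') ^ 2) * Real.exp (-π * t * q (cst x')) := by
    intro x' k
    rw [hg]
  have hgnn : 0 ≤ g := by
    rintro ⟨x', k⟩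
    rw [hgdef]
    exact mul_nonneg (Real.exp_pos _).le (Real.exp_pos _).le
  have hgsum : Summable g := by
    rw [summable_prod_of_nonneg hgnn]
    constructor
    · intro x'
      have h1 : (fun k => g (x', k)) = fun k : ℤ =>
          Real.exp (-π * (t * a) * ((k : ℝ) + s x') ^ 2) * Real.exp (-π * t * q (cst x')) :=
        funext (fun k => hgdef x' k)
      rw [h1]
      exact ((hM (s x')).1).mul_right _
    · have hle : ∀ x', ∑' k, g (x', k) ≤ M * Real.exp (-π * t * q (cst x')) := by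
        intro x'
        have h1 : (fun k => g (x', k)) = fun k : ℤ =>
            Real.exp (-π * (t * a) * ((k : ℝ) + s x') ^ 2) * Real.exp (-π * t * q (cst x')) :=
          funext (fun k => hgdef x' k)
        rw [h1, tsum_mul_right]
        exact mul_le_mul_of_nonneg_right (hM (s x')).2 (Real.exp_pos _).le
      exact Summable.of_nonneg_of_le (fun x' => tsum_nonneg (fun k => hgnn (x', k))) hle
        (hqt.mul_left M)
  obtain ⟨e, he⟩ : ∃ e : (Fin (n + 1) → ℤ) ≃ (Fin n → ℤ) × ℤ,
      ∀ x, e x = (fun j => x j.succ, x 0) :=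
    ⟨(splitEquiv n).trans (Equiv.prodComm _ _), fun x => rfl⟩
  have hcomp : (fun x : Fin (n + 1) → ℤ => Real.exp (-π * t * qS a l q (cst x))) = g ∘ e := by
    funext x
    rw [Function.comp_apply, he, hgdef, ← Real.exp_add, hs]
    congr 1
    show -π * t * (a * (((x 0 : ℤ) : ℝ) + ∑ j : Fin n, l j * ((x j.succ : ℤ) : ℝ)) ^ 2 +
        q (cst fun j => x j.succ)) =
      -π * (t * a) * (((x 0 : ℤ) : ℝ) + ∑ j : Fin n, l j * ((x j.succ : ℤ) : ℝ)) ^ 2 +
        -π * t * q (cst fun j => x j.succ)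
    ring
  rw [hcomp]
  exact (e.summable_iff).mpr hgsum

example (h : St1UB) : StStepSP := stepSP h

end Cfsg.Agent.H62.Th
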