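import Mathlib
import Cfsg.Agent.H64.TtDefs

/-!
# TT-C4 (helper62, for helper64, S3385): `[x_0, x_λ] ∈ X[k-λ, 2λ-k]` if `λ ≤ k-1`.
-/

set_option autoImplicit false
set_option linter.unusedVariables false

namespace Cfsg.Agent.H62.Tt

open Cfsg.Agent.H64.Tt

universe u

/-- an element commuting with the generators of a window commutes with the window -/
theorem comm_X {G : Type u} [Group G] (x : ℤ → G) (y : G) (a b : ℤ)
    (h : ∀ i, a ≤ i → i ≤ b → y * x i = x i * y) : ∀ z ∈ X x a b, y * z = z * y := by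
  have hle : X x a b ≤ Subgroup.centralizer {y} := by
    rw [X_le_iff]
    intro i h1 h2
    rw [Subgroup.mem_centralizer_iff]
    intro w hw
    rw [Set.mem_singleton_iff.mp hw]
    exact h i h1 h2
  intro z hz
  exact Subgroup.mem_centralizer_iff.mp (hle hz) y (Set.mem_singleton y)

/-- two windows at distance `< l` commute elementwise -/
theorem comm_XX {G : Type u} [Group G] (x : ℤ → G) (l : ℕ)
    (hcm : ∀ i j : ℤ, |i - j| < l → x i * x j = x j * x i) (a b a' b' : ℤ)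
    (h1 : b - a' < l) (h2 : b' - a < l) : ∀ e ∈ X x a b, ∀ c ∈ X x a' b', e * c = c * e := by
  intro e he
  apply comm_X
  intro i' hi1 hi2
  have h3 := comm_X x (x i') a b
    (fun i hi3 hi4 => hcm i' i (by rw [abs_lt]; constructor <;> omega)) e he
  exact h3.symm

theorem conj_comm_aux1 {G : Type u} [Group G] (y x0 xl e c : G)
    (hc : c = x0 * xl * x0⁻¹ * xl⁻¹) (hy0 : y * x0 = x0 * y)
    (he : e = y * xl * y⁻¹ * xl⁻¹) (hx0e : x0 * e = e * x0) (hec : e * c = c * e) :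
    y * c = c * y := by
  have h1 : y * c * y⁻¹ = (y * x0 * y⁻¹) * (y * xl * y⁻¹) * (y * x0 * y⁻¹)⁻¹ *
      (y * xl * y⁻¹)⁻¹ := by
    rw [hc]
    group
  have h2 : y * x0 * y⁻¹ = x0 := by
    rw [hy0]
    group
  have h3 : y * xl * y⁻¹ = e * xl := by
    rw [he]
    group
  rw [h2, h3] at h1
  have h4 : x0 * (e * xl) * x0⁻¹ * (e * xl)⁻¹ = (x0 * e) * xl * x0⁻¹ * xl⁻¹ * e⁻¹ := by group
  rw [h4, hx0e] at h1
  have h5 : e * x0 * xl * x0⁻¹ * xl⁻¹ * e⁻¹ = e * (x0 * xl * x0⁻¹ * xl⁻¹) * e⁻¹ := by group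
  rw [h5, ← hc, hec, mul_inv_cancel_right] at h1
  exact mul_inv_eq_iff_eq_mul.mp h1

theorem conj_comm_aux2 {G : Type u} [Group G] (y2 x0 xl e2 c : G)
    (hc : c = x0 * xl * x0⁻¹ * xl⁻¹) (hy2l : y2 * xl = xl * y2)
    (he2 : e2 = x0 * y2 * x0⁻¹ * y2⁻¹) (he2l : e2 * xl = xl * e2) (he2c : e2 * c = c * e2) :
    y2 * c = c * y2 := by
  have h1 : y2 * c * y2⁻¹ = (y2 * x0 * y2⁻¹) * (y2 * xl * y2⁻¹) * (y2 * x0 * y2⁻¹)⁻¹ *
      (y2 * xl * y2⁻¹)⁻¹ := by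
    rw [hc]
    group
  have h2 : y2 * xl * y2⁻¹ = xl := by
    rw [hy2l]
    group
  have h3 : y2 * x0 * y2⁻¹ = e2⁻¹ * x0 := by
    rw [he2]
    group
  rw [h2, h3] at h1
  have hcomm' : e2 * xl⁻¹ = xl⁻¹ * e2 := (Commute.inv_right (show Commute e2 xl from he2l)).eq
  have h4 : e2⁻¹ * x0 * xl * (e2⁻¹ * x0)⁻¹ * xl⁻¹ = e2⁻¹ * x0 * xl * x0⁻¹ * (e2 * xl⁻¹) := by
    group
  rw [h4, hcomm'] at h1
  have h5 : e2⁻¹ * x0 * xl * x0⁻¹ * (xl⁻¹ * e2) = e2⁻¹ * ((x0 * xl * x0⁻¹ * xl⁻¹) * e2) := by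
    group
  rw [h5, ← hc, ← he2c, inv_mul_cancel_left] at h1
  exact mul_inv_eq_iff_eq_mul.mp h1

/-- the inductive step of C4 -/
theorem c4_step {G : Type u} [Group G] [Finite G] (x : ℤ → G) (g : G) (k l : ℕ)
    (T : TData x g k)
    (hc1 : ∀ a b : ℤ, a < b → b - a + 1 ≤ k →
      x a * x b * (x a)⁻¹ * (x b)⁻¹ ∈ X x (a + 1) (b - 1))
    (hsplit : ∀ a b : ℤ, a ≤ b → b - a + 1 ≤ k → ∀ c ∈ X x a b,
      (c ∈ X x a (b - 1) ∨ c * x b ∈ X x a (b - 1)) ∧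
        (c ∈ X x (a + 1) b ∨ x a * c ∈ X x (a + 1) b))
    (hcm : ∀ i j : ℤ, |i - j| < l → x i * x j = x j * x i)
    (hnc : ∀ i : ℤ, x i * x (i + l) ≠ x (i + l) * x i)
    (c : G) (hc : c = x 0 * x l * (x 0)⁻¹ * (x l)⁻¹) (hne : c ≠ 1)
    (J : ℤ) (hJ1 : 1 ≤ J) (hJk : J ≤ (k : ℤ) - l - 1) (hJl : J ≤ (l : ℤ) - 1)
    (IH : c ∈ X x J ((l : ℤ) - J)) : c ∈ X x (J + 1) ((l : ℤ) - J - 1) := by
  have h_le : J ≤ (l : ℤ) - J := by
    by_contra h
    rw [X_empty x (not_le.mp h)] at IH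
    exact hne (Subgroup.mem_bot.mp IH)
  -- (i)
  have hy0 : x (-J) * x 0 = x 0 * x (-J) :=
    hcm (-J) 0 (by rw [abs_lt]; constructor <;> omega)
  have he : x (-J) * x l * (x (-J))⁻¹ * (x l)⁻¹ ∈ X x (-J + 1) ((l : ℤ) - 1) :=
    hc1 (-J) l (by omega) (by omega)
  have hx0e : ∀ e ∈ X x (-J + 1) ((l : ℤ) - 1), x 0 * e = e * x 0 :=
    comm_X x (x 0) _ _ (fun i h1 h2 => hcm 0 i (by rw [abs_lt]; constructor <;> omega))
  have hec : ∀ e ∈ X x (-J + 1) ((l : ℤ) - 1), e * c = c * e := fun e he' =>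
    comm_XX x l hcm _ _ _ _ (by omega) (by omega) e he' c IH
  have hyc : x (-J) * c = c * x (-J) :=
    conj_comm_aux1 (x (-J)) (x 0) (x l) _ c hc hy0 rfl (hx0e _ he) (hec _ he)
  -- (ii)
  have hyX : ∀ z ∈ X x J ((l : ℤ) - J - 1), x (-J) * z = z * x (-J) :=
    comm_X x (x (-J)) _ _ (fun i h1 h2 => hcm (-J) i (by rw [abs_lt]; constructor <;> omega))
  have hc2 : c ∈ X x J ((l : ℤ) - J - 1) := by
    rcases (hsplit J ((l : ℤ) - J) h_le (by omega) c IH).1 with h | h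
    · exact h
    · exfalso
      have h1 := hyX _ h
      have h2 : c * (x (-J) * x ((l : ℤ) - J)) = c * (x ((l : ℤ) - J) * x (-J)) :=
        calc c * (x (-J) * x ((l : ℤ) - J)) = (c * x (-J)) * x ((l : ℤ) - J) :=
              (mul_assoc _ _ _).symm
          _ = (x (-J) * c) * x ((l : ℤ) - J) := by rw [hyc]
          _ = x (-J) * (c * x ((l : ℤ) - J)) := mul_assoc _ _ _
          _ = c * x ((l : ℤ) - J) * x (-J) := h1
          _ = c * (x ((l : ℤ) - J) * x (-J)) := mul_assoc _ _ _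
      have h3 := hnc (-J)
      have hidx : -J + (l : ℤ) = (l : ℤ) - J := by ring
      rw [hidx] at h3
      exact h3 (mul_left_cancel h2)
  -- (iii)
  have h_le' : J ≤ (l : ℤ) - J - 1 := by
    by_contra h
    rw [X_empty x (not_le.mp h)] at hc2
    exact hne (Subgroup.mem_bot.mp hc2)
  have hy2l : x ((l : ℤ) + J) * x l = x l * x ((l : ℤ) + J) :=
    hcm ((l : ℤ) + J) l (by rw [abs_lt]; constructor <;> omega)
  have he2 : x 0 * x ((l : ℤ) + J) * (x 0)⁻¹ * (x ((l : ℤ) + J))⁻¹ ∈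
      X x (0 + 1) ((l : ℤ) + J - 1) :=
    hc1 0 ((l : ℤ) + J) (by omega) (by omega)
  have he2l : ∀ e ∈ X x (0 + 1) ((l : ℤ) + J - 1), e * x l = x l * e := fun e he' =>
    (comm_X x (x l) _ _ (fun i h1 h2 => hcm l i (by rw [abs_lt]; constructor <;> omega))
      e he').symm
  have he2c : ∀ e ∈ X x (0 + 1) ((l : ℤ) + J - 1), e * c = c * e := fun e he' =>
    comm_XX x l hcm _ _ _ _ (by omega) (by omega) e he' c IH
  have hy2c : x ((l : ℤ) + J) * c = c * x ((l : ℤ) + J) :=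
    conj_comm_aux2 (x ((l : ℤ) + J)) (x 0) (x l) _ c hc hy2l rfl (he2l _ he2) (he2c _ he2)
  have hy2X : ∀ z ∈ X x (J + 1) ((l : ℤ) - J - 1),
      x ((l : ℤ) + J) * z = z * x ((l : ℤ) + J) :=
    comm_X x (x ((l : ℤ) + J)) _ _
      (fun i h1 h2 => hcm ((l : ℤ) + J) i (by rw [abs_lt]; constructor <;> omega))
  rcases (hsplit J ((l : ℤ) - J - 1) h_le' (by omega) c hc2).2 with h | h
  · exact h
  · exfalso
    have h1 := hy2X _ h
    have h2 : (x ((l : ℤ) + J) * x J) * c = (x J * x ((l : ℤ) + J)) * c :=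
      calc (x ((l : ℤ) + J) * x J) * c = x ((l : ℤ) + J) * (x J * c) := mul_assoc _ _ _
        _ = x J * c * x ((l : ℤ) + J) := h1
        _ = x J * (c * x ((l : ℤ) + J)) := mul_assoc _ _ _
        _ = x J * (x ((l : ℤ) + J) * c) := by rw [hy2c]
        _ = (x J * x ((l : ℤ) + J)) * c := (mul_assoc _ _ _).symm
    have h3 := hnc J
    have hidx : J + (l : ℤ) = (l : ℤ) + J := by ring
    rw [hidx] at h3
    exact h3 (mul_right_cancel h2).symm

/-- **TT-C4**. -/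
theorem c4 (hcard : CardStmt.{u}) (hc1 : C1Stmt.{u}) (hsplit : SplitStmt.{u})
    (hcomm : CommStmt.{u}) : C4Stmt.{u} := by
  intro G _ _ x g k l T L hlk
  obtain ⟨hcm, hnc⟩ := hcomm x g k l T L
  have hl1 : 1 ≤ l := L.1
  obtain ⟨c, hc⟩ : ∃ c : G, c = x 0 * x l * (x 0)⁻¹ * (x l)⁻¹ := ⟨_, rfl⟩
  rw [← hc]
  have hne : c ≠ 1 := by
    intro h
    have h0 := hnc 0
    rw [zero_add] at h0
    apply h0
    rw [hc] at h
    exact mul_inv_eq_iff_eq_mul.mp (mul_inv_eq_one.mp h)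
  have P : ∀ j : ℕ, (j : ℤ) ≤ (k : ℤ) - l - 1 → (j : ℤ) ≤ (l : ℤ) - 1 →
      c ∈ X x ((j : ℤ) + 1) ((l : ℤ) - j - 1) := by
    intro j
    induction j with
    | zero =>
      intro _ _
      have h := hc1 x g k T 0 l (by omega) (by omega)
      rw [← hc] at h
      simpa using h
    | succ j ih =>
      intro h1 h2
      have e : ((j + 1 : ℕ) : ℤ) = (j : ℤ) + 1 := by push_cast; rfl
      rw [e] at h1 h2 ⊢
      have ih' := ih (by omega) (by omega)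
      rw [sub_sub] at ih'
      exact c4_step x g k l T (hc1 x g k T) (hsplit x g k T) hcm hnc c hc hne ((j : ℤ) + 1)
        (by omega) h1 h2 ih'
  by_cases h : (l : ℤ) - 1 < (k : ℤ) - l - 1
  · exfalso
    obtain ⟨j, hj⟩ : ∃ j : ℕ, (j : ℤ) = (l : ℤ) - 1 :=
      ⟨((l : ℤ) - 1).toNat, Int.toNat_of_nonneg (by omega)⟩
    have h3 := P j (by omega) (by omega)
    rw [X_empty x (by omega)] at h3
    exact hne (Subgroup.mem_bot.mp h3)
  · obtain ⟨j, hj⟩ : ∃ j : ℕ, (j : ℤ) = (k : ℤ) - l - 1 :=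
      ⟨((k : ℤ) - l - 1).toNat, Int.toNat_of_nonneg (by omega)⟩
    have h3 := P j (by omega) (by omega)
    rw [hj] at h3
    have e1 : (k : ℤ) - l - 1 + 1 = (k : ℤ) - l := by ring
    have e2 : (l : ℤ) - ((k : ℤ) - l - 1) - 1 = 2 * (l : ℤ) - k := by ring
    rw [e1, e2] at h3
    exact h3

end Cfsg.Agent.H62.Tt
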