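import Mathlib
import Cfsg.Agent.H64.TtDefs

/-!
# TT-CARD (helper62, for helper64, S3385): `|X[a,b]| = 2^(b-a+1)` for windows of length `≤ k`.
-/

set_option autoImplicit false

namespace Cfsg.Agent.H62.Tt

open Cfsg.Agent.H64.Tt

universe u

/-- the shift by any integer power of `g` -/
theorem shift_zpow {G : Type u} [Group G] {x : ℤ → G} {g : G}
    (hs : ∀ i : ℤ, g * x i * g⁻¹ = x (i + 1)) (i : ℤ) :
    ∀ j : ℤ, g ^ i * x j * (g ^ i)⁻¹ = x (j + i) := by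
  induction i using Int.induction_on with
  | zero => intro j; simp
  | succ n ih =>
    intro j
    have h1 : g ^ ((n : ℤ) + 1) = g * g ^ (n : ℤ) := by rw [add_comm, zpow_add, zpow_one]
    rw [h1, mul_inv_rev]
    have h2 : g * g ^ (n : ℤ) * x j * ((g ^ (n : ℤ))⁻¹ * g⁻¹) =
        g * (g ^ (n : ℤ) * x j * (g ^ (n : ℤ))⁻¹) * g⁻¹ := by group
    rw [h2, ih j, hs, add_assoc]
  | pred n ih =>
    intro j
    have h1 : g ^ (-(n : ℤ) - 1) = g⁻¹ * g ^ (-(n : ℤ)) := by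
      rw [sub_eq_add_neg, add_comm, zpow_add, zpow_neg_one]
    rw [h1, mul_inv_rev, inv_inv]
    have h2 : g⁻¹ * g ^ (-(n : ℤ)) * x j * ((g ^ (-(n : ℤ)))⁻¹ * g) =
        g⁻¹ * (g ^ (-(n : ℤ)) * x j * (g ^ (-(n : ℤ)))⁻¹) * g := by group
    rw [h2, ih j]
    have h3 := hs (j + (-(n : ℤ) - 1))
    have h4 : j + (-(n : ℤ) - 1) + 1 = j + -(n : ℤ) := by ring
    rw [h4] at h3
    rw [← h3]
    group

/-- windows are conjugate -/
theorem X_shift {G : Type u} [Group G] {x : ℤ → G} {g : G}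
    (hs : ∀ i : ℤ, g * x i * g⁻¹ = x (i + 1)) (a b i : ℤ) :
    X x (a + i) (b + i) = (X x a b).map (MulAut.conj (g ^ i)).toMonoidHom := by
  unfold X
  rw [MonoidHom.map_closure]
  congr 1
  ext y
  constructor
  · rintro ⟨j, ⟨h1, h2⟩, rfl⟩
    refine ⟨x (j - i), ⟨j - i, ⟨by omega, by omega⟩, rfl⟩, ?_⟩
    show g ^ i * x (j - i) * (g ^ i)⁻¹ = x j
    rw [shift_zpow hs i (j - i), sub_add_cancel]
  · rintro ⟨_, ⟨j, ⟨h1, h2⟩, rfl⟩, rfl⟩
    refine ⟨j + i, ⟨by omega, by omega⟩, ?_⟩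
    show x (j + i) = g ^ i * x j * (g ^ i)⁻¹
    rw [shift_zpow hs i j]

/-- **TT-CARD**. -/
theorem card : CardStmt.{u} := by
  intro G _ _ x g k T a b hab hk
  have h1 := X_shift T.shift 0 (b - a) a
  rw [zero_add, sub_add_cancel] at h1
  rw [h1]
  have hinj : Function.Injective (MulAut.conj (g ^ a)).toMonoidHom :=
    (MulAut.conj (g ^ a)).injective
  rw [Nat.card_congr ((X x 0 (b - a)).equivMapOfInjective _ hinj).symm.toEquiv]
  have h2 := T.card (b - a + 1).toNat (by omega) (by omega)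
  have h3 : (((b - a + 1).toNat : ℕ) : ℤ) - 1 = b - a := by omega
  rw [h3] at h2
  exact h2

end Cfsg.Agent.H62.Tt
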