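import Mathlib
import Cfsg.Agent.H64.TtDefs2
import Cfsg.Agent.H7.S4Gen
import Cfsg.Agent.H62.TtC4
import Cfsg.Agent.H62.TtIso3

/-!
# TT-ISO4 (helper62, for helper64, S3685): `k = 4`, `X[0,4] ≅ S₄ × C₂`.
-/

set_option autoImplicit false
set_option linter.unusedVariables false
set_option linter.unusedSimpArgs false

namespace Cfsg.Agent.H62.Tt

open Cfsg.Agent.H64.Tt

universe u

/-- a central element of `S₄` is trivial -/
theorem perm4_central (z : Equiv.Perm (Fin 4)) (hz : ∀ w : Equiv.Perm (Fin 4), w * z = z * w) :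
    z = 1 := by
  refine Equiv.ext fun i => ?_
  show z i = i
  by_contra hne
  have h3 : ∀ a b : Fin 4, ∃ k : Fin 4, k ≠ a ∧ k ≠ b := by decide
  obtain ⟨k, hk1, hk2⟩ := h3 i (z i)
  have h := DFunLike.congr_fun (hz (Equiv.swap (z i) k)) i
  simp only [Equiv.Perm.mul_apply] at h
  rw [Equiv.swap_apply_left, Equiv.swap_apply_of_ne_of_ne (Ne.symm hne) (Ne.symm hk1)] at h
  exact hk2 h

theorem shift_comm {G : Type u} [Group G] {x : ℤ → G} {g : G} {k : ℕ} (T : TData x g k)
    {i j : ℤ} (h : x i * x j = x j * x i) :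
    x (i + 1) * x (j + 1) = x (j + 1) * x (i + 1) := by
  rw [← T.shift i, ← T.shift j]
  have e1 : g * x i * g⁻¹ * (g * x j * g⁻¹) = g * (x i * x j) * g⁻¹ := by group
  have e2 : g * x j * g⁻¹ * (g * x i * g⁻¹) = g * (x j * x i) * g⁻¹ := by group
  rw [e1, e2, h]

theorem shift_rel4 {G : Type u} [Group G] {x : ℤ → G} {g : G} {k : ℕ} (T : TData x g k)
    {i j m l : ℤ} (h : x i * x j * x i * x j = x m * x l) :
    x (i + 1) * x (j + 1) * x (i + 1) * x (j + 1) = x (m + 1) * x (l + 1) := by
  rw [← T.shift i, ← T.shift j, ← T.shift m, ← T.shift l]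
  have e1 : g * x i * g⁻¹ * (g * x j * g⁻¹) * (g * x i * g⁻¹) * (g * x j * g⁻¹) =
      g * (x i * x j * x i * x j) * g⁻¹ := by group
  have e2 : g * x m * g⁻¹ * (g * x l * g⁻¹) = g * (x m * x l) * g⁻¹ := by group
  rw [e1, e2, h]

/-- the abstract form: five involutions with the relations of `k = 4` -/
theorem s4_of_rel4 {G : Type u} [Group G] [Finite G] (a b c d f y : G)
    (ha2 : a * a = 1) (hb2 : b * b = 1) (hc2 : c * c = 1) (hd2 : d * d = 1) (hf2 : f * f = 1)
    (hab : a * b = b * a) (hac : a * c = c * a) (hbc : b * c = c * b) (hbd : b * d = d * b)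
    (hcd : c * d = d * c) (hcf : c * f = f * c) (hdf : d * f = f * d)
    (h1 : a * d * a * d = b * c) (h2 : b * f * b * f = c * d)
    (hy : y = f ∨ y = f * c) (hbr : y * a * y = a * y * a) (hbc1 : b * c ≠ 1) :
    Nonempty (↥(Subgroup.closure ({a, y, a * b * c} : Set G)) ≃* Equiv.Perm (Fin 4)) := by
  have sw : ∀ p q : G, q * p = p * q → ∀ w, q * (p * w) = p * (q * w) := fun p q h w => by
    rw [← mul_assoc, h, mul_assoc]
  have cn : ∀ p : G, p * p = 1 → ∀ w, p * (p * w) = w := fun p h w => by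
    rw [← mul_assoc, h, one_mul]
  have hda : d * a = a * (b * (c * d)) :=
    calc d * a = a * (a * d * a * d) * d := by
          simp only [mul_assoc, cn a ha2, hd2, mul_one]
      _ = a * (b * c) * d := by rw [h1]
      _ = a * (b * (c * d)) := by simp only [mul_assoc]
  have hda' : ∀ w, d * (a * w) = a * (b * (c * (d * w))) := fun w => by
    rw [← mul_assoc, hda]
    simp only [mul_assoc]
  have hfb : f * b = b * (c * (d * f)) :=
    calc f * b = b * (b * f * b * f) * f := by
          simp only [mul_assoc, cn b hb2, hf2, mul_one]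
      _ = b * (c * d) * f := by rw [h2]
      _ = b * (c * (d * f)) := by simp only [mul_assoc]
  have hfb' : ∀ w, f * (b * w) = b * (c * (d * (f * w))) := fun w => by
    rw [← mul_assoc, hfb]
    simp only [mul_assoc]
  have hy2 : y * y = 1 := by
    rcases hy with h | h
    · rw [h]
      exact hf2
    · rw [h]
      simp only [mul_assoc, hcf.symm, sw c f hcf.symm, hf2, cn f hf2, hc2, cn c hc2, mul_one]
  have r7 : y * (b * c) * y = b * d := by
    rcases hy with h | h
    · rw [h]
      simp only [mul_assoc, hfb, hfb', hcf.symm, sw c f hcf.symm, hdf.symm, sw d f hdf.symm, hf2,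
        cn f hf2, hcd.symm, sw c d hcd.symm, hbc.symm, sw b c hbc.symm, hc2, cn c hc2, mul_one]
    · rw [h]
      simp only [mul_assoc, hfb, hfb', hcf.symm, sw c f hcf.symm, hdf.symm, sw d f hdf.symm, hf2,
        cn f hf2, hcd.symm, sw c d hcd.symm, hbc.symm, sw b c hbc.symm, hc2, cn c hc2, mul_one]
  refine Cfsg.Agent.H7.closure_equiv_S4 a (a * b * c) y (b * c) (b * d) (c * d) ha2 ?_ hy2 ?_ ?_ ?_
    r7 ?_ ?_ ?_ hbr hbc1
  · simp only [mul_assoc, hab.symm, sw a b hab.symm, hac.symm, sw a c hac.symm, hbc.symm,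
      sw b c hbc.symm, ha2, cn a ha2, hb2, cn b hb2, hc2, cn c hc2, mul_one]
  · simp only [mul_assoc, hcd.symm, sw c d hcd.symm, hc2, cn c hc2, hd2, cn d hd2, mul_one]
  · simp only [mul_assoc, cn a ha2]
  · simp only [mul_assoc, hab.symm, sw a b hab.symm, hac.symm, sw a c hac.symm, hbc.symm,
      sw b c hbc.symm, ha2, cn a ha2, hb2, cn b hb2, hc2, cn c hc2, mul_one]
  · simp only [mul_assoc, hda, hda', hab.symm, sw a b hab.symm, hac.symm, sw a c hac.symm,
      hbc.symm, sw b c hbc.symm, hbd.symm, sw b d hbd.symm, hcd.symm, sw c d hcd.symm,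
      ha2, cn a ha2, hb2, cn b hb2, hc2, cn c hc2, hd2, cn d hd2, mul_one]
  · simp only [mul_assoc, hbc.symm, sw b c hbc.symm, hbd.symm, sw b d hbd.symm, hcd.symm,
      sw c d hcd.symm, hb2, cn b hb2, hc2, cn c hc2, hd2, cn d hd2, mul_one]
  · simp only [mul_assoc, hda, hda', hab.symm, sw a b hab.symm, hac.symm, sw a c hac.symm,
      hbc.symm, sw b c hbc.symm, hbd.symm, sw b d hbd.symm, hcd.symm, sw c d hcd.symm,
      ha2, cn a ha2, hb2, cn b hb2, hc2, cn c hc2, hd2, cn d hd2, mul_one]

/-- **TT-ISO4**. -/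
theorem iso4 (hK4 : K4Stmt.{u}) (hRec : RecS4C2Stmt.{u}) : Iso4Stmt.{u} := by
  intro G _ _ x g T hcard
  obtain ⟨ha, hb, hc, y, hy, hbr⟩ := hK4 x g T hcard
  have h12 : x 1 * x 2 = x 2 * x 1 := by
    have h := shift_comm T ha
    norm_num at h
    exact h
  have h23 : x 2 * x 3 = x 3 * x 2 := by
    have h := shift_comm T h12
    norm_num at h
    exact h
  have h34 : x 3 * x 4 = x 4 * x 3 := by
    have h := shift_comm T h23
    norm_num at h
    exact h
  have h13 : x 1 * x 3 = x 3 * x 1 := by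
    have h := shift_comm T hb
    norm_num at h
    exact h
  have h24 : x 2 * x 4 = x 4 * x 2 := by
    have h := shift_comm T h13
    norm_num at h
    exact h
  have hc1 : x 1 * x 4 * x 1 * x 4 = x 2 * x 3 := by
    have h := shift_rel4 T hc
    norm_num at h
    exact h
  have s0 : g * x 0 * g⁻¹ = x 1 := by
    have h := T.shift 0
    rwa [zero_add] at h
  have s1 : g * x 1 * g⁻¹ = x 2 := by
    have h := T.shift 1
    rwa [show (1 : ℤ) + 1 = 2 from rfl] at h
  have h12ne : x 1 * x 2 ≠ 1 := by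
    intro h
    have e21 : x 2 = x 1 := by
      have h3 : x 1 * x 2 = x 1 * x 1 := by rw [h, T.inv 1]
      exact mul_left_cancel h3
    have e10 : x 1 = x 0 :=
      mul_left_cancel (mul_right_cancel (s1.trans (e21.trans s0.symm)))
    have hle : X x 0 (((2 : ℕ) : ℤ) - 1) ≤ Subgroup.zpowers (x 0) := by
      rw [X_le_iff]
      intro i hi1 hi2
      have hi : i = 0 ∨ i = 1 := by omega
      rcases hi with rfl | rfl
      · exact Subgroup.mem_zpowers _
      · rw [e10]
        exact Subgroup.mem_zpowers _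
    have h5 := Subgroup.card_le_of_le hle
    rw [T.card 2 (by norm_num) (by norm_num), Nat.card_zpowers] at h5
    have h6 : orderOf (x 0) ≤ 2 :=
      orderOf_le_of_pow_eq_one (by norm_num) (by rw [pow_two]; exact T.inv 0)
    norm_num at h5
    omega
  have hx2 : x 2 ≠ 1 := by
    intro h
    have h4 := s1
    rw [h] at h4
    have h5 : x 1 = 1 := conj_eq_one_iff.mp h4
    have h3 := s0
    rw [h5] at h3
    exact x0_ne_one T (by norm_num) (conj_eq_one_iff.mp h3)
  obtain ⟨e⟩ := s4_of_rel4 (x 0) (x 1) (x 2) (x 3) (x 4) y (T.inv 0) (T.inv 1) (T.inv 2)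
    (T.inv 3) (T.inv 4) ha hb h12 h13 h23 h24 h34 hc hc1 hy hbr h12ne
  have hyP : y ∈ X x 0 4 := by
    rcases hy with h | h
    · rw [h]
      exact mem_X x (by norm_num) (by norm_num)
    · rw [h]
      exact mul_mem (mem_X x (by norm_num) (by norm_num)) (mem_X x (by norm_num) (by norm_num))
  have hSP : Subgroup.closure ({x 0, y, x 0 * x 1 * x 2} : Set G) ≤ X x 0 4 := by
    rw [Subgroup.closure_le]
    intro w hw
    simp only [Set.mem_insert_iff, Set.mem_singleton_iff] at hw
    rcases hw with h | h | h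
    · rw [h]
      exact mem_X x (by norm_num) (by norm_num)
    · rw [h]
      exact hyP
    · rw [h]
      exact mul_mem (mul_mem (mem_X x (by norm_num) (by norm_num))
        (mem_X x (by norm_num) (by norm_num))) (mem_X x (by norm_num) (by norm_num))
  have hcen : ∀ p ∈ X x 0 4, x 2 * p = p * x 2 := by
    apply comm_X
    intro i hi1 hi2
    interval_cases i
    · exact hb.symm
    · exact h12.symm
    · rfl
    · exact h23
    · exact h24
  have hzS : x 2 ∉ Subgroup.closure ({x 0, y, x 0 * x 1 * x 2} : Set G) := by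
    intro hz
    have h1 : e ⟨x 2, hz⟩ = 1 := by
      apply perm4_central
      intro w
      obtain ⟨s, rfl⟩ := e.surjective w
      rw [← map_mul, ← map_mul]
      congr 1
      apply Subtype.ext
      show (s : G) * x 2 = x 2 * (s : G)
      exact (hcen _ (hSP s.2)).symm
    have h2 : (⟨x 2, hz⟩ : ↥(Subgroup.closure ({x 0, y, x 0 * x 1 * x 2} : Set G))) = 1 :=
      e.map_eq_one_iff.mp h1
    exact hx2 (congrArg Subtype.val h2)
  exact hRec (X x 0 4) _ (x 2) hSP hcard (mem_X x (by norm_num) (by norm_num)) hzS (T.inv 2)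
    hcen ⟨e⟩

end Cfsg.Agent.H62.Tt
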