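import Mathlib
import Cfsg.Agent.H64.TtDefs2
import Cfsg.Agent.H62.TtC4
import Cfsg.Agent.H62.TtIso3

/-!
# TT-K4 (helper62, for helper64, S3685): `k = 4`, the relations.
-/

set_option autoImplicit false
set_option linter.unusedVariables false
set_option linter.unusedSimpArgs false
set_option linter.style.haveILetI false

namespace Cfsg.Agent.H62.Tt

open Cfsg.Agent.H64.Tt

universe u

/-- in a group of order six the product of two involutions has order dividing three -/
theorem six_lemma {Q : Type u} [Group Q] [Finite Q] (h6 : Nat.card Q = 6) (a b : Q)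
    (ha : a * a = 1) (hb : b * b = 1) (ha1 : a ≠ 1) (hb1 : b ≠ 1) : (a * b) ^ 3 = 1 := by
  haveI : Fact (Nat.Prime 3) := ⟨Nat.prime_three⟩
  obtain ⟨t, ht⟩ := exists_prime_orderOf_dvd_card' (G := Q) 3 (by rw [h6]; norm_num)
  have hT3 : Nat.card (Subgroup.zpowers t) = 3 := by rw [Nat.card_zpowers, ht]
  have hidx : (Subgroup.zpowers t).index = 2 := by
    have h1 := Subgroup.card_mul_index (Subgroup.zpowers t)
    rw [hT3, h6] at h1
    omega
  have key : ∀ w : Q, w ∈ Subgroup.zpowers t → w ^ 3 = 1 := by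
    intro w hw
    have h1 : (⟨w, hw⟩ : Subgroup.zpowers t) ^ Nat.card (Subgroup.zpowers t) = 1 :=
      pow_card_eq_one'
    rw [hT3] at h1
    simpa using congrArg Subtype.val h1
  have hnot : ∀ w : Q, w * w = 1 → w ≠ 1 → w ∉ Subgroup.zpowers t := by
    intro w hw2 hw1 hw
    have h3 := key w hw
    apply hw1
    rw [pow_succ, pow_two, hw2, one_mul] at h3
    exact h3
  have hab : a * b ∈ Subgroup.zpowers t := by
    rw [Subgroup.mul_mem_iff_of_index_two hidx]
    exact ⟨fun h => absurd h (hnot a ha ha1), fun h => absurd h (hnot b hb hb1)⟩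
  exact key _ hab

/-- the cube of the product of two involutions outside a normal subgroup of index six -/
theorem cube_mem {G : Type u} [Group G] [Finite G] (P N : Subgroup G) (hNP : N ≤ P)
    (hnorm : ∀ p ∈ P, ∀ n ∈ N, p * n * p⁻¹ ∈ N) (hidx : N.relIndex P = 6)
    (a f : G) (haP : a ∈ P) (hfP : f ∈ P) (ha2 : a * a = 1) (hf2 : f * f = 1)
    (haN : a ∉ N) (hfN : f ∉ N) : (a * f) ^ 3 ∈ N := by
  haveI : (N.subgroupOf P).Normal := ⟨fun n hn p => by
    rw [Subgroup.mem_subgroupOf] at hn ⊢
    exact hnorm p.1 p.2 n.1 hn⟩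
  have h6 : Nat.card (↥P ⧸ N.subgroupOf P) = 6 := hidx
  have h := six_lemma h6 (QuotientGroup.mk ⟨a, haP⟩) (QuotientGroup.mk ⟨f, hfP⟩) ?_ ?_ ?_ ?_
  · rw [← QuotientGroup.mk_mul, ← QuotientGroup.mk_pow, QuotientGroup.eq_one_iff,
      Subgroup.mem_subgroupOf] at h
    exact h
  · rw [← QuotientGroup.mk_mul, QuotientGroup.eq_one_iff, Subgroup.mem_subgroupOf]
    show a * a ∈ N
    rw [ha2]
    exact one_mem _
  · rw [← QuotientGroup.mk_mul, QuotientGroup.eq_one_iff, Subgroup.mem_subgroupOf]
    show f * f ∈ N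
    rw [hf2]
    exact one_mem _
  · intro h1
    rw [QuotientGroup.eq_one_iff, Subgroup.mem_subgroupOf] at h1
    exact haN h1
  · intro h1
    rw [QuotientGroup.eq_one_iff, Subgroup.mem_subgroupOf] at h1
    exact hfN h1

/-- an involution conjugating a subgroup into itself normalises it -/
theorem invol_normalizer {G : Type u} [Group G] (N : Subgroup G) (p : G) (hp : p * p = 1)
    (h : ∀ n ∈ N, p * n * p⁻¹ ∈ N) : p ∈ Subgroup.normalizer (N : Set G) := by
  rw [Subgroup.mem_normalizer_iff]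
  intro n
  constructor
  · exact h n
  · intro hn
    have h1 := h _ hn
    have hpi : p⁻¹ = p := inv_eq_of_mul_eq_one_right hp
    have e : p * (p * n * p⁻¹) * p⁻¹ = n := by
      rw [hpi]
      have e1 : p * (p * n * p) * p = (p * p) * n * (p * p) := by simp only [mul_assoc]
      rw [e1, hp, one_mul, mul_one]
    rwa [e] at h1

/-- `(a f)³ ∈ N` is `1` or `c` -/
theorem k4_cube {G : Type u} [Group G] (a b c d f : G) (N : Subgroup G)
    (ha2 : a * a = 1) (hb2 : b * b = 1) (hc2 : c * c = 1) (hd2 : d * d = 1) (hf2 : f * f = 1)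
    (hab : a * b = b * a) (hac : a * c = c * a) (hbc : b * c = c * b) (hbd : b * d = d * b)
    (hcd : c * d = d * c) (hcf : c * f = f * c) (hdf : d * f = f * d)
    (had : a * d ≠ d * a) (hbf : b * f ≠ f * b)
    (hlist : ∀ n ∈ N, n = 1 ∨ n = b ∨ n = c ∨ n = d ∨ n = b * c ∨ n = b * d ∨ n = c * d ∨
      n = b * c * d)
    (hu : (a * f) ^ 3 ∈ N) : (a * f) ^ 3 = 1 ∨ (a * f) ^ 3 = c := by
  have sw : ∀ p q : G, q * p = p * q → ∀ w, q * (p * w) = p * (q * w) := fun p q h w => by
    rw [← mul_assoc, h, mul_assoc]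
  have cn : ∀ p : G, p * p = 1 → ∀ w, p * (p * w) = w := fun p h w => by
    rw [← mul_assoc, h, one_mul]
  have hai : a⁻¹ = a := inv_eq_of_mul_eq_one_right ha2
  have hfi : f⁻¹ = f := inv_eq_of_mul_eq_one_right hf2
  obtain ⟨n, hn⟩ : ∃ n : G, n = (a * f) ^ 3 := ⟨_, rfl⟩
  rw [← hn] at hu ⊢
  have hsq : n * n = 1 := by
    rcases hlist n hu with h | h | h | h | h | h | h | h <;> rw [h] <;>
      simp only [mul_assoc, hbc.symm, sw b c hbc.symm, hbd.symm, sw b d hbd.symm, hcd.symm,
        sw c d hcd.symm, hb2, cn b hb2, hc2, cn c hc2, hd2, cn d hd2, mul_one]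
  have hni : n⁻¹ = n := inv_eq_of_mul_eq_one_right hsq
  have hninv : n⁻¹ = (f * a) ^ 3 := by
    rw [hn, ← inv_pow, mul_inv_rev, hai, hfi]
  have hna : a * n = n * a := by
    have h1 : a * n * a⁻¹ = (f * a) ^ 3 := by
      rw [hn, ← conj_pow]
      congr 1
      rw [hai, ← mul_assoc, ha2, one_mul]
    rw [← hninv, hni] at h1
    exact mul_inv_eq_iff_eq_mul.mp h1
  have hnf : f * n = n * f := by
    have h1 : f * n * f⁻¹ = (f * a) ^ 3 := by
      rw [hn, ← conj_pow]
      congr 1
      rw [hfi, mul_assoc, mul_assoc, hf2, mul_one]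
    rw [← hninv, hni] at h1
    exact mul_inv_eq_iff_eq_mul.mp h1
  have habc : a * (b * c) = b * c * a := by
    rw [← mul_assoc, hab, mul_assoc, hac, mul_assoc]
  rcases hlist n hu with h | h | h | h | h | h | h | h
  · exact Or.inl h
  · exfalso
    rw [h] at hnf
    exact hbf hnf.symm
  · exact Or.inr h
  · exfalso
    rw [h] at hna
    exact had hna
  · exfalso
    rw [h] at hnf
    have h3 : (f * b) * c = (b * f) * c :=
      calc (f * b) * c = f * (b * c) := mul_assoc _ _ _
        _ = b * c * f := hnf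
        _ = b * (c * f) := mul_assoc _ _ _
        _ = b * (f * c) := by rw [hcf]
        _ = (b * f) * c := (mul_assoc _ _ _).symm
    exact hbf (mul_right_cancel h3).symm
  · exfalso
    rw [h] at hna
    have h3 : b * (a * d) = b * (d * a) :=
      calc b * (a * d) = a * b * d := by rw [← mul_assoc, ← hab]
        _ = a * (b * d) := mul_assoc _ _ _
        _ = b * d * a := hna
        _ = b * (d * a) := mul_assoc _ _ _
    exact had (mul_left_cancel h3)
  · exfalso
    rw [h] at hna
    have h3 : c * (a * d) = c * (d * a) :=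
      calc c * (a * d) = a * c * d := by rw [← mul_assoc, ← hac]
        _ = a * (c * d) := mul_assoc _ _ _
        _ = c * d * a := hna
        _ = c * (d * a) := mul_assoc _ _ _
    exact had (mul_left_cancel h3)
  · exfalso
    rw [h] at hna
    have h3 : (b * c) * (a * d) = (b * c) * (d * a) :=
      calc (b * c) * (a * d) = (b * c * a) * d := (mul_assoc _ _ _).symm
        _ = a * (b * c) * d := by rw [habc]
        _ = a * (b * c * d) := mul_assoc _ _ _
        _ = b * c * d * a := hna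
        _ = (b * c) * (d * a) := mul_assoc _ _ _
    exact had (mul_left_cancel h3)

/-- the case `[x₀, x₃] = x₁` forces `x₁ = x₂` -/
theorem k4_case1 {G : Type u} [Group G] (a b c d f : G)
    (ha2 : a * a = 1) (hb2 : b * b = 1) (hc2 : c * c = 1) (hd2 : d * d = 1) (hf2 : f * f = 1)
    (hab : a * b = b * a) (hac : a * c = c * a) (hbc : b * c = c * b) (hbd : b * d = d * b)
    (hcd : c * d = d * c) (hcf : c * f = f * c) (hdf : d * f = f * d)
    (h1 : a * d * a * d = b) (h2 : b * f * b * f = c)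
    (hu : (a * f) ^ 3 = 1 ∨ (a * f) ^ 3 = c) : b = c := by
  have sw : ∀ p q : G, q * p = p * q → ∀ w, q * (p * w) = p * (q * w) := fun p q h w => by
    rw [← mul_assoc, h, mul_assoc]
  have cn : ∀ p : G, p * p = 1 → ∀ w, p * (p * w) = w := fun p h w => by
    rw [← mul_assoc, h, one_mul]
  have had : a * d = b * (d * a) := by
    rw [← h1]
    simp only [mul_assoc, cn d hd2, ha2, mul_one]
  have hfb : f * b = b * (c * f) := by
    rw [← h2]
    simp only [mul_assoc, cn b hb2, hf2, mul_one]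
  obtain ⟨u, hu'⟩ : ∃ u : G, u = a * f := ⟨_, rfl⟩
  rw [← hu'] at hu
  have rd : u * d = b * (d * u) := by
    rw [hu']
    calc a * f * d = a * (d * f) := by rw [mul_assoc, hdf]
      _ = (a * d) * f := (mul_assoc _ _ _).symm
      _ = b * (d * a) * f := by rw [had]
      _ = b * (d * (a * f)) := by simp only [mul_assoc]
  have rb : u * b = b * (c * u) := by
    rw [hu']
    calc a * f * b = a * (b * (c * f)) := by rw [mul_assoc, hfb]
      _ = b * (c * (a * f)) := by rw [sw b a hab, sw c a hac]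
  have rc : u * c = c * u := by
    rw [hu']
    calc a * f * c = a * (c * f) := by rw [mul_assoc, hcf]
      _ = c * (a * f) := by rw [sw c a hac]
  have rd' : ∀ w, u * (d * w) = b * (d * (u * w)) := fun w => by
    rw [← mul_assoc, rd]
    simp only [mul_assoc]
  have rb' : ∀ w, u * (b * w) = b * (c * (u * w)) := fun w => by
    rw [← mul_assoc, rb]
    simp only [mul_assoc]
  have rc' : ∀ w, u * (c * w) = c * (u * w) := fun w => by
    rw [← mul_assoc, rc, mul_assoc]
  have key : u * (u * (u * d)) = b * (c * (d * (u * (u * u)))) := by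
    simp only [rd, rd', rb, rb', rc, rc', hbc.symm, sw b c hbc.symm, hbd.symm, sw b d hbd.symm,
      hcd.symm, sw c d hcd.symm, hb2, cn b hb2, hc2, cn c hc2, hd2, cn d hd2, mul_one]
  have e3 : u ^ 3 = u * (u * u) := by rw [pow_succ, pow_two, mul_assoc]
  rw [e3] at hu
  have key2 : (u * (u * u)) * d = b * (c * (d * (u * (u * u)))) := by
    rw [← key]
    simp only [mul_assoc]
  rcases hu with h | h
  · rw [h, one_mul, mul_one] at key2
    have h3 : b * c = 1 := by
      have h4 : (b * c) * d = 1 * d := by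
        rw [one_mul, mul_assoc]
        exact key2.symm
      exact mul_right_cancel h4
    have h5 : b * c = c * c := by rw [h3, hc2]
    exact mul_right_cancel h5
  · rw [h] at key2
    have h3 : c * d = b * d := by
      rw [key2]
      simp only [hcd.symm, sw c d hcd.symm, hc2, cn c hc2, mul_one]
    exact (mul_right_cancel h3).symm

/-- the case `[x₀, x₃] = x₂` forces `x₃ = 1` -/
theorem k4_case2 {G : Type u} [Group G] (a b c d f : G)
    (ha2 : a * a = 1) (hb2 : b * b = 1) (hc2 : c * c = 1) (hd2 : d * d = 1) (hf2 : f * f = 1)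
    (hab : a * b = b * a) (hac : a * c = c * a) (hbc : b * c = c * b) (hbd : b * d = d * b)
    (hcd : c * d = d * c) (hcf : c * f = f * c) (hdf : d * f = f * d)
    (h1 : a * d * a * d = c) (h2 : b * f * b * f = d)
    (hu : (a * f) ^ 3 = 1 ∨ (a * f) ^ 3 = c) : d = 1 := by
  have sw : ∀ p q : G, q * p = p * q → ∀ w, q * (p * w) = p * (q * w) := fun p q h w => by
    rw [← mul_assoc, h, mul_assoc]
  have cn : ∀ p : G, p * p = 1 → ∀ w, p * (p * w) = w := fun p h w => by
    rw [← mul_assoc, h, one_mul]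
  have had : a * d = c * (d * a) := by
    have e : c * (d * a) = a * d * a * d * (d * a) := by rw [h1]
    rw [e]
    simp only [mul_assoc, cn d hd2, ha2, mul_one]
  have hfb : f * b = b * (d * f) := by
    have e : b * (d * f) = b * (b * f * b * f * f) := by rw [h2]
    rw [e]
    simp only [mul_assoc, cn b hb2, hf2, mul_one]
  obtain ⟨u, hu'⟩ : ∃ u : G, u = a * f := ⟨_, rfl⟩
  rw [← hu'] at hu
  have rd : u * d = c * (d * u) := by
    rw [hu']
    calc a * f * d = a * (d * f) := by rw [mul_assoc, hdf]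
      _ = (a * d) * f := (mul_assoc _ _ _).symm
      _ = c * (d * a) * f := by rw [had]
      _ = c * (d * (a * f)) := by simp only [mul_assoc]
  have rb : u * b = b * (c * (d * u)) := by
    rw [hu']
    calc a * f * b = a * (b * (d * f)) := by rw [mul_assoc, hfb]
      _ = b * ((a * d) * f) := by rw [sw b a hab, mul_assoc]
      _ = b * (c * (d * (a * f))) := by
        rw [had]
        simp only [mul_assoc]
  have rc : u * c = c * u := by
    rw [hu']
    calc a * f * c = a * (c * f) := by rw [mul_assoc, hcf]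
      _ = c * (a * f) := by rw [sw c a hac]
  have rd' : ∀ w, u * (d * w) = c * (d * (u * w)) := fun w => by
    rw [← mul_assoc, rd]
    simp only [mul_assoc]
  have rb' : ∀ w, u * (b * w) = b * (c * (d * (u * w))) := fun w => by
    rw [← mul_assoc, rb]
    simp only [mul_assoc]
  have rc' : ∀ w, u * (c * w) = c * (u * w) := fun w => by
    rw [← mul_assoc, rc, mul_assoc]
  have key : u * (u * (u * b)) = b * (d * (u * (u * u))) := by
    simp only [rd, rd', rb, rb', rc, rc', hbc.symm, sw b c hbc.symm, hbd.symm, sw b d hbd.symm,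
      hcd.symm, sw c d hcd.symm, hb2, cn b hb2, hc2, cn c hc2, hd2, cn d hd2, mul_one]
  have e3 : u ^ 3 = u * (u * u) := by rw [pow_succ, pow_two, mul_assoc]
  rw [e3] at hu
  have key2 : (u * (u * u)) * b = b * (d * (u * (u * u))) := by
    rw [← key]
    simp only [mul_assoc]
  rcases hu with h | h
  · rw [h, one_mul, mul_one] at key2
    have h4 : b * d = b * 1 := by
      rw [mul_one]
      exact key2.symm
    exact mul_left_cancel h4
  · rw [h] at key2
    rw [← hbc, ← hcd] at key2
    have h4 : c * d = c * 1 := by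
      rw [mul_one]
      exact (mul_left_cancel key2).symm
    exact mul_left_cancel h4

/-- two involutions whose product has order dividing three satisfy the braid relation -/
theorem braid_of_cube {G : Type u} [Group G] (a y : G) (ha2 : a * a = 1) (hy2 : y * y = 1)
    (h : (a * y) ^ 3 = 1) : y * a * y = a * y * a := by
  have hai : a⁻¹ = a := inv_eq_of_mul_eq_one_right ha2
  have hyi : y⁻¹ = y := inv_eq_of_mul_eq_one_right hy2
  have h1 : (a * y * a) * (y * a * y) = 1 := by
    rw [← h, pow_succ, pow_two]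
    simp only [mul_assoc]
  have h2 : y * a * y = (a * y * a)⁻¹ := eq_inv_of_mul_eq_one_right h1
  rw [h2, mul_inv_rev, mul_inv_rev, hai, hyi, mul_assoc]

/-- **TT-K4**. -/
theorem k4 (hcard : CardStmt.{u}) (hc1 : C1Stmt.{u}) (hsplit : SplitStmt.{u})
    (hcomm : CommStmt.{u}) (hc2 : C2Stmt.{u}) (hc3 : C3Stmt.{u}) (hc4 : C4Stmt.{u}) :
    K4Stmt.{u} := by
  intro G _ _ x g T hcard48
  obtain ⟨l, hl4, L⟩ := hc2 x g 4 T (by norm_num)
  have hl3 := hc3 x g 4 l T L hl4
  have hl1 := L.1
  have hcne : x 0 * x l * (x 0)⁻¹ * (x l)⁻¹ ≠ 1 := fun h =>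
    L.2.2 (mul_inv_eq_iff_eq_mul.mp (mul_inv_eq_one.mp h))
  have hmem := hc4 x g 4 l T L (by omega)
  have hl : l = 3 := by
    by_contra hne
    have h12 : l = 1 ∨ l = 2 := by omega
    rcases h12 with h | h
    · subst h
      rw [X_empty x (by norm_num)] at hmem
      exact hcne (Subgroup.mem_bot.mp hmem)
    · subst h
      rw [X_empty x (by norm_num)] at hmem
      exact hcne (Subgroup.mem_bot.mp hmem)
  subst hl
  have e43 : ((4 : ℕ) : ℤ) - ((3 : ℕ) : ℤ) = 1 := by norm_num
  have e234 : 2 * ((3 : ℕ) : ℤ) - ((4 : ℕ) : ℤ) = 2 := by norm_num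
  have e3 : ((3 : ℕ) : ℤ) = 3 := by norm_num
  rw [e43, e234, e3] at hmem
  rw [e3] at hcne
  obtain ⟨hcm, hnc⟩ := hcomm x g 4 3 T L
  have cm : ∀ i j : ℤ, i - j ≤ 2 → j - i ≤ 2 → x i * x j = x j * x i := fun i j h1 h2 =>
    hcm i j (by rw [abs_lt, e3]; constructor <;> omega)
  have h01 : x 0 * x 1 = x 1 * x 0 := cm 0 1 (by norm_num) (by norm_num)
  have h02 : x 0 * x 2 = x 2 * x 0 := cm 0 2 (by norm_num) (by norm_num)
  have h12 : x 1 * x 2 = x 2 * x 1 := cm 1 2 (by norm_num) (by norm_num)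
  have h13 : x 1 * x 3 = x 3 * x 1 := cm 1 3 (by norm_num) (by norm_num)
  have h23 : x 2 * x 3 = x 3 * x 2 := cm 2 3 (by norm_num) (by norm_num)
  have h24 : x 2 * x 4 = x 4 * x 2 := cm 2 4 (by norm_num) (by norm_num)
  have h34 : x 3 * x 4 = x 4 * x 3 := cm 3 4 (by norm_num) (by norm_num)
  have n03 : x 0 * x 3 ≠ x 3 * x 0 := by
    have h := hnc 0
    rw [zero_add, e3] at h
    exact h
  have n14 : x 1 * x 4 ≠ x 4 * x 1 := by
    have h := hnc 1
    rw [e3, show (1 : ℤ) + 3 = 4 from by norm_num] at h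
    exact h
  have inv_x : ∀ i, (x i)⁻¹ = x i := fun i => inv_eq_of_mul_eq_one_right (T.inv i)
  rw [inv_x, inv_x] at hmem hcne
  have L1 : ∀ m ∈ X x 1 1, m = 1 ∨ m = x 1 := by
    intro m hm
    have h := (hsplit x g 4 T 1 1 (le_refl _) (by norm_num) m hm).1
    rw [show (1 : ℤ) - 1 = 0 from by norm_num, X_empty x (by norm_num : (0 : ℤ) < 1)] at h
    rcases h with h | h
    · exact Or.inl (Subgroup.mem_bot.mp h)
    · right
      have h6 := eq_inv_of_mul_eq_one_left (Subgroup.mem_bot.mp h)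
      rw [inv_x] at h6
      exact h6
  have L2 : ∀ m ∈ X x 1 2, m = 1 ∨ m = x 1 ∨ m = x 2 ∨ m = x 1 * x 2 := by
    intro m hm
    have h := (hsplit x g 4 T 1 2 (by norm_num) (by norm_num) m hm).1
    rw [show (2 : ℤ) - 1 = 1 from by norm_num] at h
    rcases h with h | h
    · rcases L1 m h with h' | h'
      · exact Or.inl h'
      · exact Or.inr (Or.inl h')
    · rcases L1 _ h with h' | h'
      · right; right; left
        have h6 := eq_inv_of_mul_eq_one_left h'
        rw [inv_x] at h6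
        exact h6
      · right; right; right
        have h6 := eq_mul_inv_of_mul_eq h'
        rw [inv_x] at h6
        exact h6
  have L3 : ∀ n ∈ X x 1 3, n = 1 ∨ n = x 1 ∨ n = x 2 ∨ n = x 3 ∨ n = x 1 * x 2 ∨
      n = x 1 * x 3 ∨ n = x 2 * x 3 ∨ n = x 1 * x 2 * x 3 := by
    intro n hn
    have h := (hsplit x g 4 T 1 3 (by norm_num) (by norm_num) n hn).1
    rw [show (3 : ℤ) - 1 = 2 from by norm_num] at h
    rcases h with h | h
    · rcases L2 n h with h' | h' | h' | h'
      · exact Or.inl h'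
      · exact Or.inr (Or.inl h')
      · exact Or.inr (Or.inr (Or.inl h'))
      · exact Or.inr (Or.inr (Or.inr (Or.inr (Or.inl h'))))
    · rcases L2 _ h with h' | h' | h' | h'
      · have h6 := eq_inv_of_mul_eq_one_left h'
        rw [inv_x] at h6
        exact Or.inr (Or.inr (Or.inr (Or.inl h6)))
      · have h6 := eq_mul_inv_of_mul_eq h'
        rw [inv_x] at h6
        exact Or.inr (Or.inr (Or.inr (Or.inr (Or.inr (Or.inl h6)))))
      · have h6 := eq_mul_inv_of_mul_eq h'
        rw [inv_x] at h6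
        exact Or.inr (Or.inr (Or.inr (Or.inr (Or.inr (Or.inr (Or.inl h6))))))
      · have h6 := eq_mul_inv_of_mul_eq h'
        rw [inv_x] at h6
        exact Or.inr (Or.inr (Or.inr (Or.inr (Or.inr (Or.inr (Or.inr h6))))))
  have hN8 : Nat.card (X x 1 3) = 8 := by
    have h := hcard x g 4 T 1 3 (by norm_num) (by norm_num)
    rw [h]
    rfl
  have hNP : X x 1 3 ≤ X x 0 4 := X_mono x (by norm_num) (by norm_num)
  have hidx : (X x 1 3).relIndex (X x 0 4) = 6 := by
    have h3 := Subgroup.relIndex_mul_relIndex (⊥ : Subgroup G) _ _ bot_le hNP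
    rw [Subgroup.relIndex_bot_left, Subgroup.relIndex_bot_left, hN8, hcard48] at h3
    omega
  have hcplus : x 1 * x 4 * (x 1)⁻¹ * (x 4)⁻¹ ∈ X x 2 3 := by
    have h := hc1 x g 4 T 1 4 (by norm_num) (by norm_num)
    rw [show (1 : ℤ) + 1 = 2 from by norm_num, show (4 : ℤ) - 1 = 3 from by norm_num] at h
    exact h
  have hgen : ∀ p : G, (∀ j : ℤ, 1 ≤ j → j ≤ 3 → p * x j * p⁻¹ ∈ X x 1 3) →
      ∀ n ∈ X x 1 3, p * n * p⁻¹ ∈ X x 1 3 := by
    intro p hp n hn
    have hle : X x 1 3 ≤ (X x 1 3).comap (MulAut.conj p).toMonoidHom := by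
      rw [X_le_iff]
      intro j hj1 hj2
      rw [Subgroup.mem_comap]
      exact hp j hj1 hj2
    exact hle hn
  have hnz : X x 0 4 ≤ Subgroup.normalizer ((X x 1 3 : Subgroup G) : Set G) := by
    rw [X_le_iff]
    intro i hi1 hi2
    interval_cases i
    · apply invol_normalizer _ _ (T.inv 0)
      apply hgen
      intro j hj1 hj2
      interval_cases j
      · rw [mul_inv_eq_iff_eq_mul.mpr h01]
        exact mem_X x (by norm_num) (by norm_num)
      · rw [mul_inv_eq_iff_eq_mul.mpr h02]
        exact mem_X x (by norm_num) (by norm_num)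
      · have e : x 0 * x 3 * (x 0)⁻¹ = (x 0 * x 3 * x 0 * x 3) * x 3 := by
          rw [inv_x]
          simp only [mul_assoc, T.inv 3, mul_one]
        rw [e]
        exact mul_mem (X_mono x (by norm_num) (by norm_num) hmem)
          (mem_X x (by norm_num) (by norm_num))
    · exact Subgroup.le_normalizer (mem_X x (by norm_num) (by norm_num))
    · exact Subgroup.le_normalizer (mem_X x (by norm_num) (by norm_num))
    · exact Subgroup.le_normalizer (mem_X x (by norm_num) (by norm_num))
    · apply invol_normalizer _ _ (T.inv 4)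
      apply hgen
      intro j hj1 hj2
      interval_cases j
      · have e : x 4 * x 1 * (x 4)⁻¹ = (x 1 * x 4 * (x 1)⁻¹ * (x 4)⁻¹)⁻¹ * x 1 := by group
        rw [e]
        exact mul_mem (inv_mem (X_mono x (by norm_num) (by norm_num) hcplus))
          (mem_X x (by norm_num) (by norm_num))
      · rw [mul_inv_eq_iff_eq_mul.mpr h24.symm]
        exact mem_X x (by norm_num) (by norm_num)
      · rw [mul_inv_eq_iff_eq_mul.mpr h34.symm]
        exact mem_X x (by norm_num) (by norm_num)
  have hnorm : ∀ p ∈ X x 0 4, ∀ n ∈ X x 1 3, p * n * p⁻¹ ∈ X x 1 3 := fun p hp n hn =>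
    (Subgroup.mem_normalizer_iff.mp (hnz hp) n).mp hn
  have h0N : x 0 ∉ X x 1 3 := by
    intro h
    have h5 := comm_X x (x 3) 1 3 (fun i hi1 hi2 => cm 3 i (by omega) (by omega)) (x 0) h
    exact n03 h5.symm
  have h4N : x 4 ∉ X x 1 3 := by
    intro h
    have h5 := comm_X x (x 1) 1 3 (fun i hi1 hi2 => cm 1 i (by omega) (by omega)) (x 4) h
    exact n14 h5
  have hu3 : (x 0 * x 4) ^ 3 ∈ X x 1 3 :=
    cube_mem (X x 0 4) (X x 1 3) hNP hnorm hidx (x 0) (x 4) (mem_X x (by norm_num) (by norm_num))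
      (mem_X x (by norm_num) (by norm_num)) (T.inv 0) (T.inv 4) h0N h4N
  have hcube := k4_cube (x 0) (x 1) (x 2) (x 3) (x 4) (X x 1 3) (T.inv 0) (T.inv 1) (T.inv 2)
    (T.inv 3) (T.inv 4) h01 h02 h12 h13 h23 h24 h34 n03 n14 L3 hu3
  have hφ : ∀ i, MulAut.conj g (x i) = x (i + 1) := fun i => T.shift i
  refine ⟨h01, h02, ?_⟩
  rcases L2 _ hmem with h | h | h | h
  · exact absurd h hcne
  · exfalso
    have hs : x 1 * x 4 * x 1 * x 4 = x 2 := by
      have h' := congrArg (MulAut.conj g) h
      simp only [map_mul, hφ] at h'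
      norm_num at h'
      exact h'
    have h5 := k4_case1 (x 0) (x 1) (x 2) (x 3) (x 4) (T.inv 0) (T.inv 1) (T.inv 2)
      (T.inv 3) (T.inv 4) h01 h02 h12 h13 h23 h24 h34 h hs hcube
    apply n14
    rw [h5]
    exact h24
  · exfalso
    have hs : x 1 * x 4 * x 1 * x 4 = x 3 := by
      have h' := congrArg (MulAut.conj g) h
      simp only [map_mul, hφ] at h'
      norm_num at h'
      exact h'
    have h5 := k4_case2 (x 0) (x 1) (x 2) (x 3) (x 4) (T.inv 0) (T.inv 1) (T.inv 2)
      (T.inv 3) (T.inv 4) h01 h02 h12 h13 h23 h24 h34 h hs hcube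
    apply n03
    rw [h5, mul_one, one_mul]
  · refine ⟨h, ?_⟩
    rcases hcube with h3 | h3
    · exact ⟨x 4, Or.inl rfl, braid_of_cube (x 0) (x 4) (T.inv 0) (T.inv 4) h3⟩
    · refine ⟨x 4 * x 2, Or.inr rfl, braid_of_cube (x 0) (x 4 * x 2) (T.inv 0) ?_ ?_⟩
      · calc x 4 * x 2 * (x 4 * x 2) = x 4 * (x 2 * x 4) * x 2 := by simp only [mul_assoc]
          _ = x 4 * (x 4 * x 2) * x 2 := by rw [h24]
          _ = (x 4 * x 4) * (x 2 * x 2) := by simp only [mul_assoc]
          _ = 1 := by rw [T.inv 4, T.inv 2, one_mul]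
      · have hc : Commute (x 0 * x 4) (x 2) :=
          Commute.mul_left (show Commute (x 0) (x 2) from h02)
            (show Commute (x 4) (x 2) from h24.symm)
        rw [← mul_assoc, hc.mul_pow, h3, pow_succ, pow_two, T.inv 2, one_mul, T.inv 2]

end Cfsg.Agent.H62.Tt
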