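import Mathlib
import Cfsg.Agent.H64.TtDefs

/-!
# TT-REG (helper62, for helper64, S3385): abstract regularity on paths.
-/

set_option autoImplicit false
set_option linter.unusedVariables false

namespace Cfsg.Agent.H62.Tt

open Cfsg.Agent.H64.Tt MulAction

universe u v

section Reg

variable (G : Type u) [Group G] {E : Type v} [MulAction G E]

/-- the pointwise stabiliser of `f 0, …, f (n-1)` -/
def St (f : ℕ → E) (n : ℕ) : Subgroup G := ⨅ j ∈ Finset.range n, stabilizer G (f j)

/-- the stabiliser of `f 0, …, f (n-1)` fixes `f n` -/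
def Stop (f : ℕ → E) (n : ℕ) : Prop := ∀ s ∈ St G f n, s • f n = f n

variable {G}

theorem mem_St {f : ℕ → E} {n : ℕ} {h : G} : h ∈ St G f n ↔ ∀ j < n, h • f j = f j := by
  unfold St
  simp only [Subgroup.mem_iInf, Finset.mem_range, mem_stabilizer_iff]

theorem St_congr (f f' : ℕ → E) (n : ℕ) (h : ∀ j < n, f j = f' j) : St G f n = St G f' n := by
  ext t
  rw [mem_St, mem_St]
  constructor
  · intro ht j hj
    rw [← h j hj]
    exact ht j hj
  · intro ht j hj
    rw [h j hj]
    exact ht j hj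

theorem two_succ (R : E → E → Prop) (h2 : ∀ e : E, Set.ncard {e' : E | R e e'} = 2)
    (e a b c : E) (ha : R e a) (hb : R e b) (hc : R e c) (hab : a ≠ b) : c = a ∨ c = b := by
  obtain ⟨x, y, hxy, hset⟩ := Set.ncard_eq_two.mp (h2 e)
  have ha' : a ∈ ({x, y} : Set E) := hset ▸ (show a ∈ {e' : E | R e e'} from ha)
  have hb' : b ∈ ({x, y} : Set E) := hset ▸ (show b ∈ {e' : E | R e e'} from hb)
  have hc' : c ∈ ({x, y} : Set E) := hset ▸ (show c ∈ {e' : E | R e e'} from hc)
  simp only [Set.mem_insert_iff, Set.mem_singleton_iff] at ha' hb' hc'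
  rcases ha' with h1 | h1 <;> rcases hb' with h3 | h3 <;> rcases hc' with h4 | h4
  · exact absurd (h1.trans h3.symm) hab
  · exact absurd (h1.trans h3.symm) hab
  · left; rw [h4, h1]
  · right; rw [h4, h3]
  · right; rw [h4, h3]
  · left; rw [h4, h1]
  · exact absurd (h1.trans h3.symm) hab
  · exact absurd (h1.trans h3.symm) hab

theorem card_eq_of_conj (H K : Subgroup G) (h : G) (hiff : ∀ t, t ∈ K ↔ h⁻¹ * t * h ∈ H) :
    Nat.card K = Nat.card H := by
  have hK : K = H.map (MulAut.conj h).toMonoidHom := by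
    ext t
    rw [hiff, Subgroup.mem_map]
    constructor
    · intro ht
      refine ⟨h⁻¹ * t * h, ht, ?_⟩
      show h * (h⁻¹ * t * h) * h⁻¹ = t
      group
    · rintro ⟨s, hs, rfl⟩
      have h1 : h⁻¹ * (h * s * h⁻¹) * h = s := by group
      show h⁻¹ * (h * s * h⁻¹) * h ∈ H
      rw [h1]
      exact hs
  rw [hK]
  exact Nat.card_congr (H.equivMapOfInjective _ (MulAut.conj h).injective).symm.toEquiv

end Reg

/-- **TT-REG**. -/
theorem reg : RegStmt.{u, v} := by
  intro G _ _ E _ R k hT hF hI h2 hC hcard e₀ g hg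
  classical
  obtain ⟨ee, hee⟩ : ∃ ee : ℕ → E, ee = fun j => g ^ j • e₀ := ⟨_, rfl⟩
  have hee' : ∀ j, ee j = g ^ j • e₀ := fun j => by rw [hee]
  have hpath : ∀ j, R (ee j) (ee (j + 1)) := by
    intro j
    rw [hee', hee', pow_succ, mul_smul]
    exact hI _ _ _ hg
  suffices hmain : ∀ m, 1 ≤ m → m ≤ k + 1 → Nat.card (St G ee m) = 2 ^ (k + 1 - m) by
    intro m h1 h2'
    have h3 := hmain m h1 h2'
    rw [hee] at h3
    exact h3
  have hfix_succ : ∀ n, ∀ s ∈ St G ee (n + 1), ∀ a, R (ee n) a → R (ee n) (s • a) := by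
    intro n s hs a ha
    have h1 := hI s _ _ ha
    rw [mem_St.mp hs n (Nat.lt_succ_self n)] at h1
    exact h1
  have hmover : ∀ n, ¬ Stop G ee (n + 1) →
      ∃ s ∈ St G ee (n + 1), s • ee (n + 1) ≠ ee (n + 1) := by
    intro n hns
    by_contra hcon
    apply hns
    intro s hs
    by_contra hne
    exact hcon ⟨s, hs, hne⟩
  have trans_succ : ∀ n, ¬ Stop G ee (n + 1) →
      ∀ a, R (ee n) a → ∃ t ∈ St G ee (n + 1), t • ee (n + 1) = a := by
    intro n hns a ha
    obtain ⟨s, hs, hsne⟩ := hmover n hns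
    rcases two_succ R h2 (ee n) (ee (n + 1)) (s • ee (n + 1)) a (hpath n)
      (hfix_succ n s hs _ (hpath n)) ha (Ne.symm hsne) with h | h
    · exact ⟨1, one_mem _, by rw [one_smul, h]⟩
    · exact ⟨s, hs, h.symm⟩
  have hdouble : ∀ n, ¬ Stop G ee (n + 1) →
      Nat.card (St G ee (n + 1)) = 2 * Nat.card (St G ee (n + 2)) := by
    intro n hns
    obtain ⟨s, hs, hsne⟩ := hmover n hns
    have hle : St G ee (n + 2) ≤ St G ee (n + 1) := by
      intro t ht
      rw [mem_St] at ht ⊢
      intro j hj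
      exact ht j (by omega)
    have hmem2 : ∀ t, t ∈ St G ee (n + 2) ↔
        t ∈ St G ee (n + 1) ∧ t • ee (n + 1) = ee (n + 1) := by
      intro t
      rw [mem_St, mem_St]
      constructor
      · intro h
        exact ⟨fun j hj => h j (by omega), h (n + 1) (by omega)⟩
      · rintro ⟨h1, h3⟩ j hj
        by_cases h4 : j = n + 1
        · rw [h4]
          exact h3
        · exact h1 j (by omega)
    have hidx : (St G ee (n + 2)).relIndex (St G ee (n + 1)) = 2 := by
      rw [Subgroup.relIndex_eq_two_iff_exists_notMem_and]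
      refine ⟨s, hs, fun h => hsne ((hmem2 s).mp h).2, ?_⟩
      intro b hb
      have hbs : R (ee n) (b • (s • ee (n + 1))) :=
        hfix_succ n b hb _ (hfix_succ n s hs _ (hpath n))
      rcases two_succ R h2 (ee n) (ee (n + 1)) (s • ee (n + 1)) (b • (s • ee (n + 1)))
        (hpath n) (hfix_succ n s hs _ (hpath n)) hbs (Ne.symm hsne) with h | h
      · left
        rw [hmem2]
        exact ⟨mul_mem hb hs, by rw [mul_smul, h]⟩
      · right
        rw [hmem2]
        refine ⟨hb, ?_⟩
        have hb1 : R (ee n) (b • ee (n + 1)) := hfix_succ n b hb _ (hpath n)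
        rcases two_succ R h2 (ee n) (ee (n + 1)) (s • ee (n + 1)) (b • ee (n + 1))
          (hpath n) (hfix_succ n s hs _ (hpath n)) hb1 (Ne.symm hsne) with h' | h'
        · exact h'
        · exfalso
          have h5 : b • ee (n + 1) = b • (s • ee (n + 1)) := h'.trans h.symm
          exact hsne (smul_left_cancel b h5).symm
    have h3 := Subgroup.relIndex_mul_relIndex (⊥ : Subgroup G) _ _ bot_le hle
    rw [Subgroup.relIndex_bot_left, Subgroup.relIndex_bot_left, hidx] at h3
    omega
  have hPT : ∀ m, (∀ j, j + 1 < m → ¬ Stop G ee (j + 1)) → ∀ f : ℕ → E,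
      (∀ j, j + 1 < m → R (f j) (f (j + 1))) → ∃ h : G, ∀ j < m, h • ee j = f j := by
    intro m
    induction m with
    | zero =>
      intro _ f _
      exact ⟨1, fun j hj => absurd hj (Nat.not_lt_zero j)⟩
    | succ m ih =>
      intro hns f hf
      rcases Nat.eq_zero_or_pos m with hm | hm
      · subst hm
        obtain ⟨h, hh⟩ := MulAction.exists_smul_eq G (ee 0) (f 0)
        refine ⟨h, fun j hj => ?_⟩
        have hj0 : j = 0 := by omega
        rw [hj0]
        exact hh
      · obtain ⟨n, rfl⟩ : ∃ n, m = n + 1 := ⟨m - 1, by omega⟩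
        obtain ⟨h, hh⟩ := ih (fun j hj => hns j (by omega)) f (fun j hj => hf j (by omega))
        have ha : R (ee n) (h⁻¹ • f (n + 1)) := by
          have h1 := hI h⁻¹ _ _ (hf n (by omega))
          rw [← hh n (by omega), inv_smul_smul] at h1
          exact h1
        obtain ⟨t, ht, hta⟩ := trans_succ n (hns n (by omega)) _ ha
        refine ⟨h * t, ?_⟩
        intro j hj
        by_cases hjn : j = n + 1
        · rw [hjn, mul_smul, hta, smul_inv_smul]
        · rw [mul_smul, mem_St.mp ht j (by omega)]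
          exact hh j (by omega)
  have hS1 : Nat.card (St G ee 1) = 2 ^ k := by
    have h1 : St G ee 1 = stabilizer G (ee 0) := by
      ext t
      rw [mem_St, mem_stabilizer_iff]
      constructor
      · intro h
        exact h 0 Nat.one_pos
      · intro h j hj
        have hj0 : j = 0 := by omega
        rw [hj0]
        exact h
    rw [h1]
    exact hcard _
  have hQ : ∀ n, (∀ j < n, ¬ Stop G ee (j + 1)) →
      Nat.card (St G ee 1) = 2 ^ n * Nat.card (St G ee (n + 1)) := by
    intro n
    induction n with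
    | zero =>
      intro _
      simp
    | succ n ih =>
      intro h
      rw [ih (fun j hj => h j (by omega)), hdouble n (h n (Nat.lt_succ_self n)), pow_succ]
      ring
  have hex : ∃ n, Stop G ee (n + 1) := by
    by_contra hcon
    have hcon' : ∀ n, ¬ Stop G ee (n + 1) := fun n hn => hcon ⟨n, hn⟩
    have h1 := hQ (k + 1) (fun j _ => hcon' j)
    rw [hS1] at h1
    have hpos : 0 < Nat.card (St G ee (k + 1 + 1)) := Nat.card_pos
    have h4 : 2 ^ (k + 1) ≤ 2 ^ (k + 1) * Nat.card (St G ee (k + 1 + 1)) :=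
      Nat.le_mul_of_pos_right _ hpos
    have h3 : 2 ^ k < 2 ^ (k + 1) := Nat.pow_lt_pow_right (by norm_num) (Nat.lt_succ_self k)
    omega
  obtain ⟨n0, hn0, hmin⟩ : ∃ n0, Stop G ee (n0 + 1) ∧ ∀ j < n0, ¬ Stop G ee (j + 1) :=
    ⟨Nat.find hex, Nat.find_spec hex, fun j hj => Nat.find_min hex hj⟩
  have hFx : ∀ a, R (ee n0) a → ∀ s ∈ St G ee (n0 + 1), s • a = a := by
    intro a ha s hs
    by_cases hae : a = ee (n0 + 1)
    · rw [hae]
      exact hn0 s hs
    · have h1 : R (ee n0) (s • a) := hfix_succ n0 s hs a ha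
      rcases two_succ R h2 (ee n0) (ee (n0 + 1)) a (s • a) (hpath n0) ha h1 (Ne.symm hae)
        with h | h
      · exfalso
        apply hae
        have h3 : s • a = s • ee (n0 + 1) := by rw [h, hn0 s hs]
        exact smul_left_cancel s h3
      · exact h
  have hPT0 := hPT (n0 + 1) (fun j hj => hmin j (by omega))
  have hconj : ∀ p : ℤ → E, (∀ i, R (p i) (p (i + 1))) → ∀ i : ℤ,
      ∃ h : G, ∀ j < n0 + 1, h • ee j = p (i + j) := by
    intro p hp i
    apply hPT0 (fun j : ℕ => p (i + j))
    intro j _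
    have h1 := hp (i + j)
    have e : i + ((j + 1 : ℕ) : ℤ) = i + j + 1 := by push_cast; ring
    show R (p (i + (j : ℤ))) (p (i + ((j + 1 : ℕ) : ℤ)))
    rw [e]
    exact h1
  have hconjmem : ∀ (p : ℤ → E) (i : ℤ) (h : G), (∀ j < n0 + 1, h • ee j = p (i + j)) →
      ∀ t, t ∈ St G (fun j : ℕ => p (i + j)) (n0 + 1) ↔ h⁻¹ * t * h ∈ St G ee (n0 + 1) := by
    intro p i h hh t
    rw [mem_St, mem_St]
    constructor
    · intro ht j hj
      have h1 : t • p (i + j) = p (i + j) := ht j hj
      rw [← hh j hj] at h1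
      rw [mul_smul, mul_smul, h1, inv_smul_smul]
    · intro ht j hj
      have h1 := ht j hj
      show t • p (i + j) = p (i + j)
      rw [← hh j hj]
      rw [mul_smul, mul_smul] at h1
      exact inv_smul_eq_iff.mp h1
  have hcardw : ∀ p : ℤ → E, (∀ i, R (p i) (p (i + 1))) → ∀ i : ℤ,
      Nat.card (St G (fun j : ℕ => p (i + j)) (n0 + 1)) = Nat.card (St G ee (n0 + 1)) := by
    intro p hp i
    obtain ⟨h, hh⟩ := hconj p hp i
    exact card_eq_of_conj _ _ h (hconjmem p i h hh)
  have hwin : ∀ p : ℤ → E, (∀ i, R (p i) (p (i + 1))) → ∀ i : ℤ,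
      St G (fun j : ℕ => p (i + j)) (n0 + 1) = St G (fun j : ℕ => p (i + 1 + j)) (n0 + 1) := by
    intro p hp i
    obtain ⟨h, hh⟩ := hconj p hp i
    apply Subgroup.eq_of_le_of_card_ge
    · intro t ht
      have hs : h⁻¹ * t * h ∈ St G ee (n0 + 1) := (hconjmem p i h hh t).mp ht
      rw [mem_St] at ht ⊢
      intro j hj
      show t • p (i + 1 + j) = p (i + 1 + j)
      by_cases hjn : j < n0
      · have h1 : t • p (i + ((j + 1 : ℕ) : ℤ)) = p (i + ((j + 1 : ℕ) : ℤ)) :=
          ht (j + 1) (by omega)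
        have e : i + ((j + 1 : ℕ) : ℤ) = i + 1 + j := by push_cast; ring
        rw [e] at h1
        exact h1
      · have hjn' : j = n0 := by omega
        rw [hjn']
        have hR : R (ee n0) (h⁻¹ • p (i + 1 + n0)) := by
          have h1 := hI h⁻¹ _ _ (hp (i + n0))
          rw [← hh n0 (by omega), inv_smul_smul] at h1
          have e : i + (n0 : ℤ) + 1 = i + 1 + n0 := by ring
          rw [e] at h1
          exact h1
        have h3 := hFx _ hR _ hs
        rw [mul_smul, mul_smul, smul_inv_smul] at h3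
        exact smul_left_cancel _ h3
    · exact le_of_eq ((hcardw p hp (i + 1)).trans (hcardw p hp i).symm)
  have hwin_all : ∀ p : ℤ → E, (∀ i, R (p i) (p (i + 1))) → ∀ i i' : ℤ,
      St G (fun j : ℕ => p (i + j)) (n0 + 1) = St G (fun j : ℕ => p (i' + j)) (n0 + 1) := by
    intro p hp
    have h0 : ∀ i : ℤ, St G (fun j : ℕ => p (i + j)) (n0 + 1) =
        St G (fun j : ℕ => p (0 + j)) (n0 + 1) := by
      intro i
      induction i using Int.induction_on with
      | zero => rfl
      | succ n ih =>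
        rw [← hwin p hp n]
        exact ih
      | pred n ih =>
        have h1 := hwin p hp (-(n : ℤ) - 1)
        rw [sub_add_cancel] at h1
        rw [h1]
        exact ih
    intro i i'
    rw [h0 i, h0 i']
  obtain ⟨sc, hsc⟩ : ∃ sc : E → E, ∀ e, R e (sc e) := by
    have h1 : ∀ e, ∃ e', R e e' := by
      intro e
      obtain ⟨x, y, -, hset⟩ := Set.ncard_eq_two.mp (h2 e)
      have hx : x ∈ {e' : E | R e e'} := by
        rw [hset]
        exact Set.mem_insert x {y}
      exact ⟨x, hx⟩
    choose sc hsc using h1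
    exact ⟨sc, hsc⟩
  obtain ⟨pr, hpr⟩ : ∃ pr : E → E, ∀ e, R (pr e) e := by
    have h1 : ∀ e, ∃ e', R e' e := by
      intro e
      obtain ⟨h, hh⟩ := MulAction.exists_smul_eq G (ee (0 + 1)) e
      refine ⟨h • ee 0, ?_⟩
      have h3 := hI h _ _ (hpath 0)
      rw [hh] at h3
      exact h3
    choose pr hpr using h1
    exact ⟨pr, hpr⟩
  obtain ⟨C, hCdef⟩ : ∃ C : Set E, C = {v | ∃ p : ℤ → E, (∀ i, R (p i) (p (i + 1))) ∧
      St G (fun j : ℕ => p (0 + j)) (n0 + 1) = St G ee (n0 + 1) ∧ ∃ i, p i = v} := ⟨_, rfl⟩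
  have hCne : C.Nonempty := by
    refine ⟨e₀, ?_⟩
    rw [hCdef]
    refine ⟨fun i : ℤ => g ^ i • e₀, ?_, ?_, 0, ?_⟩
    · intro i
      show R (g ^ i • e₀) (g ^ (i + 1) • e₀)
      rw [zpow_add_one, mul_smul]
      exact hI _ _ _ hg
    · apply St_congr
      intro j _
      show g ^ ((0 : ℤ) + j) • e₀ = ee j
      rw [hee', zero_add, zpow_natCast]
    · show g ^ (0 : ℤ) • e₀ = e₀
      rw [zpow_zero, one_smul]
  have hCcl : ∀ e e' : E, R e e' → (e ∈ C ↔ e' ∈ C) := by
    intro e e' hR
    rw [hCdef]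
    constructor
    · rintro ⟨p, hp, hw, i, rfl⟩
      obtain ⟨p', hp'⟩ : ∃ p' : ℤ → E,
          p' = fun j : ℤ => if j ≤ i then p j else sc^[(j - i).toNat - 1] e' := ⟨_, rfl⟩
      have hp'1 : ∀ j, j ≤ i → p' j = p j := by
        intro j hj
        rw [hp']
        exact if_pos hj
      have hp'2 : ∀ j, ¬ j ≤ i → p' j = sc^[(j - i).toNat - 1] e' := by
        intro j hj
        rw [hp']
        exact if_neg hj
      have hpath' : ∀ j, R (p' j) (p' (j + 1)) := by
        intro j
        by_cases h1 : j + 1 ≤ i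
        · rw [hp'1 j (by omega), hp'1 (j + 1) h1]
          exact hp j
        · by_cases h3 : j = i
          · rw [hp'1 j (by omega), hp'2 (j + 1) h1, h3]
            have e1 : (i + 1 - i).toNat - 1 = 0 := by omega
            rw [e1]
            exact hR
          · rw [hp'2 j (by omega), hp'2 (j + 1) h1]
            have e1 : (j + 1 - i).toNat - 1 = ((j - i).toNat - 1) + 1 := by omega
            rw [e1, Function.iterate_succ_apply']
            exact hsc _
      refine ⟨p', hpath', ?_, i + 1, ?_⟩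
      · rw [hwin_all p' hpath' 0 (i - n0), ← hw, hwin_all p hp 0 (i - n0)]
        apply St_congr
        intro j hj
        show p' (i - n0 + j) = p (i - n0 + j)
        exact hp'1 _ (by omega)
      · rw [hp'2 (i + 1) (by omega)]
        have e1 : (i + 1 - i).toNat - 1 = 0 := by omega
        rw [e1]
        rfl
    · rintro ⟨p, hp, hw, i, rfl⟩
      obtain ⟨p', hp'⟩ : ∃ p' : ℤ → E,
          p' = fun j : ℤ => if i ≤ j then p j else pr^[(i - j).toNat - 1] e := ⟨_, rfl⟩
      have hp'1 : ∀ j, i ≤ j → p' j = p j := by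
        intro j hj
        rw [hp']
        exact if_pos hj
      have hp'2 : ∀ j, ¬ i ≤ j → p' j = pr^[(i - j).toNat - 1] e := by
        intro j hj
        rw [hp']
        exact if_neg hj
      have hpath' : ∀ j, R (p' j) (p' (j + 1)) := by
        intro j
        by_cases h1 : i ≤ j
        · rw [hp'1 j h1, hp'1 (j + 1) (by omega)]
          exact hp j
        · by_cases h3 : j + 1 = i
          · rw [hp'2 j h1, hp'1 (j + 1) (by omega), h3]
            have e1 : (i - j).toNat - 1 = 0 := by omega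
            rw [e1]
            exact hR
          · rw [hp'2 j h1, hp'2 (j + 1) (by omega)]
            have e1 : (i - j).toNat - 1 = ((i - (j + 1)).toNat - 1) + 1 := by omega
            rw [e1, Function.iterate_succ_apply']
            exact hpr _
      refine ⟨p', hpath', ?_, i - 1, ?_⟩
      · rw [hwin_all p' hpath' 0 i, ← hw, hwin_all p hp 0 i]
        apply St_congr
        intro j hj
        show p' (i + j) = p (i + j)
        exact hp'1 _ (by omega)
      · rw [hp'2 (i - 1) (by omega)]
        have e1 : (i - (i - 1)).toNat - 1 = 0 := by omega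
        rw [e1]
        rfl
  have hCuniv : C = Set.univ := hC C hCne hCcl
  have hbot : ∀ s ∈ St G ee (n0 + 1), s = 1 := by
    intro s hs
    apply hF
    intro v
    have hv : v ∈ C := by
      rw [hCuniv]
      exact Set.mem_univ v
    rw [hCdef] at hv
    obtain ⟨p, hp, hw, i, rfl⟩ := hv
    have h1 : s ∈ St G (fun j : ℕ => p (i + j)) (n0 + 1) := by
      rw [hwin_all p hp i 0, hw]
      exact hs
    have h3 : s • p (i + ((0 : ℕ) : ℤ)) = p (i + ((0 : ℕ) : ℤ)) :=
      mem_St.mp h1 0 (Nat.succ_pos _)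
    simpa using h3
  have hcard0 : Nat.card (St G ee (n0 + 1)) = 1 := by
    have h1 : St G ee (n0 + 1) = ⊥ := by
      rw [eq_bot_iff]
      intro s hs
      rw [Subgroup.mem_bot]
      exact hbot s hs
    rw [h1]
    exact Subgroup.card_bot
  have hk : n0 = k := by
    have h1 := hQ n0 hmin
    rw [hS1, hcard0, mul_one] at h1
    exact (Nat.pow_right_injective (le_refl 2) h1).symm
  intro m hm1 hmk
  obtain ⟨n, rfl⟩ : ∃ n, m = n + 1 := ⟨m - 1, by omega⟩
  have h3 := hQ n (fun j hj => hmin j (by omega))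
  rw [hS1] at h3
  have h4 : 2 ^ k = 2 ^ n * 2 ^ (k - n) := by
    rw [← pow_add]
    congr 1
    omega
  have h5 := Nat.eq_of_mul_eq_mul_left (pow_pos (by norm_num : 0 < 2) n) (h3.symm.trans h4)
  rw [h5]
  congr 1
  omega

end Cfsg.Agent.H62.Tt
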